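import Cfsg.Agent.Lib.SmallGroups.SimpleTools
import Cfsg.Agent.Lib.SmallGroups.CofactorTools
import Cfsg.Agent.Lib.DegreeTools.Basic
import Cfsg.Agent.Lib.Blocks.Basic
import Cfsg.Agent.Lib.Char.Integral
import Cfsg.Agent.S0144

/-!
# Character facts for simple groups of order `9 * 2 ^ a * q ^ b`
-/

set_option autoImplicit false

open scoped Classical

namespace CfsgLib.SmallGroups.NineTwoPrimes

open Cfsg CfsgLib.Char CfsgLib.Blocks

variable {G : Type*} [Group G] [Fintype G]

theorem value_lt [IsSimpleGroup G] (hG : ¬ IsMulCommutative G) {χ : IrrCharacter G} (hne : χ ≠ trivChar G)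
    {g : G} (hg : g ≠ 1) : ‖(χ : G → ℂ) g‖ ≠ charDegree (χ : G → ℂ) := fun h => hg (by
  have := DegreeTools.mem_center_of_norm_eq χ (Cofactor.faithful hne) g h
  rwa [SimpleTools.center_eq_bot hG, Subgroup.mem_bot] at this)

theorem value_eq_zero [IsSimpleGroup G] (hG : ¬ IsMulCommutative G) {χ : IrrCharacter G} (hne : χ ≠ trivChar G)
    {g : G} (hg : g ≠ 1)
    (hco : ((Subgroup.centralizer ({g} : Set G)).index).Coprime (charDegree (χ : G → ℂ))) :
    (χ : G → ℂ) g = 0 :=
  (DegreeTools.eq_zero_or_norm_eq_of_coprime χ g hco).resolve_right (value_lt hG hne hg)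

/-- A unit value forces the degree into the index of the centralizer. -/
theorem degree_dvd_index {χ : IrrCharacter G} {g : G} (h : (χ : G → ℂ) g = 1 ∨ (χ : G → ℂ) g = -1) :
    charDegree (χ : G → ℂ) ∣ (Subgroup.centralizer ({g} : Set G)).index := by
  have h1 := isIntegral_centralChar χ g
  rw [centralChar, irr_one_eq] at h1
  refine dvd_of_isIntegral_div (charDegree_pos χ).ne' ?_
  rcases h with h | h <;> rw [h] at h1
  · simpa using h1
  · have := h1.neg
    simpa [neg_div] using this

/-- The centralizer of an element with `q` distinct eigenvalues in a faithful representation is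
commutative. -/
theorem cent_comm {q : ℕ} {χ : IrrCharacter G} (hdeg : charDegree (χ : G → ℂ) = q)
    (hf : ∀ g : G, (χ : G → ℂ) g = (χ : G → ℂ) 1 → g = 1) {z : G} (hz : orderOf z = q)
    (hval : ∀ k, 0 < k → k < q → (χ : G → ℂ) (z ^ k) = 0) {g h : G} (hg : Commute g z)
    (hh : Commute h z) : Commute g h := by
  obtain ⟨n, ρ, -, hρ⟩ := χ.2
  obtain ⟨b, μ, hμ, hb⟩ := exists_eigenbasis ρ z
  have hfin : Module.finrank ℂ (Fin n → ℂ) = q := hdeg ▸
    Nat.cast_injective (R := ℂ) (by rw [← Representation.char_one ρ, hρ, irr_one_eq])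
  rw [hz] at hμ
  have hsum : ∀ k : ℕ, k < q → ∑ i, μ i ^ k = if k = 0 then (q : ℂ) else 0 := by
    intro k hk
    rw [← trace_eq_sum_of_eigen (ρ (z ^ k)) b (fun i => μ i ^ k) (hb k)]
    show ρ.character (z ^ k) = _
    rw [hρ]
    split_ifs with h0
    · rw [h0, pow_zero, irr_one_eq, hdeg]
    · exact hval k (Nat.pos_of_ne_zero h0) hk
  have hq0 : q ≠ 0 := hz ▸ (orderOf_pos z).ne'
  have hinj : Function.Injective μ := by
    intro x y hxy
    by_contra hne
    have hx0 : μ x ≠ 0 := fun e => by
      have := hμ x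
      rw [e, zero_pow hq0] at this
      exact zero_ne_one this
    have h1 : ∑ k ∈ Finset.range q, ∑ i, (μ i / μ x) ^ k = (q : ℂ) := by
      rw [Finset.sum_eq_single_of_mem 0 (Finset.mem_range.2 (Nat.pos_of_ne_zero hq0))
        (fun k hk hk0 => by
          simp only [div_pow]
          rw [← Finset.sum_div, hsum k (Finset.mem_range.1 hk), if_neg hk0, zero_div])]
      simp only [pow_zero, Finset.sum_const, Finset.card_univ, Fintype.card_fin, nsmul_eq_mul, mul_one]
      rw [hfin]
    rw [Finset.sum_comm] at h1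
    have h2 : ∀ i, ∑ k ∈ Finset.range q, (μ i / μ x) ^ k = if μ i = μ x then (q : ℂ) else 0 := by
      intro i
      split_ifs with e
      · rw [e, div_self hx0]; simp
      · rw [geom_sum_eq (fun e' => e ((div_eq_one_iff_eq hx0).1 e')), div_pow, hμ i, hμ x]
        simp
    rw [Finset.sum_congr rfl fun i _ => h2 i, Finset.sum_ite, Finset.sum_const_zero, add_zero,
      Finset.sum_const, nsmul_eq_mul] at h1
    have h3 : (Finset.univ.filter fun i => μ i = μ x).card = 1 := by
      have hq' : (q : ℂ) ≠ 0 := Nat.cast_ne_zero.2 hq0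
      exact_mod_cast (mul_eq_right₀ hq').1 h1
    obtain ⟨w, hw⟩ := Finset.card_eq_one.1 h3
    have hx : x ∈ ({w} : Finset _) := hw ▸ Finset.mem_filter.2 ⟨Finset.mem_univ _, rfl⟩
    have hy : y ∈ ({w} : Finset _) := hw ▸ Finset.mem_filter.2 ⟨Finset.mem_univ _, hxy.symm⟩
    exact hne ((Finset.mem_singleton.1 hx).trans (Finset.mem_singleton.1 hy).symm)
  have hb1 : ∀ i, ρ z (b i) = μ i • b i := fun i => by simpa using hb 1 i
  have hdiag : ∀ w : G, Commute w z → ∀ i, ρ w (b i) = b.repr (ρ w (b i)) i • b i := by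
    intro w hw i
    set v := ρ w (b i)
    have hv : ρ z v = μ i • v := by
      rw [← Module.End.mul_apply, ← map_mul, ← hw.eq, map_mul, Module.End.mul_apply, hb1, map_smul]
    have hc : ∀ j, j ≠ i → b.repr v j = 0 := by
      intro j hj
      have h1 : b.repr (ρ z v) j = μ j * b.repr v j := by
        conv_lhs => rw [← b.sum_repr v]
        simp only [map_sum, map_smul, hb1, Finset.sum_apply', Finsupp.smul_apply, smul_eq_mul]
        rw [Finset.sum_eq_single j (fun l _ hl => by simp [hl.symm]) (by simp)]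
        simp
        ring
      rw [hv, map_smul, Finsupp.smul_apply, smul_eq_mul] at h1
      by_contra hne
      exact hj (hinj (mul_right_cancel₀ hne h1).symm)
    conv_lhs => rw [← b.sum_repr v]
    exact Finset.sum_eq_single i (fun j _ hj => by rw [hc j hj, zero_smul]) (by simp)
  have hcomm : ρ g * ρ h = ρ h * ρ g := b.ext fun i => by
    have e1 := hdiag g hg i
    have e2 := hdiag h hh i
    generalize b.repr (ρ g (b i)) i = c1 at e1
    generalize b.repr (ρ h (b i)) i = c2 at e2
    rw [Module.End.mul_apply, Module.End.mul_apply, e2, map_smul, e1, map_smul, e2, smul_comm]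
  have h1 : ρ (g * h * (h * g)⁻¹) = 1 := by
    rw [map_mul, map_mul, hcomm, ← map_mul, ← map_mul, mul_inv_cancel, map_one]
  have h2 : g * h * (h * g)⁻¹ = 1 := hf _ (by
    rw [← hρ]
    show LinearMap.trace ℂ _ (ρ _) = LinearMap.trace ℂ _ (ρ 1)
    rw [h1, map_one ρ])
  exact mul_inv_eq_one.1 h2

omit [Fintype G] in
/-- A simple nonabelian group involves at least three primes. -/
theorem not_two_primes [Finite G] [IsSimpleGroup G] (hG : ¬ IsMulCommutative G) {p q a b : ℕ}
    (hp : p.Prime) (hq : q.Prime) : Nat.card G ≠ p ^ a * q ^ b := fun h => by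
  haveI := Cfsg.Agent.S0144.result p q a b hp hq h
  rcases (inferInstance : (commutator G).Normal).eq_bot_or_eq_top with hb | hb
  · exact hG ⟨⟨fun x y => commutatorElement_eq_one_iff_mul_comm.mp (Subgroup.mem_bot.mp
      (hb ▸ Subgroup.commutator_mem_commutator (Subgroup.mem_top x) (Subgroup.mem_top y)))⟩⟩
  · exact (Group.IsSolvable.commutator_lt_top_of_nontrivial G).ne hb

end CfsgLib.SmallGroups.NineTwoPrimes
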