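import Mathlib

/-!
# Powers of two next to powers of odd primes
-/

set_option autoImplicit false

namespace CfsgLib.SmallGroups.NineTwoPrimes

theorem add_one_odd_pow (q : ℤ) (hq : Odd q) : ∀ m : ℕ, ∃ o : ℤ, Odd o ∧ q ^ (2 * m + 1) + 1 = (q + 1) * o := by
  intro m
  induction m with
  | zero => exact ⟨1, odd_one, by ring⟩
  | succ m ih =>
    obtain ⟨o, ho, he⟩ := ih
    refine ⟨q ^ 2 * o - (q - 1), ?_, ?_⟩
    · have h1 : Odd (q ^ 2 * o) := hq.pow.mul ho
      exact h1.sub_even (hq.sub_odd odd_one)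
    · calc q ^ (2 * (m + 1) + 1) + 1 = q ^ 2 * (q ^ (2 * m + 1) + 1) - (q ^ 2 - 1) := by ring
        _ = _ := by rw [he]; ring

theorem sub_one_odd_pow (q : ℤ) (hq : Odd q) : ∀ m : ℕ, ∃ o : ℤ, Odd o ∧ q ^ (2 * m + 1) - 1 = (q - 1) * o := by
  intro m
  induction m with
  | zero => exact ⟨1, odd_one, by ring⟩
  | succ m ih =>
    obtain ⟨o, ho, he⟩ := ih
    refine ⟨q ^ 2 * o + (q + 1), ?_, ?_⟩
    · have h1 : Odd (q ^ 2 * o) := hq.pow.mul ho
      exact h1.add_even (hq.add_odd odd_one)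
    · calc q ^ (2 * (m + 1) + 1) - 1 = q ^ 2 * (q ^ (2 * m + 1) - 1) + (q ^ 2 - 1) := by ring
        _ = _ := by rw [he]; ring

theorem odd_factor_eq_one {o : ℤ} {i : ℕ} (ho : Odd o) (hpos : 0 < o) (hd : o ∣ 2 ^ i) : o = 1 := by
  obtain ⟨k, rfl⟩ : ∃ k : ℕ, o = k := ⟨o.toNat, (Int.toNat_of_nonneg hpos.le).symm⟩
  have hd' : k ∣ 2 ^ i := by exact_mod_cast hd
  obtain ⟨l, -, rfl⟩ := (Nat.dvd_prime_pow Nat.prime_two).1 hd'
  rcases l with _ | l
  · simp
  · exfalso
    rw [Int.odd_coe_nat, Nat.odd_pow_iff (by omega)] at ho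
    exact absurd ho (by decide)

/-- A power of an odd prime other than three next to a power of two is the prime itself. -/
theorem exponent_eq_one {q i j : ℕ} (hq : q.Prime) (hq2 : q ≠ 2) (hq3 : q ≠ 3) (hj : j ≠ 0)
    (h : 2 ^ i + 1 = q ^ j ∨ q ^ j + 1 = 2 ^ i) : j = 1 := by
  have hodd : Odd q := hq.odd_of_ne_two hq2
  have h5 : 5 ≤ q := by
    have := hq.two_le
    have : q ≠ 4 := by rintro rfl; norm_num at hq
    omega
  have hoddz : Odd (q : ℤ) := by exact_mod_cast hodd
  rcases Nat.even_or_odd j with hev | ho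
  · exfalso
    obtain ⟨k, rfl⟩ := hev
    have hk : k ≠ 0 := by omega
    rw [pow_add] at h
    have hqk : 5 ≤ q ^ k := h5.trans (Nat.le_self_pow hk q)
    have hok : Odd (q ^ k) := hodd.pow
    rcases h with h | h
    · obtain ⟨M, hM⟩ : ∃ M, q ^ k = M + 1 := ⟨q ^ k - 1, by omega⟩
      rw [hM] at h hqk
      have hd : M * (M + 2) = 2 ^ i := by linarith
      obtain ⟨a, -, ha⟩ := (Nat.dvd_prime_pow Nat.prime_two).1 (⟨_, hd.symm⟩ : M ∣ 2 ^ i)
      obtain ⟨c, -, hc⟩ := (Nat.dvd_prime_pow Nat.prime_two).1 (⟨M, by rw [mul_comm, hd]⟩ : M + 2 ∣ 2 ^ i)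
      subst ha
      have hlt : a < c := (Nat.pow_lt_pow_iff_right (by norm_num)).1 (by omega : (2 : ℕ) ^ a < 2 ^ c)
      have := Nat.pow_le_pow_right (show 0 < 2 by norm_num) (Nat.succ_le_of_lt hlt)
      rw [Nat.succ_eq_add_one, pow_succ] at this
      omega
    · obtain ⟨l, hl⟩ := hok
      rw [hl] at h hqk
      rcases i with _ | _ | i
      · norm_num at h
      · norm_num at h; nlinarith
      · have : 4 ∣ (2 * l + 1) * (2 * l + 1) + 1 := ⟨2 ^ i, by rw [h]; ring⟩
        have e : (2 * l + 1) * (2 * l + 1) + 1 = 4 * (l * l + l) + 2 := by ring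
        omega
  · obtain ⟨m, rfl⟩ := ho
    rcases h with h | h
    · obtain ⟨o, ho, he⟩ := sub_one_odd_pow q hoddz m
      have h2 : ((q : ℤ) - 1) * o = 2 ^ i := by
        rw [← he]
        have : ((q ^ (2 * m + 1) : ℕ) : ℤ) = ((2 ^ i + 1 : ℕ) : ℤ) := by rw [h]
        push_cast at this
        rw [this]; ring
      have hpos : 0 < o := by
        by_contra hn
        push Not at hn
        have : (0 : ℤ) < 2 ^ i := by positivity
        have : (5 : ℤ) ≤ q := by exact_mod_cast h5
        nlinarith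
      rw [odd_factor_eq_one ho hpos ⟨_, by rw [← h2, mul_comm]⟩, mul_one] at h2
      have h3 : q ^ (2 * m + 1) = q := by
        have : ((q ^ (2 * m + 1) : ℕ) : ℤ) = (q : ℤ) := by push_cast [← h]; linarith
        exact_mod_cast this
      exact (Nat.pow_right_injective hq.two_le) (h3.trans (pow_one q).symm)
    · obtain ⟨o, ho, he⟩ := add_one_odd_pow q hoddz m
      have h2 : ((q : ℤ) + 1) * o = 2 ^ i := by
        rw [← he]; exact_mod_cast h
      have hpos : 0 < o := by
        by_contra hn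
        push Not at hn
        have : (0 : ℤ) < 2 ^ i := by positivity
        have : (5 : ℤ) ≤ q := by exact_mod_cast h5
        nlinarith
      rw [odd_factor_eq_one ho hpos ⟨_, by rw [← h2, mul_comm]⟩, mul_one] at h2
      have h3 : q ^ (2 * m + 1) = q := by
        have : ((q ^ (2 * m + 1) + 1 : ℕ) : ℤ) = ((q + 1 : ℕ) : ℤ) := by rw [h]; push_cast; linarith
        have h4 : q ^ (2 * m + 1) + 1 = q + 1 := by exact_mod_cast this
        omega
      exact (Nat.pow_right_injective hq.two_le) (h3.trans (pow_one q).symm)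

/-- The degree congruences force the degree `H` on every nonexceptional character. -/
theorem signed_degree {i : ℕ} (hi : 5 ≤ i) {q : ℕ} (hq : q + 1 = 2 ^ i) {a : ℤ}
    (ha2 : 2 ≤ a.natAbs) (hdvd : a.natAbs ∣ 9 * 2 ^ i) (hcong : a ≡ 1 [ZMOD q]) : a = 2 ^ i := by
  obtain ⟨c, v, hc, hv, hcv⟩ := Nat.dvd_mul.1 hdvd
  obtain ⟨k, hk, rfl⟩ := (Nat.dvd_prime_pow Nat.prime_two).1 hv
  have hcm : c ∈ Nat.divisors 9 := Nat.mem_divisors.2 ⟨hc, by norm_num⟩
  rw [show Nat.divisors 9 = {1, 3, 9} from by decide] at hcm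
  simp only [Finset.mem_insert, Finset.mem_singleton] at hcm
  have h32 : 32 ≤ 2 ^ i := by
    calc 32 = 2 ^ 5 := by norm_num
      _ ≤ 2 ^ i := Nat.pow_le_pow_right (by norm_num) hi
  have hH : (q : ℤ) + 1 = 2 ^ i := by exact_mod_cast hq
  have hq31 : (31 : ℤ) ≤ q := by omega
  -- multiplied by the complementary power of two
  set v : ℕ := 2 ^ (i - k) with hv'
  have hvk : 2 ^ k * v = 2 ^ i := by rw [hv', ← pow_add, Nat.add_sub_cancel' hk]
  have hvkz : ((2 ^ k : ℕ) : ℤ) * (v : ℤ) = 2 ^ i := by exact_mod_cast hvk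
  obtain ⟨t, ht⟩ := Int.modEq_iff_dvd.1 hcong
  -- t : 1 - a = q * t
  have hvle : v ≤ 2 ^ i := Nat.pow_le_pow_right (by norm_num) (Nat.sub_le i k)
  rcases Int.natAbs_eq a with ha | ha <;> rw [← hcv] at ha <;> push_cast at ha
  · have hkey : (q : ℤ) ∣ (v : ℤ) - c := by
      refine ⟨t * v + c, ?_⟩
      have h1 : (v : ℤ) - a * v = q * t * v := by rw [← ht]; ring
      have h2 : a * v = c * ((q : ℤ) + 1) := by rw [ha, hH, ← hvkz]; push_cast; ring
      linear_combination h1 + h2
    obtain ⟨s, hs⟩ := hkey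
    have hs0 : s = 0 ∨ (v : ℤ) = 2 ^ i := by
      by_contra hcon
      push Not at hcon
      obtain ⟨hs0, hvne⟩ := hcon
      have hk0 : k ≠ 0 := fun e => hvne (by rw [hv', e, Nat.sub_zero]; push_cast; rfl)
      have hv2 : 2 * v ≤ 2 ^ i := by
        rw [hv', ← pow_succ']
        exact Nat.pow_le_pow_right (by norm_num) (by omega)
      have hv2z : 2 * (v : ℤ) ≤ q + 1 := by rw [hH]; exact_mod_cast hv2
      rcases lt_or_gt_of_ne hs0 with hneg | hneg
      · have : (q : ℤ) * s ≤ -q := by nlinarith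
        omega
      · have : (q : ℤ) ≤ q * s := by nlinarith
        omega
    rcases hs0 with hs0 | hs0
    · rw [hs0, mul_zero, sub_eq_zero] at hs
      have hvc : v = c := by exact_mod_cast hs
      rcases Nat.eq_zero_or_pos (i - k) with e | e
      · have hki : k = i := by omega
        rw [hv', e, pow_zero] at hvc
        rw [ha, ← hvc, hki]; push_cast; ring
      · exfalso
        have : 2 ∣ v := dvd_pow_self 2 (by omega)
        rw [hvc] at this
        omega
    · exfalso
      have hvi : v = 2 ^ i := by exact_mod_cast hs0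
      have hk0 : k = 0 := by
        have := Nat.pow_right_injective le_rfl (hv' ▸ hvi : 2 ^ (i - k) = 2 ^ i)
        omega
      subst hk0
      rw [pow_zero, mul_one] at hcv
      rw [pow_zero, mul_one] at ha
      obtain ⟨r, hr⟩ : (q : ℤ) ∣ 1 - a := ⟨t, ht⟩
      rcases le_or_gt 0 r with hr0 | hr0
      · rcases hr0.eq_or_lt with hr1 | hr1
        · rw [← hr1, mul_zero] at hr; omega
        · have : (q : ℤ) ≤ q * r := by nlinarith
          omega
      · have : (q : ℤ) * r ≤ -q := by nlinarith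
        omega
  · exfalso
    have hkey : (q : ℤ) ∣ (v : ℤ) + c := by
      refine ⟨t * v - c, ?_⟩
      have h1 : (v : ℤ) - a * v = q * t * v := by rw [← ht]; ring
      have h2 : a * v = -c * ((q : ℤ) + 1) := by rw [ha, hH, ← hvkz]; push_cast; ring
      linear_combination h1 + h2
    obtain ⟨s, hs⟩ := hkey
    rcases le_or_gt s 1 with hs1 | hs1
    · have hs' : s = 1 := by
        have : (0 : ℤ) < q * s := by
          rw [← hs]
          have : 1 ≤ c := by omega
          have : 0 < v := Nat.two_pow_pos _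
          omega
        nlinarith
      rw [hs', mul_one] at hs
      have hvc : v + c + 1 = 2 ^ i := by omega
      by_cases hk0 : k = 0
      · rw [hv', hk0, Nat.sub_zero] at hvc; omega
      · have hv2 : 2 * v ≤ 2 ^ i := by
          rw [hv', ← pow_succ']
          exact Nat.pow_le_pow_right (by norm_num) (by omega)
        omega
    · have : (q : ℤ) * 2 ≤ q * s := by nlinarith
      have hvz : (v : ℤ) ≤ q + 1 := by rw [hH]; exact_mod_cast hvle
      omega

end CfsgLib.SmallGroups.NineTwoPrimes
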