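import Cfsg.Agent.Lib.SmallGroups.NineTwoPrimes.Arith
import Cfsg.Agent.Lib.SmallGroups.NineTwoPrimes.Facts
import Cfsg.Agent.Lib.SmallGroups.BlockDegrees
import Cfsg.Agent.Lib.SmallGroups.PrimeDegree
import Cfsg.Agent.Lib.Char.InvertedOdd

/-!
# Simple groups of order `9 * 2 ^ a * q ^ b` with an inverted self-centralizing Sylow 3-subgroup

The two characters of the decomposition have degrees `2 ^ i` and `q`; the second one makes the Sylow
`q`-subgroups commutative and self-centralizing, and the block of `q` leaves the orders 504 and 2448.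
-/

set_option autoImplicit false

open scoped Classical

namespace CfsgLib.SmallGroups.NineTwoPrimes

open Cfsg CfsgLib.Char CfsgLib.Blocks

variable {G : Type*} [Group G]

/-- An element of order prime to three has a centralizer of order prime to three. -/
theorem three_not_dvd_cent [Finite G] {P : Subgroup G} (hP : Nat.card P = 9) (hidx : ¬ 3 ∣ P.index)
    (hcent : ∀ x ∈ P, x ≠ 1 → ∀ g, g * x = x * g → g ∈ P) {y : G} (hy1 : y ≠ 1)
    (hy : (orderOf y).Coprime 3) : ¬ 3 ∣ Nat.card (Subgroup.centralizer ({y} : Set G)) := by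
  intro h3
  haveI : Fact (Nat.Prime 3) := ⟨Nat.prime_three⟩
  obtain ⟨⟨z, hzC⟩, hz⟩ := exists_prime_orderOf_dvd_card' 3 h3
  rw [Subgroup.orderOf_mk] at hz
  have hPp : IsPGroup 3 P := IsPGroup.of_card (n := 2) (by rw [hP]; norm_num)
  have hzp : IsPGroup 3 (Subgroup.zpowers z) :=
    IsPGroup.of_card (n := 1) (by rw [Nat.card_zpowers, hz, pow_one])
  obtain ⟨Q, hQ⟩ := hzp.exists_le_sylow
  obtain ⟨c, hc⟩ := MulAction.exists_smul_eq G Q (hPp.toSylow hidx)
  have hzP : c * z * c⁻¹ ∈ P := by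
    have h1 : MulAut.conj c z ∈ ((c • Q : Sylow 3 G) : Subgroup G) :=
      Subgroup.smul_mem_pointwise_smul _ (MulAut.conj c) _ (hQ (Subgroup.mem_zpowers z))
    rw [hc] at h1
    exact h1
  have hz1 : c * z * c⁻¹ ≠ 1 := fun e => by
    rw [conj_eq_one_iff] at e
    rw [e, orderOf_one] at hz; norm_num at hz
  have hyP : c * y * c⁻¹ ∈ P := hcent _ hzP hz1 _ (by
    have := Subgroup.mem_centralizer_singleton_iff.1 hzC
    calc c * y * c⁻¹ * (c * z * c⁻¹) = c * (y * z) * c⁻¹ := by group
      _ = c * (z * y) * c⁻¹ := by rw [this]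
      _ = _ := by group)
  have ho : orderOf y ∣ 3 ^ 2 := by
    have h1 := Subgroup.orderOf_dvd_natCard P hyP
    rw [hP, show c * y * c⁻¹ = MulAut.conj c y from rfl, MulEquiv.orderOf_eq] at h1
    exact h1
  exact hy1 (orderOf_eq_one_iff.1 ((hy.pow_right 2).eq_one_of_dvd ho))

variable [Fintype G]

theorem prime_degree [IsSimpleGroup G] (hG : ¬ IsMulCommutative G) {q a b : ℕ} (hq : q.Prime)
    (hq2 : q ≠ 2) (hq3 : q ≠ 3) (hcard : Nat.card G = 9 * 2 ^ a * q ^ b) {P : Subgroup G} {u : G}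
    (h : InvertedOdd.Inv P u) (hP : Nat.card P = 9) :
    ∃ i : ℕ, 0 < i ∧ (q = 2 ^ i + 1 ∨ q + 1 = 2 ^ i) ∧ Nat.card G = 9 * 2 ^ i * q ∧
      ∀ Q : Sylow q G, Nat.card Q = q ∧
        Subgroup.centralizer ((Q : Subgroup G) : Set G) = (Q : Subgroup G) := by
  haveI : Fact q.Prime := ⟨hq⟩
  haveI : Fact (Nat.Prime 2) := ⟨Nat.prime_two⟩
  have hb : b ≠ 0 := fun e => not_two_primes (a := 2) (b := a) hG Nat.prime_three Nat.prime_two
    (by rw [hcard, e]; ring)
  have hq9 : ¬ q ∣ 9 := fun e =>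
    hq3 ((Nat.prime_dvd_prime_iff_eq hq Nat.prime_three).1 (hq.dvd_of_dvd_pow (m := 3) (n := 2) e))
  have hidx : ¬ 3 ∣ P.index := by
    have h1 := P.card_mul_index
    rw [hP, hcard, mul_assoc] at h1
    rw [Nat.eq_of_mul_eq_mul_left (by norm_num) h1]
    intro e
    rcases (Nat.Prime.dvd_mul Nat.prime_three).1 e with e | e
    · exact absurd (Nat.prime_three.dvd_of_dvd_pow e) (by norm_num)
    · exact hq3 ((Nat.prime_dvd_prime_iff_eq Nat.prime_three hq).1 (Nat.prime_three.dvd_of_dvd_pow e)).symm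
  have hno3 : ∀ {y : G}, y ≠ 1 → (orderOf y).Coprime 3 →
      (Nat.card (Subgroup.centralizer ({y} : Set G))).Coprime 9 := fun {y} h1 h2 =>
    ((Nat.Prime.coprime_iff_not_dvd Nat.prime_three).2 (three_not_dvd_cent hP hidx h.cent h1 h2)).symm.pow_right 2
  -- the decomposition
  haveI : Finite (↥P →* ℂˣ) := CfsgLib.Characterizations.BSW.finite_hom
  haveI := Fintype.ofFinite (↥P →* ℂˣ)
  obtain ⟨lam, hl⟩ : ∃ lam : ↥P →* ℂˣ, lam ≠ 1 := by
    by_contra hcon
    push Not at hcon
    have h1 := h.sum_linear (1 : P)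
    simp only [map_one, Units.val_one, Finset.sum_const, Finset.card_univ, nsmul_eq_mul, mul_one,
      if_true] at h1
    have h2 : Fintype.card (↥P →* ℂˣ) ≤ 1 :=
      Fintype.card_le_one_iff.2 fun x y => (hcon x).trans (hcon y).symm
    have h3 : Fintype.card (↥P →* ℂˣ) = 9 := by rw [← hP]; exact_mod_cast h1
    omega
  obtain ⟨A₀, B₀, hd⟩ := InvertedOdd.exists_dec h hl
  obtain ⟨d, hd0, hA₀, hB₀⟩ := hd.1
  obtain ⟨hA1, hB1, hAB⟩ := hd.ne hl
  have htriv : ∀ {χ : IrrCharacter G}, (χ : G → ℂ) ≠ (fun _ => 1) → χ ≠ trivChar G := fun {χ} hne e =>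
    hne (funext fun g => by rw [e, trivChar_apply])
  have hdA : charDegree (A₀ : G → ℂ) = d :=
    Nat.cast_injective (R := ℂ) (by rw [← irr_one_eq, hA₀])
  have hdB : charDegree (B₀ : G → ℂ) = d + 1 :=
    Nat.cast_injective (R := ℂ) (by rw [← irr_one_eq, hB₀]; push_cast; rfl)
  have hd1 : d ≠ 1 := fun e =>
    (htriv hA1) (BlockDegrees.eq_trivChar hG A₀ (hdA.trans e))
  have hdvd : ∀ χ : IrrCharacter G, charDegree (χ : G → ℂ) ∣ Nat.card G := fun χ => by
    obtain ⟨k, hk1, hk2⟩ := IsIrrCharacter.apply_one_dvd_card χ.2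
    rw [irr_one_eq] at hk1
    rwa [Nat.cast_inj.1 hk1]
  have hsplit : ∀ x : ℕ, x ∣ Nat.card G → ¬ 3 ∣ x → ∃ k l : ℕ, x = 2 ^ k * q ^ l := by
    intro x hx hx3
    obtain ⟨k, l, -, -, he⟩ := Cofactor.exists_exponents (u := 9) Nat.prime_two hq (hcard ▸ hx)
      (((Nat.Prime.coprime_iff_not_dvd Nat.prime_three).2 hx3).symm.pow_right 2)
    exact ⟨k, l, he⟩
  have hcong := InvertedOdd.degree_congr h hl hd hA₀
  rw [hP] at hcong
  obtain ⟨k, l, hkl⟩ := hsplit d (hdA ▸ hdvd A₀) (by rcases hcong with e | e <;> omega)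
  obtain ⟨k', l', hkl'⟩ := hsplit (d + 1) (hdB ▸ hdvd B₀) (by rcases hcong with e | e <;> omega)
  have hqodd : Odd q := hq.odd_of_ne_two hq2
  have hcases : ∃ i : ℕ, 0 < i ∧ ((d = 2 ^ i ∧ q = d + 1) ∨ (d + 1 = 2 ^ i ∧ q = d)) := by
    rcases Nat.even_or_odd d with hev | hod
    · have hk' : k' = 0 := by
        by_contra hne
        have : 2 ∣ d + 1 := hkl' ▸ (dvd_pow_self 2 hne).mul_right _
        obtain ⟨r, rfl⟩ := hev
        omega
      have hl0 : l = 0 := by
        by_contra hne
        have h1 : q ∣ d := hkl ▸ (dvd_pow_self q hne).mul_left _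
        have hl' : l' ≠ 0 := fun e => by rw [hk', e, pow_zero, pow_zero, mul_one] at hkl'; omega
        have h2 : q ∣ d + 1 := hkl' ▸ (dvd_pow_self q hl').mul_left _
        exact hq.not_dvd_one ((Nat.dvd_add_right h1).1 h2)
      rw [hl0, pow_zero, mul_one] at hkl
      rw [hk', pow_zero, one_mul] at hkl'
      have hl' : l' ≠ 0 := fun e => by rw [e, pow_zero] at hkl'; omega
      rw [exponent_eq_one hq hq2 hq3 hl' (Or.inl (by rw [← hkl]; exact hkl')), pow_one] at hkl'
      refine ⟨k, Nat.pos_of_ne_zero fun e => hd1 (by rw [hkl, e, pow_zero]), Or.inl ⟨hkl, hkl'.symm⟩⟩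
    · have hk : k = 0 := by
        by_contra hne
        have : 2 ∣ d := hkl ▸ (dvd_pow_self 2 hne).mul_right _
        obtain ⟨r, rfl⟩ := hod
        omega
      have hl0 : l ≠ 0 := fun e => hd1 (by rw [hkl, hk, e, pow_zero, pow_zero, mul_one])
      have hl' : l' = 0 := by
        by_contra hne
        have h1 : q ∣ d := hkl ▸ (dvd_pow_self q hl0).mul_left _
        have h2 : q ∣ d + 1 := hkl' ▸ (dvd_pow_self q hne).mul_left _
        exact hq.not_dvd_one ((Nat.dvd_add_right h1).1 h2)
      rw [hl', pow_zero, mul_one] at hkl'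
      rw [hk, pow_zero, one_mul] at hkl
      rw [exponent_eq_one hq hq2 hq3 hl0 (Or.inr (by rw [← hkl]; exact hkl')), pow_one] at hkl
      refine ⟨k', Nat.pos_of_ne_zero fun e => by rw [e, pow_zero] at hkl'; omega, Or.inr ⟨hkl', hkl.symm⟩⟩
  have hreg : ∀ g : G, (orderOf g).Coprime 3 → (B₀ : G → ℂ) g = (A₀ : G → ℂ) g + 1 := by
    intro g hg
    by_cases hg1 : g = 1
    · rw [hg1, hB₀, hA₀]
    have h1 := congrFun hd.2 g
    rw [InvertedOdd.al_eq_zero lam (fun x hx => hg1 ?_)] at h1
    · rw [Pi.add_apply, Pi.sub_apply] at h1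
      linear_combination h1
    · have h2 := Subgroup.orderOf_dvd_natCard P hx
      have e : orderOf (x⁻¹ * g * x) = orderOf g := by
        rw [← MulEquiv.orderOf_eq (MulAut.conj x⁻¹) g, MulAut.conj_apply, inv_inv]
      rw [e, hP] at h2
      exact orderOf_eq_one_iff.1 ((hg.pow_right 2).eq_one_of_dvd h2)
  obtain ⟨i, hi, hcases⟩ := hcases
  obtain ⟨A, B, δ, hδ, hdegA, hdegB, hneA, hneB, hval⟩ : ∃ (A B : IrrCharacter G) (δ : ℂ), (δ = 1 ∨ δ = -1) ∧
      charDegree (A : G → ℂ) = 2 ^ i ∧ charDegree (B : G → ℂ) = q ∧ A ≠ trivChar G ∧ B ≠ trivChar G ∧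
      ∀ g : G, (orderOf g).Coprime 3 → (B : G → ℂ) g = (A : G → ℂ) g + δ := by
    rcases hcases with ⟨e1, e2⟩ | ⟨e1, e2⟩
    · exact ⟨A₀, B₀, 1, Or.inl rfl, hdA.trans e1, hdB.trans e2.symm, htriv hA1, htriv hB1, hreg⟩
    · exact ⟨B₀, A₀, -1, Or.inr rfl, hdB.trans e1, hdA.trans e2.symm, htriv hB1, htriv hA1,
        fun g hg => by rw [hreg g hg]; ring⟩
  -- a central involution
  obtain ⟨S⟩ : Nonempty (Sylow 2 G) := inferInstance
  have hScard : Nat.card (S : Subgroup G) = 2 ^ a :=
    SimpleTools.card_sylow_subgroup (m := 9 * q ^ b) (by rw [hcard]; ring) (fun e => by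
      rcases (Nat.Prime.dvd_mul Nat.prime_two).1 e with e | e
      · norm_num at e
      · exact hq2 ((Nat.prime_dvd_prime_iff_eq Nat.prime_two hq).1 (Nat.prime_two.dvd_of_dvd_pow e)).symm) S
  have ha : a ≠ 0 := by
    intro e
    have h1 : 2 ∣ Nat.card G := h.ht ▸ orderOf_dvd_natCard u
    rw [hcard, e, pow_zero, mul_one] at h1
    rcases (Nat.Prime.dvd_mul Nat.prime_two).1 h1 with h1 | h1
    · norm_num at h1
    · exact hq2 ((Nat.prime_dvd_prime_iff_eq Nat.prime_two hq).1 (Nat.prime_two.dvd_of_dvd_pow h1)).symm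
  haveI : Nontrivial (Subgroup.center (S : Subgroup G)) := by
    haveI : Nontrivial (S : Subgroup G) := Finite.one_lt_card_iff_nontrivial.1 (by
      rw [hScard]; exact Nat.one_lt_two_pow ha)
    exact S.isPGroup'.center_nontrivial
  obtain ⟨z, hz⟩ := exists_prime_orderOf_dvd_card' (G := Subgroup.center (S : Subgroup G)) 2 (by
    obtain ⟨j, hj⟩ := (Nat.dvd_prime_pow Nat.prime_two).1
      (hScard ▸ (Subgroup.center (S : Subgroup G)).card_subgroup_dvd_card)
    rw [hj.2]
    exact dvd_pow_self 2 fun e => by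
      have := Finite.one_lt_card (α := Subgroup.center (S : Subgroup G))
      rw [hj.2, e, pow_zero] at this; omega)
  set t : G := ((z : (S : Subgroup G)) : G)
  have ht : orderOf t = 2 := by rw [Subgroup.orderOf_coe, Subgroup.orderOf_coe, hz]
  have ht1 : t ≠ 1 := fun e => by rw [e, orderOf_one] at ht; omega
  have hSt : (S : Subgroup G) ≤ Subgroup.centralizer ({t} : Set G) := fun x hx =>
    Subgroup.mem_centralizer_singleton_iff.2
      (congrArg Subtype.val (Subgroup.mem_center_iff.1 z.2 ⟨x, hx⟩))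
  have hAt : (A : G → ℂ) t = 0 := by
    refine value_eq_zero hG hneA ht1 ?_
    rw [hdegA]
    refine Nat.Coprime.pow_right _ ((Nat.Prime.coprime_iff_not_dvd Nat.prime_two).2 fun e => ?_).symm
    exact S.not_dvd_index (e.trans (Subgroup.index_dvd_of_le hSt))
  set C := Nat.card (Subgroup.centralizer ({t} : Set G)) with hC
  -- the class equation
  have hCE : Nat.card G * 2 ^ i = 9 * C ^ 2 * q := by
    have h1 := InvertedOdd.class_equation h hl hd hA₀ ht ht
    have hco : (orderOf t).Coprime 3 := by rw [ht]; norm_num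
    have hne : (d : ℂ) - (A₀ : G → ℂ) t ≠ 0 := fun e => ht1 (Cofactor.faithful (htriv hA1) t (by
      rw [sub_eq_zero] at e; rw [hA₀, e]))
    have hconj : IsConj t u := by
      by_contra hn
      rw [if_neg (fun e => hn e.1), Nat.cast_zero, zero_mul, zero_mul, zero_mul, zero_mul] at h1
      exact hne (by
        have := mul_eq_zero.1 h1
        rcases this with e | e
        · exact ((mul_eq_zero.1 e).resolve_left card_ne_zero)
        · exact e)
    rw [if_pos ⟨hconj, hconj⟩, hP, ← hC] at h1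
    have key : ((Nat.card G * 2 ^ i : ℕ) : ℂ) * (2 ^ i : ℕ) = ((9 * C ^ 2 * q : ℕ) : ℂ) * (2 ^ i : ℕ) := by
      rcases hcases with ⟨e1, e2⟩ | ⟨e1, e2⟩
      · have hA0 : (A₀ : G → ℂ) t = 0 := by
          refine value_eq_zero hG (htriv hA1) ht1 ?_
          rw [hdA, e1]
          refine Nat.Coprime.pow_right _ ((Nat.Prime.coprime_iff_not_dvd Nat.prime_two).2 fun e => ?_).symm
          exact S.not_dvd_index (e.trans (Subgroup.index_dvd_of_le hSt))
        rw [hA0, sub_zero] at h1
        rw [← e1, e2]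
        push_cast at h1 ⊢
        linear_combination h1
      · have hA0 : (B₀ : G → ℂ) t = 0 := by
          refine value_eq_zero hG (htriv hB1) ht1 ?_
          rw [hdB, e1]
          refine Nat.Coprime.pow_right _ ((Nat.Prime.coprime_iff_not_dvd Nat.prime_two).2 fun e => ?_).symm
          exact S.not_dvd_index (e.trans (Subgroup.index_dvd_of_le hSt))
        have h2 := hreg t hco
        rw [hA0] at h2
        rw [show (A₀ : G → ℂ) t = -1 by linear_combination -h2] at h1
        rw [← e1, e2]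
        push_cast at h1 ⊢
        linear_combination h1
    exact Nat.eq_of_mul_eq_mul_right (pow_pos two_pos i) (by exact_mod_cast key)
  -- the exponents
  obtain ⟨x, y, hxy⟩ := hsplit C (Subgroup.card_subgroup_dvd_card _)
    (three_not_dvd_cent hP hidx h.cent ht1 (by rw [ht]; norm_num))
  have hexp : a + i = 2 * x ∧ b = 2 * y + 1 := by
    have e : 1 * 2 ^ (a + i) * q ^ b = 1 * 2 ^ (2 * x) * q ^ (2 * y + 1) := by
      refine Nat.eq_of_mul_eq_mul_left (show 0 < 9 by norm_num) ?_
      rw [hcard, hxy] at hCE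
      calc 9 * (1 * 2 ^ (a + i) * q ^ b) = 9 * 2 ^ a * q ^ b * 2 ^ i := by ring
        _ = _ := hCE
        _ = _ := by ring
    have e1 := congrArg (fun n => n.factorization 2) e
    have e2 := congrArg (fun n => n.factorization q) e
    simp only [one_mul] at e1 e2
    rw [mul_comm (2 ^ (a + i)), mul_comm (2 ^ (2 * x)), ← one_mul (q ^ b), ← one_mul (q ^ (2 * y + 1)),
      Cofactor.factorization_order one_ne_zero hq Nat.prime_two hq2 Nat.prime_two.not_dvd_one,
      Cofactor.factorization_order one_ne_zero hq Nat.prime_two hq2 Nat.prime_two.not_dvd_one] at e1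
    rw [← one_mul (2 ^ (a + i)), ← one_mul (2 ^ (2 * x)),
      Cofactor.factorization_order one_ne_zero Nat.prime_two hq hq2.symm hq.not_dvd_one,
      Cofactor.factorization_order one_ne_zero Nat.prime_two hq hq2.symm hq.not_dvd_one] at e2
    exact ⟨e1, e2⟩
  have hcop2q : Nat.Coprime 2 q := (Nat.coprime_primes Nat.prime_two hq).2 hq2.symm
  have hxa : x = a := by
    refine le_antisymm ?_ ?_
    · have h1 : 2 ^ x ∣ 9 * 2 ^ a * q ^ b :=
        hcard ▸ (Dvd.intro _ hxy.symm).trans (Subgroup.card_subgroup_dvd_card _)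
      have h2 : 2 ^ x ∣ 2 ^ a := by
        refine Nat.Coprime.dvd_of_dvd_mul_left ((show Nat.Coprime 2 9 by norm_num).pow_left x) ?_
        exact Nat.Coprime.dvd_of_dvd_mul_right (hcop2q.pow x b) h1
      exact (Nat.pow_dvd_pow_iff_le_right (by norm_num)).1 h2
    · have h1 : 2 ^ a ∣ C := hScard ▸ Subgroup.card_dvd_of_le hSt
      rw [hxy] at h1
      exact (Nat.pow_dvd_pow_iff_le_right (by norm_num)).1
        (Nat.Coprime.dvd_of_dvd_mul_right (hcop2q.pow a y) h1)
  obtain rfl : a = i := by omega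
  -- the Sylow subgroups for `q`
  have hcq : ∀ g : G, orderOf g = q → (orderOf g).Coprime 3 := fun g hg => by
    rw [hg]; exact (Nat.coprime_primes hq Nat.prime_three).2 hq3
  have hcomm : ∀ Q : Sylow q G, ∀ v ∈ (Q : Subgroup G), ∀ w ∈ (Q : Subgroup G), Commute v w := by
    intro Q v hv w hw
    haveI : Nontrivial (Q : Subgroup G) := (Subgroup.nontrivial_iff_ne_bot _).2
      (Q.ne_bot_of_dvd_card (hcard ▸ dvd_mul_of_dvd_right (dvd_pow_self q hb) _))
    haveI : Nontrivial (Subgroup.center (Q : Subgroup G)) := Q.isPGroup'.center_nontrivial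
    obtain ⟨n, hn⟩ := IsPGroup.iff_card.1 (Q.isPGroup'.to_subgroup (Subgroup.center (Q : Subgroup G)))
    obtain ⟨r, hr⟩ := exists_prime_orderOf_dvd_card' (G := Subgroup.center (Q : Subgroup G)) q (by
      rw [hn]
      exact dvd_pow_self q fun e => by
        have := Finite.one_lt_card (α := Subgroup.center (Q : Subgroup G))
        rw [hn, e, pow_zero] at this; omega)
    have hrq : orderOf ((r : (Q : Subgroup G)) : G) = q := by
      rw [Subgroup.orderOf_coe, Subgroup.orderOf_coe, hr]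
    have hrc : ∀ w' ∈ (Q : Subgroup G), Commute w' ((r : (Q : Subgroup G)) : G) := fun w' hw' =>
      congrArg Subtype.val (Subgroup.mem_center_iff.1 r.2 ⟨w', hw'⟩)
    refine cent_comm hdegB (Cofactor.faithful hneB) hrq (fun k hk hkq => ?_) (hrc v hv) (hrc w hw)
    refine value_eq_zero hG hneB (fun e => ?_) ?_
    · have := Nat.le_of_dvd hk (hrq ▸ orderOf_dvd_of_pow_eq_one e)
      omega
    · rw [hdegB]
      refine ((Nat.Prime.coprime_iff_not_dvd hq).2 fun e => Q.not_dvd_index (e.trans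
        (Subgroup.index_dvd_of_le fun w' hw' => ?_))).symm
      exact Subgroup.mem_centralizer_singleton_iff.2 ((hrc w' hw').pow_right k).eq
  have hodd : ∀ g : G, orderOf g = q → ¬ 2 ∣ Nat.card (Subgroup.centralizer ({g} : Set G)) := by
    intro g hg h2
    have hg1 : g ≠ 1 := fun e => by rw [e, orderOf_one] at hg; exact hq.ne_one hg.symm
    obtain ⟨Q, hQ⟩ := (IsPGroup.of_card (G := Subgroup.zpowers g) (n := 1)
      (by rw [Nat.card_zpowers, hg, pow_one])).exists_le_sylow
    have hBg : (B : G → ℂ) g = 0 := by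
      refine value_eq_zero hG hneB hg1 ?_
      rw [hdegB]
      refine ((Nat.Prime.coprime_iff_not_dvd hq).2 fun e => Q.not_dvd_index (e.trans
        (Subgroup.index_dvd_of_le fun w hw => ?_))).symm
      exact Subgroup.mem_centralizer_singleton_iff.2 (hcomm Q w hw g (hQ (Subgroup.mem_zpowers g))).eq
    have hAg := hval g (hcq g hg)
    rw [hBg] at hAg
    have h3 := degree_dvd_index (χ := A) (g := g) (by
      rcases hδ with e | e <;> rw [e] at hAg
      · right; linear_combination -hAg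
      · left; linear_combination -hAg)
    rw [hdegA] at h3
    have h4 : 2 ^ (a + 1) ∣ 9 * 2 ^ a * q ^ b := by
      rw [← hcard, ← (Subgroup.centralizer ({g} : Set G)).index_mul_card, pow_succ]
      exact Nat.mul_dvd_mul h3 h2
    have h5 : 2 ^ (a + 1) ∣ 2 ^ a :=
      Nat.Coprime.dvd_of_dvd_mul_left ((show Nat.Coprime 2 9 by norm_num).pow_left _)
        (Nat.Coprime.dvd_of_dvd_mul_right (hcop2q.pow _ b) h4)
    exact absurd ((Nat.pow_dvd_pow_iff_le_right (by norm_num)).1 h5) (by omega)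
  have hy0 : y = 0 := by
    by_contra hne
    obtain ⟨g, hg⟩ := exists_prime_orderOf_dvd_card' (G := Subgroup.centralizer ({t} : Set G)) q
      (by rw [← hC, hxy]; exact (dvd_pow_self q hne).mul_left _)
    have hgt := Subgroup.mem_centralizer_singleton_iff.1 g.2
    refine hodd (g : G) (by rw [Subgroup.orderOf_coe, hg]) ?_
    have h1 := Subgroup.orderOf_dvd_natCard (Subgroup.centralizer ({(g : G)} : Set G))
      (x := t) (Subgroup.mem_centralizer_singleton_iff.2 hgt.symm)
    rwa [ht] at h1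
  obtain rfl : b = 1 := by omega
  refine ⟨a, hi, ?_, by rw [hcard, pow_one], fun Q => ?_⟩
  · rcases hcases with ⟨e1, e2⟩ | ⟨e1, e2⟩
    · left; omega
    · right; omega
  have hQc : Nat.card (Q : Subgroup G) = q := by
    have := SimpleTools.card_sylow_subgroup (k := 1) (m := 9 * 2 ^ a) (by rw [hcard]; ring) (fun e => by
      rcases hq.dvd_mul.1 e with e | e
      · exact hq9 e
      · exact hq2 ((Nat.prime_dvd_prime_iff_eq hq Nat.prime_two).1 (hq.dvd_of_dvd_pow e))) Q
    rwa [pow_one] at this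
  refine ⟨hQc, le_antisymm ?_ fun v hv => Subgroup.mem_centralizer_iff.2 fun w hw => (hcomm Q w hw v hv).eq⟩
  obtain ⟨g, hg⟩ := exists_prime_orderOf_dvd_card' (G := (Q : Subgroup G)) q (dvd_of_eq hQc.symm)
  have hgo : orderOf (g : G) = q := by rw [Subgroup.orderOf_coe, hg]
  have hg1 : (g : G) ≠ 1 := fun e => by rw [e, orderOf_one] at hgo; exact hq.ne_one hgo.symm
  have hle : Subgroup.centralizer ((Q : Subgroup G) : Set G) ≤ Subgroup.centralizer ({(g : G)} : Set G) :=
    fun v hv => Subgroup.mem_centralizer_singleton_iff.2 (Subgroup.mem_centralizer_iff.1 hv g g.2).symm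
  have hQle : (Q : Subgroup G) ≤ Subgroup.centralizer ({(g : G)} : Set G) :=
    fun v hv => Subgroup.mem_centralizer_singleton_iff.2 (hcomm Q v hv g g.2).eq
  have hcardC : Nat.card (Subgroup.centralizer ({(g : G)} : Set G)) ∣ q := by
    set m := Nat.card (Subgroup.centralizer ({(g : G)} : Set G))
    have h1 : m ∣ 9 * 2 ^ a * q := by
      have := Subgroup.card_subgroup_dvd_card (Subgroup.centralizer ({(g : G)} : Set G))
      rwa [hcard, pow_one] at this
    refine Nat.Coprime.dvd_of_dvd_mul_left ?_ h1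
    exact Nat.Coprime.mul_right (hno3 hg1 (hcq _ hgo))
      (((Nat.Prime.coprime_iff_not_dvd Nat.prime_two).2 (hodd _ hgo)).symm.pow_right a)
  exact hle.trans (Subgroup.eq_of_le_of_card_ge hQle (by rw [hQc]; exact Nat.le_of_dvd hq.pos hcardC)).ge

/-- The order of a simple group in this configuration. -/
theorem card_of_inv [IsSimpleGroup G] (hG : ¬ IsMulCommutative G) {q a b : ℕ} (hq : q.Prime)
    (hq2 : q ≠ 2) (hq3 : q ≠ 3) (hcard : Nat.card G = 9 * 2 ^ a * q ^ b) {P : Subgroup G} {u : G}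
    (h : InvertedOdd.Inv P u) (hP : Nat.card P = 9) : Nat.card G = 504 ∨ Nat.card G = 2448 := by
  haveI : Fact q.Prime := ⟨hq⟩
  obtain ⟨i, hi, hqi, hGc, hQ⟩ := prime_degree hG hq hq2 hq3 hcard h hP
  obtain ⟨Q⟩ : Nonempty (Sylow q G) := inferInstance
  obtain ⟨hQc, hQC⟩ := hQ Q
  set N := Subgroup.normalizer ((Q : Subgroup G) : Set G)
  have hqdvd : q ∣ Nat.card G := hGc ▸ dvd_mul_left q _
  obtain ⟨e, he⟩ : q ∣ Nat.card N := hQc ▸ Subgroup.card_dvd_of_le Subgroup.le_normalizer
  have hmul : Nat.card (Sylow q G) * e = 9 * 2 ^ i := by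
    have h1 := SimpleTools.card_normalizer_mul Q
    rw [show Nat.card (Subgroup.normalizer ((Q : Subgroup G) : Set G)) = q * e from he, hGc] at h1
    refine Nat.eq_of_mul_eq_mul_right hq.pos ?_
    linarith
  have he1 : e ∣ q - 1 := by
    have h1 := PrimeDegree.card_normalizer_dvd (Q : Subgroup G) hQc
    rw [show Nat.card (Subgroup.normalizer ((Q : Subgroup G) : Set G)) = q * e from he, hQC, hQc] at h1
    exact Nat.dvd_of_mul_dvd_mul_left hq.pos h1
  have heq : e < q := by
    have := Nat.le_of_dvd (by have := hq.two_le; omega) he1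
    have := hq.two_le
    omega
  have he0 : e ≠ 0 := fun h0 => by rw [h0, mul_zero] at he; exact Nat.card_pos.ne' he
  have hne1 : e ≠ 1 := fun h1 => SimpleTools.not_normalizer_le hG hqdvd Q (by
    rw [hQC]
    exact (Subgroup.eq_of_le_of_card_ge (Subgroup.le_normalizer (H := (Q : Subgroup G)))
      (by rw [show Nat.card (Subgroup.normalizer ((Q : Subgroup G) : Set G)) = q * e from he, h1, mul_one,
        hQc])).ge)
  obtain ⟨k, hk⟩ : ∃ k, Nat.card (Sylow q G) = q * k + 1 := by
    refine ⟨Nat.card (Sylow q G) / q, ?_⟩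
    have h1 : Nat.card (Sylow q G) % q = 1 := by
      rw [card_sylow_modEq_one q G, Nat.mod_eq_of_lt hq.one_lt]
    have := Nat.div_add_mod (Nat.card (Sylow q G)) q
    omega
  rw [hk] at hmul
  rcases le_or_gt 5 i with hi5 | hi5
  · exfalso
    have h32 : 32 ≤ 2 ^ i := by
      calc 32 = 2 ^ 5 := by norm_num
        _ ≤ 2 ^ i := Nat.pow_le_pow_right (by norm_num) hi5
    rcases hqi with hqi | hqi
    · have hd : (q : ℤ) ∣ (e : ℤ) + 9 := ⟨9 - (k : ℤ) * e, by
        have h1 : ((q : ℤ) * k + 1) * e = 9 * 2 ^ i := by exact_mod_cast hmul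
        have h2 : (q : ℤ) = 2 ^ i + 1 := by exact_mod_cast hqi
        linear_combination h1 - 9 * h2⟩
      obtain ⟨m, hm⟩ : q ∣ e + 9 := by exact_mod_cast hd
      have hm1 : m = 1 := by
        rcases m with _ | _ | m
        · omega
        · rfl
        · have : q * 2 ≤ q * (m + 1 + 1) := Nat.mul_le_mul_left q (by omega)
          omega
      rw [hm1, mul_one] at hm
      have he2 : e ∣ 2 ^ i := by rw [hqi, Nat.add_sub_cancel] at he1; exact he1
      have h8 : e ∣ 8 := by
        have : 2 ^ i = e + 8 := by omega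
        rw [this] at he2
        exact (Nat.dvd_add_right dvd_rfl).1 he2
      have := Nat.le_of_dvd (by norm_num) h8
      omega
    · have hd : (q : ℤ) ∣ (e : ℤ) - 9 := ⟨9 - (k : ℤ) * e, by
        have h1 : ((q : ℤ) * k + 1) * e = 9 * 2 ^ i := by exact_mod_cast hmul
        have h2 : (q : ℤ) + 1 = 2 ^ i := by exact_mod_cast hqi
        linear_combination h1 - 9 * h2⟩
      have he9 : e = 9 := by
        obtain ⟨m, hm⟩ := hd
        rcases lt_trichotomy m 0 with hm0 | hm0 | hm0
        · have : (q : ℤ) * m ≤ -q := by nlinarith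
          omega
        · rw [hm0, mul_zero] at hm; omega
        · have : (q : ℤ) ≤ q * m := by nlinarith
          omega
      subst he9
      have hodd : q ≠ 2 := hq2
      obtain ⟨l, x, hlen, hl, hx1, hx2, hx3⟩ := BlockDegrees.degree_relation hG hodd Q hQc (e := 9)
        (by rw [hQC, hQc, show Nat.card (Subgroup.normalizer ((Q : Subgroup G) : Set G)) = q * 9 from he,
          mul_comm]) (by omega)
      have hall : ∀ v ∈ l, v = (2 : ℤ) ^ i := by
        intro v hv
        obtain ⟨h1, h2, h3⟩ := hl v hv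
        refine signed_degree hi5 hqi h2 ?_ h3
        rw [hGc] at h1
        refine Nat.Coprime.dvd_of_dvd_mul_right ?_ h1
        refine ((Nat.Prime.coprime_iff_not_dvd hq).2 fun e' => ?_).symm
        have h4 : (q : ℤ) ∣ v := Int.natCast_dvd.2 e'
        have h5 := Int.modEq_iff_dvd.1 h3
        have h6 : (q : ℤ) ∣ 1 := by have := dvd_add h5 h4; simpa using this
        exact hq.not_dvd_one (by exact_mod_cast h6)
      have hsum : l.sum = 8 * (2 : ℤ) ^ i := by
        rw [show l = List.replicate 8 ((2 : ℤ) ^ i) from List.eq_replicate_iff.2 ⟨by omega, hall⟩]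
        rw [List.sum_replicate, nsmul_eq_mul]; norm_num
      rw [hsum] at hx3
      rw [hGc] at hx1
      have hxn : x.natAbs = 1 + 8 * 2 ^ i := by
        rw [hx3, show (1 : ℤ) + 8 * 2 ^ i = ((1 + 8 * 2 ^ i : ℕ) : ℤ) by push_cast; rfl]
        rfl
      rw [hxn] at hx1
      have hx9 : 1 + 8 * 2 ^ i ∣ 9 := by
        refine Nat.Coprime.dvd_of_dvd_mul_right ?_ (Nat.Coprime.dvd_of_dvd_mul_right ?_ hx1)
        · refine Nat.Coprime.pow_right _ ((Nat.Prime.coprime_iff_not_dvd Nat.prime_two).2 ?_).symm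
          omega
        · refine ((Nat.Prime.coprime_iff_not_dvd hq).2 fun e' => ?_).symm
          rw [show 1 + 8 * 2 ^ i = q * 8 + 9 by omega, Nat.dvd_add_right (dvd_mul_right q 8)] at e'
          exact hq3 ((Nat.prime_dvd_prime_iff_eq hq Nat.prime_three).1 (hq.dvd_of_dvd_pow (m := 3) (n := 2) e'))
      have := Nat.le_of_dvd (by norm_num) hx9
      omega
  · interval_cases i <;> norm_num at hqi hmul
    · rcases hqi with rfl | hqi
      · exact absurd rfl hq3
      · have := hq.two_le; omega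
    · rcases hqi with rfl | hqi
      · exfalso
        have h4 : e ∣ 4 := by norm_num at he1; exact he1
        have := Nat.le_of_dvd (by norm_num) h4
        interval_cases e <;> omega
      · exact absurd (by omega) hq3
    · rcases hqi with rfl | hqi
      · norm_num at hq
      · left; rw [hGc, show q = 7 by omega]; norm_num
    · rcases hqi with rfl | hqi
      · right; rw [hGc]; norm_num
      · exact absurd (show q = 15 by omega) (fun e' => by rw [e'] at hq; norm_num at hq)

end CfsgLib.SmallGroups.NineTwoPrimes
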