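import Cfsg.Agent.Lib.SmallGroups.NineTwoPrimes.Fusion
import Cfsg.Agent.Lib.SmallGroups.NineTwoPrimes.Inverted
import Cfsg.Agent.Lib.SmallGroups.Order504
import Cfsg.Agent.S1020
import Cfsg.Agent.S3341
import Mathlib.FieldTheory.Finite.GaloisField

/-!
# Identification of the groups with an inverted Sylow 3-subgroup of order nine
-/

set_option autoImplicit false

namespace CfsgLib.SmallGroups.NineTwoPrimes

open Cfsg CfsgLib.Char CfsgLib.Blocks
open scoped Classical

variable {G : Type*} [Group G] [Fintype G] {P : Sylow 3 G}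

theorem exists_ne_one_of_nine {P : Subgroup G} (h9 : Nat.card P = 9) : ∃ x ∈ P, x ≠ 1 := by
  haveI : Nontrivial P := (Finite.one_lt_card_iff_nontrivial (α := P)).1 (by omega)
  obtain ⟨x, hx⟩ := exists_ne (1 : P)
  exact ⟨x, x.2, fun e => hx (Subtype.ext e)⟩

theorem Plain.exists_inv (h9 : Nat.card (P : Subgroup G) = 9) (hP : Plain P)
    (hcent : ∀ x ∈ (P : Subgroup G), x ≠ 1 → ∀ g, g * x = x * g → g ∈ (P : Subgroup G)) :
    ∃ u, InvertedOdd.Inv (P : Subgroup G) u := by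
  have hcomm := comm_of_card_nine h9
  obtain ⟨x, hx, hx1⟩ := exists_ne_one_of_nine h9
  have hC : Subgroup.centralizer ((P : Subgroup G) : Set G) = (P : Subgroup G) := by
    refine le_antisymm (fun g hg => hcent x hx hx1 g (Subgroup.mem_centralizer_iff.1 hg x hx).symm) ?_
    exact fun g hg => Subgroup.mem_centralizer_iff.2 fun y hy => hcomm y hy g hg
  have hN : Nat.card (Subgroup.normalizer ((P : Subgroup G) : Set G)) = 2 * Nat.card (P : Subgroup G) := by
    have h2 := hP.autCard h9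
    rw [TIAbelian.autCard_eq, Subgroup.relIndex] at h2
    have hle := Subgroup.centralizer_le_normalizer ((P : Subgroup G) : Set G)
    have h := ((Subgroup.centralizer ((P : Subgroup G) : Set G)).subgroupOf
      (Subgroup.normalizer ((P : Subgroup G) : Set G))).index_mul_card
    rw [Nat.card_congr (Subgroup.subgroupOfEquivOfLe hle).toEquiv, h2, hC] at h
    exact h.symm
  obtain ⟨⟨u, huN⟩, hu⟩ := exists_prime_orderOf_dvd_card' (hp := ⟨Nat.prime_two⟩) 2 (hN ▸ dvd_mul_right 2 _ :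
    2 ∣ Nat.card (Subgroup.normalizer ((P : Subgroup G) : Set G)))
  rw [Subgroup.orderOf_mk] at hu
  refine ⟨u, by rw [h9]; decide, hcent, hu, ?_, hN⟩
  refine (hP.act u huN).resolve_left fun e => ?_
  have huP : u ∈ (P : Subgroup G) := hcent x hx hx1 u (mul_inv_eq_iff_eq_mul.1 (e x hx))
  have := Subgroup.orderOf_dvd_natCard _ huP
  rw [hu, h9] at this
  omega

theorem alt6_of_exp [IsSimpleGroup G] (h9 : Nat.card (P : Subgroup G) = 9)
    (hexp : ∀ y ∈ (P : Subgroup G), y ^ 3 = 1)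
    (hcent : ∀ x ∈ (P : Subgroup G), x ≠ 1 → ∀ g, g * x = x * g → g ∈ (P : Subgroup G))
    (hclasses : ∃ a b : G, orderOf a = 3 ∧ orderOf b = 3 ∧ ∀ g : G, g * a * g⁻¹ ≠ b) :
    Nonempty (G ≃* alternatingGroup (Fin 6)) := by
  have hcomm := comm_of_card_nine h9
  refine Cfsg.Agent.S3341.result P (P : Subgroup G) rfl
    ⟨⟨fun u v => Subtype.ext (hcomm u u.2 v v.2)⟩⟩ hexp h9 hclasses fun s hs hs1 => ?_
  refine le_antisymm (fun g hg => hcent s hs hs1 g (Subgroup.mem_centralizer_singleton_iff.1 hg)) ?_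
  exact fun g hg => Subgroup.mem_centralizer_singleton_iff.2 (hcomm g hg s hs)

theorem Plain.exists_classes (h9 : Nat.card (P : Subgroup G) = 9) (hP : Plain P)
    (hexp : ∀ y ∈ (P : Subgroup G), y ^ 3 = 1) :
    ∃ a b : G, orderOf a = 3 ∧ orderOf b = 3 ∧ ∀ g : G, g * a * g⁻¹ ≠ b := by
  have hcomm := comm_of_card_nine h9
  haveI : Fact (Nat.Prime 3) := ⟨Nat.prime_three⟩
  obtain ⟨a, ha, ha1⟩ := exists_ne_one_of_nine h9
  have hoa : orderOf a = 3 := orderOf_eq_prime (hexp a ha) ha1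
  obtain ⟨b, hb, hba⟩ : ∃ b ∈ (P : Subgroup G), b ∉ Subgroup.zpowers a := by
    by_contra hcon
    push Not at hcon
    have := Nat.le_of_dvd Nat.card_pos (Subgroup.card_dvd_of_le (show (P : Subgroup G) ≤ Subgroup.zpowers a from hcon))
    rw [h9, Nat.card_zpowers, hoa] at this
    omega
  refine ⟨a, b, hoa, orderOf_eq_prime (hexp b hb) fun e => hba (e ▸ one_mem _), fun g hg => ?_⟩
  obtain ⟨n, hn, e⟩ := CfsgLib.Fusion.Transfer.controls_normalizer_of_comm P
    ⟨⟨fun u v => Subtype.ext (hcomm u u.2 v v.2)⟩⟩ a ha g (by rw [hg]; exact hb)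
  rw [hg] at e
  rcases hP.act n hn with e' | e' <;> rw [e' a ha] at e
  · exact hba (e ▸ Subgroup.mem_zpowers a)
  · exact hba (e ▸ inv_mem (Subgroup.mem_zpowers a))

theorem psl_of_inv [IsSimpleGroup G] (hG : ¬ IsMulCommutative G) {q a b : ℕ} (hq : q.Prime) (hq2 : q ≠ 2)
    (hq3 : q ≠ 3) (hcard : Nat.card G = 9 * 2 ^ a * q ^ b) {R : Subgroup G} {u : G}
    (h : InvertedOdd.Inv R u) (h9 : Nat.card R = 9) :
    (∃ (F : Type) (_ : Field F) (_ : Fintype F), Fintype.card F = 8 ∧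
        Nonempty (G ≃* Matrix.ProjectiveSpecialLinearGroup (Fin 2) F)) ∨
      Nonempty (G ≃* Matrix.ProjectiveSpecialLinearGroup (Fin 2) (ZMod 17)) := by
  rcases card_of_inv hG hq hq2 hq3 hcard h h9 with hc | hc
  · haveI : Fact (Nat.Prime 2) := ⟨Nat.prime_two⟩
    letI := Fintype.ofFinite (GaloisField 2 3)
    have h8 : Fintype.card (GaloisField 2 3) = 8 := by
      rw [← Nat.card_eq_fintype_card, GaloisField.card 2 3 (by norm_num)]; norm_num
    exact Or.inl ⟨GaloisField 2 3, inferInstance, inferInstance, h8, Order504.psl hc h8⟩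
  · haveI : Fact (Nat.Prime 17) := ⟨by norm_num⟩
    exact Or.inr (Cfsg.Agent.S1020.result hc (ZMod.card 17))

end CfsgLib.SmallGroups.NineTwoPrimes
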