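import Cfsg.Agent.Lib.Fusion.Transfer
import Cfsg.Agent.Lib.Fusion.Abelian
import Cfsg.Agent.Lib.Blocks.TIAbelian
import Cfsg.Agent.Lib.SmallGroups.SimpleTools

/-!
# A Sylow 3-subgroup of order nine in a simple group: the two fusion patterns

`Plain P`: every element of the normalizer centralizes or inverts `P`, and one inverts it.
`Klein P a b`: `P` is generated by `a` and `b` of order three and the normalizer acts on it through
the four diagonal sign changes.
-/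

set_option autoImplicit false

namespace CfsgLib.SmallGroups.NineTwoPrimes

open CfsgLib.Blocks

variable {G : Type*} [Group G]

/-- The normalizer acts on `P` by inversion or trivially. -/
structure Plain (P : Sylow 3 G) : Prop where
  act : ∀ n ∈ Subgroup.normalizer ((P : Subgroup G) : Set G),
    (∀ y ∈ (P : Subgroup G), n * y * n⁻¹ = y) ∨ (∀ y ∈ (P : Subgroup G), n * y * n⁻¹ = y⁻¹)
  inverter : ∃ n ∈ Subgroup.normalizer ((P : Subgroup G) : Set G), ∀ y ∈ (P : Subgroup G), n * y * n⁻¹ = y⁻¹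

/-- The normalizer acts on `P = ⟨a⟩ × ⟨b⟩` through the diagonal sign changes. -/
structure Klein (P : Sylow 3 G) (a b : G) : Prop where
  exp : ∀ y ∈ (P : Subgroup G), y ^ 3 = 1
  comm : ∀ x ∈ (P : Subgroup G), ∀ y ∈ (P : Subgroup G), x * y = y * x
  ha : a ∈ (P : Subgroup G)
  hb : b ∈ (P : Subgroup G)
  oa : orderOf a = 3
  ob : orderOf b = 3
  indep : b ∉ Subgroup.zpowers a
  gen : ∀ y ∈ (P : Subgroup G), ∃ i j : ℕ, i < 3 ∧ j < 3 ∧ y = a ^ i * b ^ j
  actA : ∀ n ∈ Subgroup.normalizer ((P : Subgroup G) : Set G), n * a * n⁻¹ = a ∨ n * a * n⁻¹ = a⁻¹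
  actB : ∀ n ∈ Subgroup.normalizer ((P : Subgroup G) : Set G), n * b * n⁻¹ = b ∨ n * b * n⁻¹ = b⁻¹
  flipB : ∃ n ∈ Subgroup.normalizer ((P : Subgroup G) : Set G), n * a * n⁻¹ = a ∧ n * b * n⁻¹ = b⁻¹
  flipA : ∃ n ∈ Subgroup.normalizer ((P : Subgroup G) : Set G), n * a * n⁻¹ = a⁻¹ ∧ n * b * n⁻¹ = b

theorem conj_pow_eq {n y : G} (k : ℕ) {z : G} (h : n * y * n⁻¹ = z) : n * y ^ k * n⁻¹ = z ^ k := by
  rw [← h, conj_pow]

theorem conj_sq_eq (n y : G) : n ^ 2 * y * (n ^ 2)⁻¹ = n * (n * y * n⁻¹) * n⁻¹ := by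
  rw [sq, mul_inv_rev]; simp only [mul_assoc]

theorem eq_one_of_eq_inv [Finite G] {P : Subgroup G} (hodd : Odd (Nat.card P)) {y : G} (hy : y ∈ P)
    (e : y = y⁻¹) : y = 1 := by
  rw [← orderOf_eq_one_iff]
  have h2 : y ^ 2 = 1 := by rw [sq]; nth_rewrite 1 [e]; exact inv_mul_cancel y
  exact Nat.eq_one_of_dvd_coprimes (Nat.coprime_two_left.2 hodd) (orderOf_dvd_of_pow_eq_one h2)
    (Subgroup.orderOf_dvd_natCard P hy)

theorem comm_of_card_nine [Finite G] {P : Subgroup G} (hP : Nat.card P = 9) :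
    ∀ x ∈ P, ∀ y ∈ P, x * y = y * x := fun x hx y hy =>
  congrArg Subtype.val (IsPGroup.commutative_of_card_eq_prime_sq (p := 3) (G := P)
    (by rw [hP]; norm_num) ⟨x, hx⟩ ⟨y, hy⟩)

theorem Plain.frob [Fintype G] {P : Sylow 3 G} (hP : Nat.card (P : Subgroup G) = 9) (h : Plain P) :
    TIAbelian.FrobSylow P where
  comm := comm_of_card_nine hP
  fpf := fun y hy hy1 n hn => by
    rw [Subgroup.mem_inf, Subgroup.mem_centralizer_singleton_iff] at hn
    rcases h.act n hn.2 with e | e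
    · exact Subgroup.mem_centralizer_iff.2 fun w hw => (mul_inv_eq_iff_eq_mul.1 (e w hw)).symm
    · refine absurd (eq_one_of_eq_inv (by rw [hP]; decide) hy ?_) hy1
      rw [← e y hy, hn.1, mul_inv_cancel_right]

theorem Plain.autCard [Fintype G] {P : Sylow 3 G} (hP : Nat.card (P : Subgroup G) = 9) (h : Plain P) :
    TIAbelian.autCard P = 2 := by
  obtain ⟨n₀, hn₀, hinv⟩ := h.inverter
  set f := (P : Subgroup G).normalizerMonoidHom
  have hval : ∀ (m : Subgroup.normalizer ((P : Subgroup G) : Set G)) (y : (P : Subgroup G)),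
      ((f m y : (P : Subgroup G)) : G) = (m : G) * y * (m : G)⁻¹ := fun _ _ => rfl
  let α : TIAbelian.autGroup P := ⟨f ⟨n₀, hn₀⟩, ⟨_, rfl⟩⟩
  rw [TIAbelian.autCard, Nat.card_eq_two_iff]
  refine ⟨1, α, fun e => ?_, Set.eq_univ_of_forall ?_⟩
  · have hnt : Nontrivial (P : Subgroup G) :=
      (Finite.one_lt_card_iff_nontrivial (α := (P : Subgroup G))).1 (by omega)
    obtain ⟨y, hy⟩ := exists_ne (1 : (P : Subgroup G))
    have e1 : f ⟨n₀, hn₀⟩ y = y := by rw [← show (1 : MulAut (P : Subgroup G)) = f ⟨n₀, hn₀⟩ from congrArg Subtype.val e]; rfl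
    have e2 := congrArg Subtype.val e1
    rw [hval, hinv y y.2] at e2
    exact hy (Subtype.ext (eq_one_of_eq_inv (by rw [hP]; decide) y.2 e2.symm))
  · rintro ⟨_, m, rfl⟩
    rcases h.act m m.2 with e | e
    · left
      refine Subtype.ext (MulEquiv.ext fun y => Subtype.ext ?_)
      rw [hval, e y y.2]; rfl
    · right
      refine Subtype.ext (MulEquiv.ext fun y => Subtype.ext ?_)
      show ((f m y : (P : Subgroup G)) : G) = ((f ⟨n₀, hn₀⟩ y : (P : Subgroup G)) : G)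
      rw [hval, hval, e y y.2, hinv y y.2]

theorem Klein.swap [Finite G] {P : Sylow 3 G} {a b : G} (h : Klein P a b) : Klein P b a where
  exp := h.exp
  comm := h.comm
  ha := h.hb
  hb := h.ha
  oa := h.ob
  ob := h.oa
  indep := fun hmem => by
    refine h.indep ?_
    have h1 : Subgroup.zpowers a = Subgroup.zpowers b := by
      refine Subgroup.eq_of_le_of_card_ge (Subgroup.zpowers_le.2 hmem) ?_
      rw [Nat.card_zpowers, Nat.card_zpowers, h.oa, h.ob]
    rw [h1]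
    exact Subgroup.mem_zpowers b
  gen := fun y hy => by
    obtain ⟨i, j, hi, hj, e⟩ := h.gen y hy
    exact ⟨j, i, hj, hi, e.trans (h.comm _ (pow_mem h.ha i) _ (pow_mem h.hb j))⟩
  actA := h.actB
  actB := h.actA
  flipB := by obtain ⟨n, hn, e1, e2⟩ := h.flipA; exact ⟨n, hn, e2, e1⟩
  flipA := by obtain ⟨n, hn, e1, e2⟩ := h.flipB; exact ⟨n, hn, e2, e1⟩

section Classify

variable [Finite G] [IsSimpleGroup G]

theorem not_npc_three (hG : ¬ IsMulCommutative G) {P : Sylow 3 G} (h9 : Nat.card (P : Subgroup G) = 9) :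
    ¬ Cfsg.HasNormalPComplement 3 G := by
  rintro ⟨Q, N, hN, hc⟩
  rcases hN.eq_bot_or_eq_top with e | e
  · subst e
    have hcard : Nat.card G = 9 := by
      rw [← hc.card_mul_card, Subgroup.card_bot, one_mul, ← h9]
      exact Nat.card_congr (Q.equiv P).toEquiv
    exact hG ⟨⟨IsPGroup.commutative_of_card_eq_prime_sq (p := 3) (by rw [hcard]; norm_num)⟩⟩
  · subst e
    have h1 := hc.card_mul_card
    rw [Subgroup.card_top, Nat.card_congr (Q.equiv P).toEquiv, h9] at h1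
    have := Nat.card_pos (α := G)
    omega

omit [IsSimpleGroup G] in
/-- Every element of the normalizer of a Sylow subgroup of order nine has order prime to three on it. -/
theorem exists_pow_centralizes {P : Sylow 3 G} (h9 : Nat.card (P : Subgroup G) = 9) {n : G}
    (hn : n ∈ Subgroup.normalizer ((P : Subgroup G) : Set G)) :
    ∃ m : ℕ, m.Coprime 3 ∧ ∀ y ∈ (P : Subgroup G), n ^ m * y * (n ^ m)⁻¹ = y := by
  set N := Subgroup.normalizer ((P : Subgroup G) : Set G)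
  set C := (Subgroup.centralizer ((P : Subgroup G) : Set G)).subgroupOf N
  refine ⟨C.index, ?_, ?_⟩
  · refine ((Nat.Prime.coprime_iff_not_dvd Nat.prime_three).2 fun e => ?_).symm
    haveI : Fact (Nat.Prime 3) := ⟨Nat.prime_three⟩
    have hPC : (P : Subgroup G) ≤ Subgroup.centralizer ((P : Subgroup G) : Set G) := fun x hx =>
      Subgroup.mem_centralizer_iff.2 fun y hy => comm_of_card_nine h9 y hy x hx
    have h1 : C.index * Nat.card C = Nat.card N := C.index_mul_card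
    have h2 : Nat.card (P : Subgroup G) ∣ Nat.card C := by
      rw [Nat.card_congr (Subgroup.subgroupOfEquivOfLe (Subgroup.centralizer_le_normalizer _)).toEquiv]
      exact Subgroup.card_dvd_of_le hPC
    have h3 : 27 ∣ Nat.card G := by
      refine dvd_trans ?_ N.card_subgroup_dvd_card
      rw [← h1, show (27 : ℕ) = 3 * 9 by norm_num, ← h9]
      exact Nat.mul_dvd_mul e h2
    have h4 := (P : Subgroup G).card_mul_index
    rw [h9] at h4
    rw [← h4, show (27 : ℕ) = 9 * 3 by norm_num] at h3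
    exact P.not_dvd_index (Nat.dvd_of_mul_dvd_mul_left (by norm_num) h3)
  · intro y hy
    have hmem : (⟨n, hn⟩ : N) ^ C.index ∈ C := Subgroup.pow_index_mem C _
    have h1 := Subgroup.mem_centralizer_iff.1 (Subgroup.mem_subgroupOf.1 hmem) y hy
    rw [SubgroupClass.coe_pow] at h1
    change y * n ^ C.index = n ^ C.index * y at h1
    rw [← h1, mul_inv_cancel_right]

theorem plain_of_dichotomy (hG : ¬ IsMulCommutative G) {P : Sylow 3 G} (h9 : Nat.card (P : Subgroup G) = 9)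
    (h : ∀ n ∈ Subgroup.normalizer ((P : Subgroup G) : Set G),
      (∀ y ∈ (P : Subgroup G), n * y * n⁻¹ = y) ∨ (∀ y ∈ (P : Subgroup G), n * y * n⁻¹ = y⁻¹)) :
    Plain P := by
  refine ⟨h, ?_⟩
  by_contra hcon
  refine not_npc_three hG h9 (CfsgLib.Fusion.Abelian.npc_of_normalizer_le_centralizer P fun n hn => ?_)
  refine Subgroup.mem_centralizer_iff.2 fun y hy => ?_
  rcases h n hn with e | e
  · exact (mul_inv_eq_iff_eq_mul.1 (e y hy)).symm
  · exact absurd ⟨n, hn, e⟩ hcon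

/-- The cyclic case. -/
theorem plain_of_cyclic (hG : ¬ IsMulCommutative G) {P : Sylow 3 G} (h9 : Nat.card (P : Subgroup G) = 9)
    {x : G} (hx : x ∈ (P : Subgroup G)) (ho : orderOf x = 9) : Plain P := by
  have hz : Subgroup.zpowers x = (P : Subgroup G) :=
    Subgroup.eq_of_le_of_card_ge (Subgroup.zpowers_le.2 hx) (by rw [Nat.card_zpowers, ho, h9])
  refine plain_of_dichotomy hG h9 fun n hn => ?_
  obtain ⟨m, hm, hfix⟩ := exists_pow_centralizes h9 hn
  classical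
  have hpw : ∀ y ∈ (P : Subgroup G), ∃ k : ℕ, k < 9 ∧ y = x ^ k := fun y hy => by
    have := (mem_zpowers_iff_mem_range_orderOf.1 (hz.symm ▸ hy : y ∈ Subgroup.zpowers x))
    rw [ho, Finset.mem_image] at this
    obtain ⟨k, hk, e⟩ := this
    exact ⟨k, Finset.mem_range.1 hk, e.symm⟩
  obtain ⟨k, hk, e⟩ := hpw _ ((Subgroup.mem_normalizer_iff.1 hn x).1 hx)
  have hit : ∀ l : ℕ, n ^ l * x * (n ^ l)⁻¹ = x ^ (k ^ l) := fun l => by
    induction l with
    | zero => simp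
    | succ l ih =>
      rw [pow_succ', show n * n ^ l * x * (n * n ^ l)⁻¹ = n * (n ^ l * x * (n ^ l)⁻¹) * n⁻¹ by group, ih,
        conj_pow_eq _ e, ← pow_mul, ← pow_succ']
  have h1 : k ^ m % 9 = 1 := by
    have := (hit m).symm.trans (hfix x hx)
    nth_rewrite 2 [← pow_one x] at this
    rw [pow_inj_mod, ho] at this
    exact this
  have hk : k = 1 ∨ k = 8 := by
    rw [Nat.pow_mod] at h1
    have hm3 : m % 3 ≠ 0 := fun e => by
      have := Nat.eq_one_of_dvd_coprimes hm (Nat.dvd_of_mod_eq_zero e) dvd_rfl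
      omega
    have h6 : ∀ j : ℕ, j < 9 → ∀ l : ℕ, l < 6 → l % 3 ≠ 0 → j ^ (l + 6) % 9 = 1 → j = 1 ∨ j = 8 := by decide
    have h9' : ∀ j : ℕ, j < 9 → ∀ t : ℕ, j ^ (t + 6) % 9 = j ^ (t % 6 + 6) % 9 := by
      intro j hj t
      induction t using Nat.strong_induction_on with
      | _ t ih =>
        rcases Nat.lt_or_ge t 6 with ht | ht
        · rw [Nat.mod_eq_of_lt ht]
        · have hh : ∀ j : ℕ, j < 9 → j ^ 12 % 9 = j ^ 6 % 9 := by decide
          have h2 := ih (t - 6) (by omega)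
          rw [show (t - 6) % 6 = t % 6 by omega] at h2
          rw [← h2, show t + 6 = t - 6 + 12 by omega, pow_add, pow_add, Nat.mul_mod, hh j hj, ← Nat.mul_mod]
    rw [Nat.mod_eq_of_lt hk] at h1
    have h2 : k ^ (m + 6 * m) % 9 = 1 := by
      rw [show m + 6 * m = m * 7 by ring, pow_mul, Nat.pow_mod, h1, one_pow, Nat.one_mod]
    have hm1 : 1 ≤ m := by omega
    rw [show m + 6 * m = (m + 6 * m - 6) + 6 by omega, h9' k hk] at h2
    exact h6 k hk _ (Nat.mod_lt _ (by norm_num)) (by omega) h2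
  rcases hk with rfl | rfl
  · refine Or.inl fun y hy => ?_
    obtain ⟨j, -, rfl⟩ := hpw y hy
    rw [conj_pow_eq j e, pow_one]
  · refine Or.inr fun y hy => ?_
    obtain ⟨j, -, rfl⟩ := hpw y hy
    have hxi : x ^ 8 = x⁻¹ := eq_inv_of_mul_eq_one_left (by rw [← pow_succ, show 8 + 1 = 9 from rfl, ← ho, pow_orderOf_eq_one])
    rw [conj_pow_eq j e, hxi, inv_pow]

omit [IsSimpleGroup G] in
/-- If the square of an element does not centralize `P`, its powers move every element four times. -/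
theorem four_moves {P : Sylow 3 G} (h9 : Nat.card (P : Subgroup G) = 9)
    (hexp : ∀ y ∈ (P : Subgroup G), y ^ 3 = 1) {n : G}
    (hn : n ∈ Subgroup.normalizer ((P : Subgroup G) : Set G))
    (hsq : ∃ y ∈ (P : Subgroup G), n ^ 2 * y * (n ^ 2)⁻¹ ≠ y) {v : G} (hv : v ∈ (P : Subgroup G))
    (hv1 : v ≠ 1) :
    Function.Injective fun k : Fin 4 => n ^ (k : ℕ) * v * (n ^ (k : ℕ))⁻¹ := by
  haveI : Fact (Nat.Prime 3) := ⟨Nat.prime_three⟩
  have hcomm := comm_of_card_nine h9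
  obtain ⟨m, hm, hfix⟩ := exists_pow_centralizes h9 hn
  have hpow : ∀ (l : ℕ) {y : G}, y ∈ (P : Subgroup G) → n ^ l * y * (n ^ l)⁻¹ ∈ (P : Subgroup G) :=
    fun l y hy => (Subgroup.mem_normalizer_iff.1 (pow_mem hn l) y).1 hy
  have hov : orderOf v = 3 := orderOf_eq_prime (hexp v hv) hv1
  have h2 : n ^ 2 * v * (n ^ 2)⁻¹ ≠ v := by
    intro e
    obtain ⟨w, hw, hwne⟩ := hsq
    have hfixV : ∀ z ∈ Subgroup.zpowers v, n ^ 2 * z * (n ^ 2)⁻¹ = z := fun z hz => by
      obtain ⟨i, rfl⟩ := Subgroup.mem_zpowers_iff.1 hz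
      rw [← conj_zpow, e]
    have hwv : w ∉ Subgroup.zpowers v := fun hz => hwne (hfixV w hz)
    have hsup : ∀ y ∈ (P : Subgroup G), ∃ z ∈ Subgroup.zpowers v, ∃ j : ℕ, j < 3 ∧ y = z * w ^ j := by
      let f : Fin 3 × Fin 3 → (P : Subgroup G) := fun ij =>
        ⟨v ^ (ij.1 : ℕ) * w ^ (ij.2 : ℕ), mul_mem (pow_mem hv _) (pow_mem hw _)⟩
      have how : orderOf w = 3 := orderOf_eq_prime (hexp w hw) fun e' => hwv (e' ▸ one_mem _)
      have hf : Function.Injective f := by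
        rintro ⟨i, j⟩ ⟨i', j'⟩ he
        have h1 := congrArg Subtype.val he
        simp only [f] at h1
        have hj : j = j' := by
          by_contra hne
          refine hwv ?_
          have hvz := fun l : ℕ => Subgroup.npow_mem_zpowers v l
          obtain ⟨d, hd, hd3, hmem⟩ : ∃ d : ℕ, 0 < d ∧ d < 3 ∧ w ^ d ∈ Subgroup.zpowers v := by
            rcases lt_or_gt_of_ne (fun e' => hne (Fin.ext e') : (j : ℕ) ≠ (j' : ℕ)) with hl | hl
            · refine ⟨(j' : ℕ) - j, by omega, by omega, ?_⟩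
              have : w ^ ((j' : ℕ) - j) = (v ^ (i' : ℕ))⁻¹ * v ^ (i : ℕ) := by
                rw [eq_inv_mul_iff_mul_eq, ← mul_right_cancel_iff (a := w ^ (j : ℕ)), mul_assoc, ← pow_add,
                  Nat.sub_add_cancel hl.le]
                exact h1.symm
              exact this ▸ mul_mem (inv_mem (hvz _)) (hvz _)
            · refine ⟨(j : ℕ) - j', by omega, by omega, ?_⟩
              have : w ^ ((j : ℕ) - j') = (v ^ (i : ℕ))⁻¹ * v ^ (i' : ℕ) := by
                rw [eq_inv_mul_iff_mul_eq, ← mul_right_cancel_iff (a := w ^ (j' : ℕ)), mul_assoc, ← pow_add,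
                  Nat.sub_add_cancel hl.le]
                exact h1
              exact this ▸ mul_mem (inv_mem (hvz _)) (hvz _)
          rcases (show d = 1 ∨ d = 2 by omega) with rfl | rfl
          · simpa using hmem
          · have := mul_mem hmem hmem
            rwa [← pow_add, show 2 + 2 = 3 + 1 from rfl, pow_succ, hexp w hw, one_mul] at this
        subst hj
        have h3 := mul_right_cancel h1
        rw [pow_inj_mod, hov, Nat.mod_eq_of_lt i.2, Nat.mod_eq_of_lt i'.2] at h3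
        exact Prod.ext (Fin.ext h3) rfl
      haveI := Fintype.ofFinite (P : Subgroup G)
      have hbij : Function.Bijective f := (Fintype.bijective_iff_injective_and_card f).2
        ⟨hf, by rw [Fintype.card_prod, Fintype.card_fin, ← Nat.card_eq_fintype_card, h9]⟩
      intro y hy
      obtain ⟨⟨i, j⟩, hij⟩ := hbij.2 ⟨y, hy⟩
      exact ⟨_, Subgroup.npow_mem_zpowers v i, j, j.2, (congrArg Subtype.val hij).symm⟩
    have hnv : n * v * n⁻¹ ∈ Subgroup.zpowers v := by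
      obtain ⟨z, hz, j, hj, ej⟩ := hsup (n * v * n⁻¹) (by simpa using hpow 1 hv)
      rcases Nat.eq_zero_or_pos j with rfl | hj0
      · rw [ej, pow_zero, mul_one]; exact hz
      exfalso
      have h3 : n ^ 2 * (n * v * n⁻¹) * (n ^ 2)⁻¹ = n * v * n⁻¹ := by
        calc n ^ 2 * (n * v * n⁻¹) * (n ^ 2)⁻¹ = n * (n ^ 2 * v * (n ^ 2)⁻¹) * n⁻¹ := by group
          _ = _ := by rw [e]
      rw [ej, show n ^ 2 * (z * w ^ j) * (n ^ 2)⁻¹ = (n ^ 2 * z * (n ^ 2)⁻¹) * (n ^ 2 * w ^ j * (n ^ 2)⁻¹) by group,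
        hfixV z hz, mul_right_inj, ← conj_pow] at h3
      have hjc : Nat.Coprime j 3 := ((Nat.Prime.coprime_iff_not_dvd Nat.prime_three).2
        (Nat.not_dvd_of_pos_of_lt hj0 hj)).symm
      have hu : (n ^ 2 * w * (n ^ 2)⁻¹) ^ 3 = 1 := by rw [conj_pow, hexp w hw, mul_one, mul_inv_cancel]
      refine hwne ?_
      have hcm : Commute (n ^ 2 * w * (n ^ 2)⁻¹) w⁻¹ :=
        hcomm _ (hpow 2 hw) _ (inv_mem hw)
      have hone : (n ^ 2 * w * (n ^ 2)⁻¹ * w⁻¹) ^ Nat.gcd j 3 = 1 := pow_gcd_eq_one.2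
        ⟨by rw [hcm.mul_pow, h3, inv_pow, mul_inv_cancel], by rw [hcm.mul_pow, hu, one_mul, inv_pow, hexp w hw, inv_one]⟩
      rw [hjc.gcd_eq_one, pow_one, mul_inv_eq_one] at hone
      exact hone
    obtain ⟨z, hz, j, hj, ej⟩ := hsup (n * w * n⁻¹) (by simpa using hpow 1 hw)
    have hsw : n ^ 2 * w * (n ^ 2)⁻¹ = n * z * n⁻¹ * (z * w ^ j) ^ j := by
      calc n ^ 2 * w * (n ^ 2)⁻¹ = n * (n * w * n⁻¹) * n⁻¹ := conj_sq_eq n w
        _ = n * z * n⁻¹ * (n * w ^ j * n⁻¹) := by rw [ej]; group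
        _ = _ := by rw [conj_pow_eq j ej]
    have hzP : z ∈ (P : Subgroup G) := Subgroup.zpowers_le.2 hv hz
    have hjne : j ≠ 0 := fun e0 => by
      rw [e0, pow_zero, mul_one] at ej
      refine hwv ?_
      obtain ⟨i, hi⟩ := Subgroup.mem_zpowers_iff.1 hnv
      obtain ⟨l, hl⟩ := Subgroup.mem_zpowers_iff.1 hz
      have e2 : n ^ 2 * w * (n ^ 2)⁻¹ ∈ Subgroup.zpowers v := by
        rw [conj_sq_eq, ej, ← hl, ← conj_zpow]
        exact Subgroup.zpow_mem _ hnv l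
      have e3 := hfixV _ e2
      exact (mul_left_cancel (mul_right_cancel e3)) ▸ e2
    have hW : ∃ W ∈ Subgroup.zpowers v, n ^ 2 * w * (n ^ 2)⁻¹ = W * w := by
      refine ⟨n * z * n⁻¹ * z ^ j, mul_mem ?_ (pow_mem hz j), ?_⟩
      · obtain ⟨l, hl⟩ := Subgroup.mem_zpowers_iff.1 hz
        rw [← hl, ← conj_zpow]
        exact Subgroup.zpow_mem _ hnv l
      · have hcz : Commute z (w ^ j) := hcomm z hzP _ (pow_mem hw j)
        have hjj : w ^ (j * j) = w := by
          rcases (show j = 1 ∨ j = 2 by omega) with rfl | rfl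
          · rw [mul_one, pow_one]
          · rw [show 2 * 2 = 3 + 1 from rfl, pow_succ, hexp w hw, one_mul]
        rw [hsw, hcz.mul_pow, ← pow_mul, hjj, ← mul_assoc]
    obtain ⟨W, hWv, hWe⟩ := hW
    have hit : ∀ l : ℕ, n ^ (2 * l) * w * (n ^ (2 * l))⁻¹ = W ^ l * w := fun l => by
      induction l with
      | zero => simp
      | succ l ih =>
        rw [show 2 * (l + 1) = 2 + 2 * l by ring, pow_add,
          show n ^ 2 * n ^ (2 * l) * w * (n ^ 2 * n ^ (2 * l))⁻¹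
            = n ^ 2 * (n ^ (2 * l) * w * (n ^ (2 * l))⁻¹) * (n ^ 2)⁻¹ by group, ih,
          show n ^ 2 * (W ^ l * w) * (n ^ 2)⁻¹ = (n ^ 2 * W ^ l * (n ^ 2)⁻¹) * (n ^ 2 * w * (n ^ 2)⁻¹) by group,
          hfixV _ (pow_mem hWv l), hWe, ← mul_assoc, ← pow_succ]
    have h4 : n ^ (2 * m) * w * (n ^ (2 * m))⁻¹ = w := by
      rw [two_mul, pow_add, show n ^ m * n ^ m * w * (n ^ m * n ^ m)⁻¹
        = n ^ m * (n ^ m * w * (n ^ m)⁻¹) * (n ^ m)⁻¹ by group, hfix w hw, hfix w hw]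
    rw [hit m, mul_eq_right] at h4
    have h5 : W ^ Nat.gcd m 3 = 1 := pow_gcd_eq_one.2 ⟨h4, hexp W (Subgroup.zpowers_le.2 hv hWv)⟩
    rw [hm.gcd_eq_one, pow_one] at h5
    exact hwne (by rw [hWe, h5, one_mul])
  have h1 : n * v * n⁻¹ ≠ v := fun e => h2 (by
    rw [conj_sq_eq, e, e])
  have hit : ∀ (d : ℕ), n ^ d * v * (n ^ d)⁻¹ = v → ∀ l : ℕ, n ^ (d * l) * v * (n ^ (d * l))⁻¹ = v :=
    fun d e l => by
      induction l with
      | zero => simp
      | succ l ih =>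
        rw [show d * (l + 1) = d + d * l by ring, pow_add,
          show n ^ d * n ^ (d * l) * v * (n ^ d * n ^ (d * l))⁻¹
            = n ^ d * (n ^ (d * l) * v * (n ^ (d * l))⁻¹) * (n ^ d)⁻¹ by group, ih, e]
  have h3 : n ^ 3 * v * (n ^ 3)⁻¹ ≠ v := fun e => h1 (by
    rcases (show m % 3 = 1 ∨ m % 3 = 2 by
      have : ¬ 3 ∣ m := fun e' => by have := Nat.eq_one_of_dvd_coprimes hm e' dvd_rfl; omega
      omega) with hm3 | hm3
    · have e1 := hfix v hv
      rw [← Nat.div_add_mod m 3, hm3, add_comm, pow_add, pow_one,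
        show n * n ^ (3 * (m / 3)) * v * (n * n ^ (3 * (m / 3)))⁻¹
          = n * (n ^ (3 * (m / 3)) * v * (n ^ (3 * (m / 3)))⁻¹) * n⁻¹ by group, hit 3 e] at e1
      exact e1
    · have e1 := hfix v hv
      rw [← Nat.div_add_mod m 3, hm3, add_comm, pow_add,
        show n ^ 2 * n ^ (3 * (m / 3)) * v * (n ^ 2 * n ^ (3 * (m / 3)))⁻¹
          = n ^ 2 * (n ^ (3 * (m / 3)) * v * (n ^ (3 * (m / 3)))⁻¹) * (n ^ 2)⁻¹ by group, hit 3 e] at e1
      exact absurd e1 h2)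
  intro i j hij
  simp only at hij
  by_contra hne
  obtain ⟨d, hd, hd4, hdv⟩ : ∃ d : ℕ, 0 < d ∧ d < 4 ∧ n ^ d * v * (n ^ d)⁻¹ = v := by
    rcases lt_or_gt_of_ne (fun e' => hne (Fin.ext e') : (i : ℕ) ≠ (j : ℕ)) with hl | hl
    · refine ⟨(j : ℕ) - i, by omega, by omega, ?_⟩
      have e1 : n ^ (j : ℕ) = n ^ (i : ℕ) * n ^ ((j : ℕ) - i) := by rw [← pow_add, Nat.add_sub_cancel' hl.le]
      rw [e1] at hij
      refine mul_left_cancel (a := n ^ (i : ℕ)) (mul_right_cancel (b := (n ^ (i : ℕ))⁻¹) ?_)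
      rw [hij]; group
    · refine ⟨(i : ℕ) - j, by omega, by omega, ?_⟩
      have e1 : n ^ (i : ℕ) = n ^ (j : ℕ) * n ^ ((i : ℕ) - j) := by rw [← pow_add, Nat.add_sub_cancel' hl.le]
      rw [e1] at hij
      refine mul_left_cancel (a := n ^ (j : ℕ)) (mul_right_cancel (b := (n ^ (j : ℕ))⁻¹) ?_)
      rw [← hij]; group
  rcases (show d = 1 ∨ d = 2 ∨ d = 3 by omega) with rfl | rfl | rfl
  · exact h1 (by simpa using hdv)
  · exact h2 hdv
  · exact h3 hdv

/-- The trichotomy. -/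
theorem fusion_pattern (hG : ¬ IsMulCommutative G) {P : Sylow 3 G} (h9 : Nat.card (P : Subgroup G) = 9)
    (h3 : 3 ≤ Nat.card {C : ConjClasses G // ∃ g ∈ C.carrier, g ≠ 1 ∧ orderOf g ∣ 9}) :
    Plain P ∨ ∃ a b : G, Klein P a b := by
  classical
  haveI : Fact (Nat.Prime 3) := ⟨Nat.prime_three⟩
  by_cases hcyc : ∃ x ∈ (P : Subgroup G), orderOf x = 9
  · obtain ⟨x, hx, ho⟩ := hcyc
    exact Or.inl (plain_of_cyclic hG h9 hx ho)
  push Not at hcyc
  have hexp : ∀ y ∈ (P : Subgroup G), y ^ 3 = 1 := fun y hy => by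
    have h1 : orderOf y ∣ 3 ^ 2 := by
      simpa [h9] using Subgroup.orderOf_dvd_natCard (P : Subgroup G) hy
    obtain ⟨k, hk, e⟩ := (Nat.dvd_prime_pow Nat.prime_three).1 h1
    refine orderOf_dvd_iff_pow_eq_one.1 ?_
    rw [e]
    rcases (show k = 0 ∨ k = 1 ∨ k = 2 by omega) with rfl | rfl | rfl
    · norm_num
    · norm_num
    · exact absurd (e.trans (by norm_num)) (hcyc y hy)
  have hcomm := comm_of_card_nine h9
  set N := Subgroup.normalizer ((P : Subgroup G) : Set G)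
  -- squares centralize
  have hsq : ∀ n ∈ N, ∀ y ∈ (P : Subgroup G), n ^ 2 * y * (n ^ 2)⁻¹ = y := by
    intro n hn
    by_contra hcon
    push Not at hcon
    have hle : 4 * Nat.card {C : ConjClasses G // ∃ g ∈ C.carrier, g ≠ 1 ∧ orderOf g ∣ 9} ≤ 8 := by
      have key : ∀ C : {C : ConjClasses G // ∃ g ∈ C.carrier, g ≠ 1 ∧ orderOf g ∣ 9},
          ∃ v ∈ (P : Subgroup G), v ≠ 1 ∧ ConjClasses.mk v = C.1 := by
        rintro ⟨C, g, hgC, hg1, hg9⟩
        obtain ⟨k, -, hk⟩ := (Nat.dvd_prime_pow Nat.prime_three).1 (show orderOf g ∣ 3 ^ 2 by simpa using hg9)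
        obtain ⟨Q, hQ⟩ := (IsPGroup.of_card (G := Subgroup.zpowers g) (n := k)
          (by rw [Nat.card_zpowers, hk])).exists_le_sylow
        obtain ⟨c, hc⟩ := MulAction.exists_smul_eq G Q P
        refine ⟨c * g * c⁻¹, ?_, fun e => hg1 (conj_eq_one_iff.1 e), ?_⟩
        · have h1 : MulAut.conj c g ∈ ((c • Q : Sylow 3 G) : Subgroup G) :=
            Subgroup.smul_mem_pointwise_smul _ (MulAut.conj c) _ (hQ (Subgroup.mem_zpowers g))
          rw [hc] at h1
          exact h1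
        · rw [ConjClasses.mem_carrier_iff_mk_eq] at hgC
          exact (ConjClasses.mk_eq_mk_iff_isConj.2 (isConj_iff.2 ⟨c, rfl⟩).symm).trans hgC
      choose v hvP hv1 hvC using key
      let f : {C : ConjClasses G // ∃ g ∈ C.carrier, g ≠ 1 ∧ orderOf g ∣ 9} × Fin 4 →
          {y : (P : Subgroup G) // y ≠ 1} := fun Ck =>
        ⟨⟨n ^ (Ck.2 : ℕ) * v Ck.1 * (n ^ (Ck.2 : ℕ))⁻¹,
          (Subgroup.mem_normalizer_iff.1 (pow_mem hn _) _).1 (hvP Ck.1)⟩,
          fun e => hv1 Ck.1 (conj_eq_one_iff.1 (congrArg Subtype.val e))⟩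
      have hf : Function.Injective f := by
        rintro ⟨C, k⟩ ⟨C', k'⟩ e
        have e1 := congrArg (fun y : {y : (P : Subgroup G) // y ≠ 1} => (y.1 : G)) e
        simp only [f] at e1
        have hCC : C = C' := Subtype.ext <| by
          rw [← hvC C, ← hvC C', ConjClasses.mk_eq_mk_iff_isConj]
          exact (isConj_iff.2 ⟨n ^ (k : ℕ), e1⟩).trans (isConj_iff.2 ⟨n ^ (k' : ℕ), rfl⟩).symm
        subst hCC
        exact Prod.ext rfl (four_moves h9 hexp hn hcon (hvP C) (hv1 C) e1)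
      have h1 := Nat.card_le_card_of_injective f hf
      rw [Nat.card_prod, Nat.card_fin, mul_comm] at h1
      haveI := Fintype.ofFinite (P : Subgroup G)
      have h2 : Nat.card {y : (P : Subgroup G) // y ≠ 1} = 8 := by
        rw [Nat.card_eq_fintype_card, Fintype.card_subtype_compl, Fintype.card_subtype_eq,
          ← Nat.card_eq_fintype_card, h9]
      omega
    omega
  by_cases hdich : ∀ n ∈ N, (∀ y ∈ (P : Subgroup G), n * y * n⁻¹ = y) ∨ (∀ y ∈ (P : Subgroup G), n * y * n⁻¹ = y⁻¹)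
  · exact Or.inl (plain_of_dichotomy hG h9 hdich)
  push Not at hdich
  obtain ⟨n₀, hn₀, ⟨u, hu, hu'⟩, w, hw, hw'⟩ := hdich
  have hact : ∀ n ∈ N, ∀ y ∈ (P : Subgroup G), n * y * n⁻¹ ∈ (P : Subgroup G) := fun n hn y hy =>
    (Subgroup.mem_normalizer_iff.1 hn y).1 hy
  have hinvol : ∀ n ∈ N, ∀ y ∈ (P : Subgroup G), n * (n * y * n⁻¹) * n⁻¹ = y := fun n hn y hy => by
    have := hsq n hn y hy
    calc n * (n * y * n⁻¹) * n⁻¹ = n ^ 2 * y * (n ^ 2)⁻¹ := (conj_sq_eq n y).symm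
      _ = y := this
  -- the two eigenvectors
  set a := w * (n₀ * w * n₀⁻¹) with ha
  set b := u * (n₀ * u * n₀⁻¹)⁻¹ with hb
  have haP : a ∈ (P : Subgroup G) := mul_mem hw (hact n₀ hn₀ w hw)
  have hbP : b ∈ (P : Subgroup G) := mul_mem hu (inv_mem (hact n₀ hn₀ u hu))
  have hafix : n₀ * a * n₀⁻¹ = a := by
    rw [ha, ← conj_mul, hinvol n₀ hn₀ w hw]
    exact hcomm _ (hact n₀ hn₀ w hw) w hw
  have hbinv : n₀ * b * n₀⁻¹ = b⁻¹ := by
    rw [hb, ← conj_mul, ← conj_inv, hinvol n₀ hn₀ u hu, mul_inv_rev, inv_inv]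
  have ha1 : a ≠ 1 := fun e => hw' (eq_inv_of_mul_eq_one_right e)
  have hb1 : b ≠ 1 := fun e => hu' (mul_inv_eq_one.1 e).symm
  have hodd : Odd (Nat.card (P : Subgroup G)) := by rw [h9]; decide
  have hindep : b ∉ Subgroup.zpowers a := fun hz => by
    obtain ⟨i, hi⟩ := Subgroup.mem_zpowers_iff.1 hz
    refine hb1 (eq_one_of_eq_inv hodd hbP ?_)
    rw [← hbinv, ← hi, ← conj_zpow, hafix]
  have hoa : orderOf a = 3 := orderOf_eq_prime (hexp a haP) ha1
  have hob : orderOf b = 3 := orderOf_eq_prime (hexp b hbP) hb1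
  have hgen : ∀ y ∈ (P : Subgroup G), ∃ i j : ℕ, i < 3 ∧ j < 3 ∧ y = a ^ i * b ^ j := by
    let f : Fin 3 × Fin 3 → (P : Subgroup G) := fun ij =>
      ⟨a ^ (ij.1 : ℕ) * b ^ (ij.2 : ℕ), mul_mem (pow_mem haP _) (pow_mem hbP _)⟩
    have hf : Function.Injective f := by
      rintro ⟨i, j⟩ ⟨i', j'⟩ he
      have h1 : a ^ (i : ℕ) * b ^ (j : ℕ) = a ^ (i' : ℕ) * b ^ (j' : ℕ) := congrArg Subtype.val he
      have h2 := congrArg (fun z => n₀ * z * n₀⁻¹) h1
      simp only [← conj_mul, conj_pow_eq _ hafix, conj_pow_eq _ hbinv] at h2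
      -- dividing the two equations
      have hcl : ∀ (k l : ℕ), (a ^ k * b ^ l) * (a ^ k * b⁻¹ ^ l) = a ^ (2 * k) := fun k l => by
        have hab : Commute (b ^ l) (a ^ k) := hcomm _ (pow_mem hbP l) _ (pow_mem haP k)
        rw [mul_assoc, ← mul_assoc (b ^ l), hab.eq, mul_assoc (a ^ k), inv_pow, mul_inv_cancel, mul_one,
          ← pow_add, two_mul]
      have h3 : a ^ (2 * (i : ℕ)) = a ^ (2 * (i' : ℕ)) := by rw [← hcl i j, ← hcl i' j', h1, h2]
      rw [pow_inj_mod, hoa] at h3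
      have hii : i = i' := Fin.ext (by have := i.2; have := i'.2; omega)
      subst hii
      have h4 := mul_left_cancel h1
      rw [pow_inj_mod, hob, Nat.mod_eq_of_lt j.2, Nat.mod_eq_of_lt j'.2] at h4
      exact Prod.ext rfl (Fin.ext h4)
    haveI := Fintype.ofFinite (P : Subgroup G)
    have hbij : Function.Bijective f := (Fintype.bijective_iff_injective_and_card f).2
      ⟨hf, by rw [Fintype.card_prod, Fintype.card_fin, ← Nat.card_eq_fintype_card, h9]⟩
    intro y hy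
    obtain ⟨⟨i, j⟩, hij⟩ := hbij.2 ⟨y, hy⟩
    exact ⟨i, j, i.2, j.2, (congrArg Subtype.val hij).symm⟩
  -- all actions commute
  have hcom : ∀ n ∈ N, ∀ y ∈ (P : Subgroup G),
      n * (n₀ * y * n₀⁻¹) * n⁻¹ = n₀ * (n * y * n⁻¹) * n₀⁻¹ := by
    intro n hn y hy
    have hy' := hact n hn _ (hact n₀ hn₀ y hy)
    have h1 := hinvol (n * n₀) (mul_mem hn hn₀) y hy
    calc n * (n₀ * y * n₀⁻¹) * n⁻¹
        = n₀ * (n * (n * (n₀ * (n * (n₀ * y * n₀⁻¹) * n⁻¹) * n₀⁻¹) * n⁻¹) * n⁻¹) * n₀⁻¹ := by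
          rw [hinvol n hn _ (hact n₀ hn₀ _ hy'), hinvol n₀ hn₀ _ hy']
      _ = n₀ * (n * y * n⁻¹) * n₀⁻¹ := by
          conv_rhs => rw [← h1]
          group
  have hactA : ∀ n ∈ N, n * a * n⁻¹ = a ∨ n * a * n⁻¹ = a⁻¹ := by
    intro n hn
    obtain ⟨i, j, hi, hj, e⟩ := hgen _ (hact n hn a haP)
    have h1 := hcom n hn a haP
    rw [hafix, e, ← conj_mul, conj_pow_eq _ hafix, conj_pow_eq _ hbinv, mul_right_inj] at h1
    have hj0 : b ^ j = 1 := by
      refine eq_one_of_eq_inv hodd (pow_mem hbP j) ?_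
      rwa [inv_pow] at h1
    rw [hj0, mul_one] at e
    rcases (show i = 0 ∨ i = 1 ∨ i = 2 by omega) with rfl | rfl | rfl
    · rw [pow_zero] at e; exact absurd (conj_eq_one_iff.1 e) ha1
    · left; rw [e, pow_one]
    · right; rw [e]; exact eq_inv_of_mul_eq_one_left (by rw [← pow_succ]; exact hexp a haP)
  have hactB : ∀ n ∈ N, n * b * n⁻¹ = b ∨ n * b * n⁻¹ = b⁻¹ := by
    intro n hn
    obtain ⟨i, j, hi, hj, e⟩ := hgen _ (hact n hn b hbP)
    have h1 := hcom n hn b hbP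
    rw [hbinv, ← conj_inv, e, ← conj_mul, conj_pow_eq _ hafix, conj_pow_eq _ hbinv, mul_inv_rev, inv_pow,
      hcomm _ (inv_mem (pow_mem hbP j)) _ (inv_mem (pow_mem haP i)), mul_left_inj] at h1
    have hi0 : a ^ i = 1 := eq_one_of_eq_inv hodd (pow_mem haP i) h1.symm
    rw [hi0, one_mul] at e
    rcases (show j = 0 ∨ j = 1 ∨ j = 2 by omega) with rfl | rfl | rfl
    · rw [pow_zero] at e; exact absurd (conj_eq_one_iff.1 e) hb1
    · left; rw [e, pow_one]
    · right; rw [e]; exact eq_inv_of_mul_eq_one_left (by rw [← pow_succ]; exact hexp b hbP)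
  have hflipA : ∃ n ∈ N, n * a * n⁻¹ = a⁻¹ := by
    by_contra hcon
    push Not at hcon
    have hfixa : ∀ n ∈ N, n * a * n⁻¹ = a := fun n hn => (hactA n hn).resolve_right (hcon n hn)
    letI : CommGroup (P : Subgroup G) :=
      { (inferInstance : Group (P : Subgroup G)) with
        mul_comm := fun x y => Subtype.ext (hcomm x x.2 y y.2) }
    let φ : (P : Subgroup G) →* (P : Subgroup G) := MonoidHom.mk'
      (fun y => ⟨(y : G) * (n₀ * y * n₀⁻¹), mul_mem y.2 (hact n₀ hn₀ y y.2)⟩) fun y z => Subtype.ext <| by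
        show (y : G) * z * (n₀ * (y * z) * n₀⁻¹) = y * (n₀ * y * n₀⁻¹) * (z * (n₀ * z * n₀⁻¹))
        have hc : Commute (z : G) (n₀ * y * n₀⁻¹) := hcomm z z.2 _ (hact n₀ hn₀ y y.2)
        rw [← conj_mul, mul_assoc, ← mul_assoc (z : G), hc.eq]
        group
    have hpos : ∀ i j : ℕ, ∀ y : (P : Subgroup G), (y : G) = a ^ i * b ^ j → ((φ y : (P : Subgroup G)) : G) = a ^ (2 * i) := by
      intro i j y e
      show (y : G) * (n₀ * y * n₀⁻¹) = _
      rw [e, ← conj_mul, conj_pow_eq _ hafix, conj_pow_eq _ hbinv]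
      have hab : Commute (b ^ j) (a ^ i) := hcomm _ (pow_mem hbP j) _ (pow_mem haP i)
      rw [mul_assoc, ← mul_assoc (b ^ j), hab.eq, mul_assoc (a ^ i), inv_pow, mul_inv_cancel, mul_one,
        ← pow_add, two_mul]
    have hinvr : ∀ n ∈ N, ∀ (y : (P : Subgroup G)) (hy : n * (y : G) * n⁻¹ ∈ (P : Subgroup G)),
        φ ⟨_, hy⟩ = φ y := by
      intro n hn y hy
      refine Subtype.ext ?_
      show n * (y : G) * n⁻¹ * (n₀ * (n * y * n⁻¹) * n₀⁻¹) = _
      rw [← hcom n hn y y.2, conj_mul]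
      obtain ⟨i, j, -, -, e⟩ := hgen y y.2
      rw [show (y : G) * (n₀ * y * n₀⁻¹) = ((φ y : (P : Subgroup G)) : G) from rfl, hpos i j y e,
        conj_pow_eq _ (hfixa n hn)]
    have hkey : ∀ (x : (P : Subgroup G)) (g : G) (hx : g⁻¹ * (x : G) * g ∈ (P : Subgroup G)), φ ⟨_, hx⟩ = φ x := by
      intro x g hx
      obtain ⟨n, hn, e⟩ := CfsgLib.Fusion.Transfer.controls_normalizer_of_comm P
        ⟨⟨fun y z => Subtype.ext (hcomm y y.2 z z.2)⟩⟩ x x.2 g⁻¹ (by rwa [inv_inv])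
      rw [inv_inv] at e
      have := hinvr n hn x (by rw [e]; exact hx)
      rw [← this]
      exact congrArg φ (Subtype.ext e.symm)
    set τ := MonoidHom.transfer φ
    have hτa : τ a = φ ⟨a, haP⟩ ^ (P : Subgroup G).index :=
      CfsgLib.Fusion.Transfer.transfer_eq_pow_of_invariant φ hkey ⟨a, haP⟩
    rcases (inferInstance : τ.ker.Normal).eq_bot_or_eq_top with e | e
    · refine hG ⟨⟨fun x y => ?_⟩⟩
      exact (MonoidHom.ker_eq_bot_iff τ).1 e (by rw [map_mul, map_mul, mul_comm])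
    · have h1 : φ ⟨a, haP⟩ ^ (P : Subgroup G).index = 1 := hτa ▸ MonoidHom.mem_ker.1 (e ▸ Subgroup.mem_top a)
      have h2 := congrArg Subtype.val h1
      rw [SubgroupClass.coe_pow, hpos 1 0 ⟨a, haP⟩ (by simp), ← pow_mul] at h2
      have h3 := orderOf_dvd_of_pow_eq_one h2
      rw [hoa, mul_one] at h3
      rcases Nat.prime_three.dvd_mul.1 h3 with h4 | h4
      · norm_num at h4
      · exact P.not_dvd_index h4
  obtain ⟨n₁, hn₁, e1⟩ := hflipA
  refine Or.inr ⟨a, b, hexp, hcomm, haP, hbP, hoa, hob, hindep, hgen, hactA, hactB, ⟨n₀, hn₀, hafix, hbinv⟩, ?_⟩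
  rcases hactB n₁ hn₁ with e2 | e2
  · exact ⟨n₁, hn₁, e1, e2⟩
  · refine ⟨n₁ * n₀, mul_mem hn₁ hn₀, ?_, ?_⟩
    · rw [show n₁ * n₀ * a * (n₁ * n₀)⁻¹ = n₁ * (n₀ * a * n₀⁻¹) * n₁⁻¹ by group, hafix, e1]
    · rw [show n₁ * n₀ * b * (n₁ * n₀)⁻¹ = n₁ * (n₀ * b * n₀⁻¹) * n₁⁻¹ by group, hbinv, ← conj_inv, e2, inv_inv]

end Classify

end CfsgLib.SmallGroups.NineTwoPrimes
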