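import Cfsg.Agent.Lib.SmallGroups.NineTwoPrimes.KleinFun
import Cfsg.Agent.Lib.SmallGroups.ValueTools

/-!
# The decomposition `1 + u - v` for the diagonal Klein pattern

One of the two pairs of degrees `d`, `d + 1` is prime to three.
-/

set_option autoImplicit false

namespace CfsgLib.SmallGroups.NineTwoPrimes

open Cfsg CfsgLib.Blocks CfsgLib.BrauerSuzuki CfsgLib.Blocks.TIAbelian CfsgLib.Char
open scoped Classical ComplexConjugate

variable {G : Type*} [Group G] [Fintype G] {P : Sylow 3 G} {a b : G}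

theorem secInd_section {x y : G} (hy : ∃ k, orderOf y = 3 ^ k)
    (s : Subgroup.centralizer ({y} : Set G)) (hs : IsPRegular 3 s) :
    secInd x (y * (s : G)) = if IsConj x y then 1 else 0 := by
  obtain ⟨k, hk⟩ := hy
  unfold secInd
  rw [pEl_mul (Subgroup.mem_centralizer_singleton_iff.1 s.2).symm hk
    (by rw [Subgroup.orderOf_coe]; exact hs)]

namespace Klein

variable (h : Klein P a b)
include h

theorem fA_section_a (s : Subgroup.centralizer ({a} : Set G)) (hs : IsPRegular 3 s) :
    h.fA (a * (s : G)) = 3 := by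
  simp only [Klein.fA, Pi.smul_apply, Pi.add_apply, secInd_section (pow_three_order h.ha) s hs,
    if_pos (IsConj.refl a), if_neg (fun e : IsConj (a * b) a => h.not_conj_ac e.symm)]
  simp

theorem fA_section_diag (s : Subgroup.centralizer ({a * b} : Set G)) (hs : IsPRegular 3 s) :
    h.fA (a * b * (s : G)) = 3 := by
  simp only [Klein.fA, Pi.smul_apply, Pi.add_apply, secInd_section (pow_three_order h.hc) s hs,
    if_pos (IsConj.refl (a * b)), if_neg h.not_conj_ac]
  simp

theorem fA_real (g : G) : conj (h.fA g) = h.fA g := by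
  simp only [Klein.fA, secInd, Pi.smul_apply, Pi.add_apply, smul_eq_mul, map_mul, map_add,
    apply_ite (starRingEnd ℂ), map_one, map_zero, map_ofNat]

theorem classInner_fA_one : classInner h.fA (fun _ : G => (1 : ℂ)) =
    3 * ((regCard 3 a : ℂ) / Nat.card (Subgroup.centralizer ({a} : Set G))) + 1 / 3 := by
  rw [h.classInner_fA (fun _ _ => rfl)]
  simp only [map_one, Finset.sum_const, nsmul_eq_mul, mul_one]
  have h1 := h.ratio_diag
  rw [regCard] at h1 ⊢
  linear_combination 3 * h1

/-- The regular elements of the centralizer of `a` lie in the kernel of its transfer. -/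
theorem regCard_le : 3 * regCard 3 a ≤ Nat.card (Subgroup.centralizer ({a} : Set G)) := by
  set C := Subgroup.centralizer ({a} : Set G) with hC
  have hPC : (P : Subgroup G) ≤ C := fun y hy =>
    Subgroup.mem_centralizer_singleton_iff.2 (h.comm y hy a h.ha)
  set T : Sylow 3 ↥C := P.subtype hPC with hT
  letI : CommGroup ↥(T : Subgroup ↥C) :=
    { (inferInstance : Group ↥(T : Subgroup ↥C)) with
      mul_comm := fun x y => Subtype.ext (Subtype.ext (h.comm _ (Subgroup.mem_subgroupOf.1 x.2) _
        (Subgroup.mem_subgroupOf.1 y.2))) }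
  let aC : ↥C := ⟨a, hPC h.ha⟩
  have haT : aC ∈ (T : Subgroup ↥C) := Subgroup.mem_subgroupOf.2 h.ha
  set τ := MonoidHom.transfer (MonoidHom.id ↥(T : Subgroup ↥C))
  have hcen : aC ∈ Subgroup.center ↥C := Subgroup.mem_center_iff.2 fun g =>
    Subtype.ext (Subgroup.mem_centralizer_singleton_iff.1 g.2)
  have hτ : τ aC ≠ 1 := fun e => by
    have h1 := CfsgLib.Fusion.Transfer.transfer_eq_pow_of_central (MonoidHom.id _) (x := ⟨aC, haT⟩) hcen
    have h2 : (⟨aC, haT⟩ : ↥(T : Subgroup ↥C)) ^ (T : Subgroup ↥C).index = 1 := by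
      rw [← MonoidHom.id_apply (M := ↥(T : Subgroup ↥C)) ⟨aC, haT⟩, ← h1]; exact e
    have h3 := orderOf_dvd_of_pow_eq_one h2
    rw [Subgroup.orderOf_mk, Subgroup.orderOf_mk, h.oa] at h3
    exact T.not_dvd_index h3
  have hker : ∀ s : ↥C, IsPRegular 3 s → s ∈ τ.ker := fun s hs => by
    obtain ⟨j, hj⟩ := IsPGroup.iff_orderOf.mp T.2 (τ s)
    rw [MonoidHom.mem_ker]
    by_contra hne
    have hj0 : j ≠ 0 := fun h0 => hne (orderOf_eq_one_iff.mp (by rw [hj, h0, pow_zero]))
    exact hs (((dvd_pow_self 3 hj0).trans (dvd_of_eq hj.symm)).trans (orderOf_map_dvd τ s))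
  have hidx : 3 ≤ τ.ker.index := by
    obtain ⟨j, hj⟩ := T.2.exists_card_eq
    have h1 : τ.ker.index ∣ 3 ^ j := by
      rw [Subgroup.index_ker, ← hj]; exact Subgroup.card_subgroup_dvd_card _
    obtain ⟨i, -, hi⟩ := (Nat.dvd_prime_pow Nat.prime_three).1 h1
    rcases Nat.eq_zero_or_pos i with rfl | hi0
    · exfalso
      rw [pow_zero, Subgroup.index_eq_one] at hi
      exact hτ (MonoidHom.mem_ker.1 (hi ▸ Subgroup.mem_top aC))
    · rw [hi]; exact Nat.le_self_pow hi0.ne' 3
  calc 3 * regCard 3 a ≤ τ.ker.index * Nat.card τ.ker := by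
        refine Nat.mul_le_mul hidx ?_
        rw [regCard, Nat.card_eq_fintype_card, Fintype.card_subtype]
        exact Finset.card_le_card fun s hs =>
          Finset.mem_filter.2 ⟨Finset.mem_univ _, hker s (Finset.mem_filter.1 hs).2⟩
    _ = Nat.card ↥C := Subgroup.index_mul_card _

theorem ratio_a : (regCard 3 a : ℂ) / Nat.card (Subgroup.centralizer ({a} : Set G)) = 2 / 9 := by
  set C := Nat.card (Subgroup.centralizer ({a} : Set G)) with hC
  have hC0 : (C : ℂ) ≠ 0 := Nat.cast_ne_zero.2 Nat.card_pos.ne'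
  obtain ⟨n, hn⟩ := IsGeneralizedCharacter.classInner_int h.fA_gc
    (IsCharacter.isGeneralizedCharacter (isCharacter_one (G := G)))
  have h1 := h.classInner_fA_one
  rw [hn, ← hC] at h1
  have h2 : (n : ℂ) * (3 * C) = 9 * regCard 3 a + C := by
    rw [h1]; field_simp; ring
  have h3 : n * (3 * C) = 9 * (regCard 3 a : ℤ) + C := by exact_mod_cast h2
  have hle := h.regCard_le
  rw [← hC] at hle
  have hCpos : 0 < C := Nat.card_pos
  have hr : 0 < regCard 3 a := by
    refine Finset.card_pos.2 ⟨1, Finset.mem_filter.2 ⟨Finset.mem_univ _, ?_⟩⟩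
    show ¬ 3 ∣ orderOf _
    rw [orderOf_one]; decide
  have hn1 : n = 1 := by
    have hlo : (0 : ℤ) < n := by
      by_contra hc
      push Not at hc
      nlinarith
    have hhi : n < 2 := by
      by_contra hc
      push Not at hc
      have : (9 : ℤ) * regCard 3 a ≤ 3 * C := by exact_mod_cast (by omega : 9 * regCard 3 a ≤ 3 * C)
      nlinarith
    omega
  rw [hn1, one_mul] at h3
  rw [div_eq_div_iff hC0 (by norm_num)]
  have h4 : 9 * regCard 3 a = 2 * C := by omega
  have h5 : ((9 * regCard 3 a : ℕ) : ℂ) = ((2 * C : ℕ) : ℂ) := by rw [h4]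
  push_cast at h5
  linear_combination h5

theorem fA_inner_one : classInner h.fA (fun _ : G => (1 : ℂ)) = 1 := by
  rw [h.classInner_fA_one, h.ratio_a]; norm_num

theorem fA_inner_self : classInner h.fA h.fA = 3 := by
  rw [h.classInner_fA (IsGeneralizedCharacter.isClassFunction h.fA_gc)]
  have ea : ∀ s ∈ Finset.univ.filter (fun s : Subgroup.centralizer ({a} : Set G) => IsPRegular 3 s),
      conj (h.fA (a * (s : G))) = 3 := fun s hs => by
    rw [h.fA_section_a s (Finset.mem_filter.1 hs).2, map_ofNat]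
  have ec : ∀ s ∈ Finset.univ.filter (fun s : Subgroup.centralizer ({a * b} : Set G) => IsPRegular 3 s),
      conj (h.fA (a * b * (s : G))) = 3 := fun s hs => by
    rw [h.fA_section_diag s (Finset.mem_filter.1 hs).2, map_ofNat]
  rw [Finset.sum_congr rfl ea, Finset.sum_congr rfl ec]
  simp only [Finset.sum_const, nsmul_eq_mul]
  have h1 := h.ratio_diag
  have h2 := h.ratio_a
  rw [regCard] at h1 h2
  linear_combination 9 * h1 + 9 * h2

/-- The product of the two functions: nine times the indicator of the diagonal sections. -/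
theorem fA_mul_fA_swap : h.fA * h.swap.fA = (9 : ℂ) • secInd (a * b) := by
  funext g
  simp only [Pi.mul_apply, Klein.fA, secInd, Pi.smul_apply, Pi.add_apply, smul_eq_mul]
  rw [h.comm b h.hb a h.ha]
  by_cases e1 : IsConj a (pEl 3 g)
  · rw [if_pos e1, if_neg fun e => h.not_conj_ac (e1.trans e.symm),
      if_neg fun e => h.not_conj_ab (e1.trans e.symm)]
    ring
  by_cases e2 : IsConj b (pEl 3 g)
  · rw [if_neg e1, if_pos e2, if_neg fun e => h.not_conj_bc (e2.trans e.symm)]
    ring
  rw [if_neg e1, if_neg e2]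
  split_ifs <;> ring

theorem fA_inner_swap : classInner h.fA h.swap.fA = 1 := by
  have hsw := IsGeneralizedCharacter.isClassFunction h.swap.fA_gc
  rw [h.classInner_fA hsw]
  have e0 : ∀ s : Subgroup.centralizer ({a} : Set G), IsPRegular 3 s → h.swap.fA (a * (s : G)) = 0 := by
    intro s hs
    simp only [Klein.fA, Pi.smul_apply, Pi.add_apply, secInd_section (pow_three_order h.ha) s hs,
      if_neg (fun e : IsConj b a => h.not_conj_ab e.symm)]
    rw [h.comm b h.hb a h.ha, if_neg (fun e : IsConj (a * b) a => h.not_conj_ac e.symm)]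
    simp
  have e1 : ∀ s : Subgroup.centralizer ({a * b} : Set G), IsPRegular 3 s →
      h.swap.fA (a * b * (s : G)) = 3 := by
    intro s hs
    simp only [Klein.fA, Pi.smul_apply, Pi.add_apply, secInd_section (pow_three_order h.hc) s hs,
      if_neg (fun e : IsConj b (a * b) => h.not_conj_bc e)]
    rw [h.comm b h.hb a h.ha, if_pos (IsConj.refl (a * b))]
    simp
  have ea : ∀ s ∈ Finset.univ.filter (fun s : Subgroup.centralizer ({a} : Set G) => IsPRegular 3 s),
      conj (h.swap.fA (a * (s : G))) = 0 := fun s hs => by rw [e0 s (Finset.mem_filter.1 hs).2, map_zero]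
  have ec : ∀ s ∈ Finset.univ.filter (fun s : Subgroup.centralizer ({a * b} : Set G) => IsPRegular 3 s),
      conj (h.swap.fA (a * b * (s : G))) = 3 := fun s hs => by rw [e1 s (Finset.mem_filter.1 hs).2, map_ofNat]
  rw [Finset.sum_congr rfl ea, Finset.sum_congr rfl ec]
  simp only [Finset.sum_const, nsmul_eq_mul]
  have h1 := h.ratio_diag
  rw [regCard] at h1
  linear_combination 9 * h1

theorem fA_inner_notMem {M : Ideal AlgInt} (hM : IsPModular 3 M) {χ : IrrCharacter G}
    (hχ : χ ∉ principalBlock M G) : classInner h.fA (χ : G → ℂ) = 0 := by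
  rw [h.classInner_fA (IsIrrCharacter.isClassFunction χ.2), ← map_sum, ← map_sum,
    SectionSums.sum_section_eq_zero hM hχ (pow_three_order h.ha),
    SectionSums.sum_section_eq_zero hM hχ (pow_three_order h.hc)]
  simp

/-- `u - v` is the nontrivial part of `fA`. -/
structure Dec (u v : IrrCharacter G) (d : ℕ) : Prop where
  pos : 0 < d
  du : charDegree (u : G → ℂ) = d
  dv : charDegree (v : G → ℂ) = d + 1
  hu : u ≠ trivChar G
  hv : v ≠ trivChar G
  ne : u ≠ v
  eq : h.fA = fun g => 1 + (u : G → ℂ) g - (v : G → ℂ) g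

theorem exists_dec : ∃ (u v : IrrCharacter G) (d : ℕ), h.Dec u v d := by
  obtain ⟨u, v, d, hu, hv, hd, he⟩ := CfsgLib.Characterizations.BSW.exists_sub_neg_one
    (θ := h.fA - fun _ : G => (1 : ℂ))
    (IsGeneralizedCharacter.sub h.fA_gc (IsCharacter.isGeneralizedCharacter isCharacter_one))
    (by rw [Pi.sub_apply, h.fA_one, zero_sub]) (by
      simp only [classInner_sub_left, classInner_sub_right]
      rw [h.fA_inner_self, h.fA_inner_one, ← classInner_conj_symm h.fA (fun _ : G => (1 : ℂ)),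
        h.fA_inner_one, classInner_irr_self isIrrCharacter_one]
      simp
      norm_num)
  have huv : u ≠ v := fun e => by
    rw [e, hv] at hu
    have : d + 1 = d := by exact_mod_cast hu
    omega
  have heq : h.fA = fun g => 1 + (u : G → ℂ) g - (v : G → ℂ) g := by
    funext g
    have := congrFun he g
    rw [Pi.sub_apply, Pi.sub_apply] at this
    linear_combination this
  have hone : classInner (fun g : G => 1 + (u : G → ℂ) g - (v : G → ℂ) g) (fun _ : G => (1 : ℂ)) = 1 := by
    rw [← heq]; exact h.fA_inner_one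
  rw [show (fun g : G => 1 + (u : G → ℂ) g - (v : G → ℂ) g) =
      ((trivChar G : IrrCharacter G) : G → ℂ) + ((u : G → ℂ) - (v : G → ℂ)) by
      funext g; simp [add_sub],
    show (fun _ : G => (1 : ℂ)) = ((trivChar G : IrrCharacter G) : G → ℂ) by funext g; simp,
    classInner_add_left, classInner_sub_left, classInner_irrCharacter, classInner_irrCharacter,
    classInner_irrCharacter, if_pos rfl] at hone
  refine ⟨u, v, d, hd, Nat.cast_injective (R := ℂ) (by rw [← irr_one_eq, hu]),
    Nat.cast_injective (R := ℂ) (by rw [← irr_one_eq, hv]; push_cast; rfl), fun e => ?_, fun e => ?_, huv, heq⟩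
  · rw [if_pos e, if_neg (fun e' => huv (e.trans e'.symm))] at hone; norm_num at hone
  · rw [if_pos e, if_neg (fun e' => huv (e'.trans e.symm))] at hone; norm_num at hone

variable {u v : IrrCharacter G} {d : ℕ}

theorem Dec.coeff (hd : h.Dec u v d) (χ : IrrCharacter G) :
    classInner h.fA (χ : G → ℂ) =
      (if trivChar G = χ then 1 else 0) + ((if u = χ then 1 else 0) - (if v = χ then 1 else 0)) := by
  rw [hd.eq, show (fun g : G => 1 + (u : G → ℂ) g - (v : G → ℂ) g) =
      ((trivChar G : IrrCharacter G) : G → ℂ) + ((u : G → ℂ) - (v : G → ℂ)) by funext g; simp [add_sub],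
    classInner_add_left, classInner_sub_left, classInner_irrCharacter, classInner_irrCharacter,
    classInner_irrCharacter]

theorem Dec.mem (hd : h.Dec u v d) {M : Ideal AlgInt} (hM : IsPModular 3 M) :
    u ∈ principalBlock M G ∧ v ∈ principalBlock M G := by
  refine ⟨?_, ?_⟩ <;> by_contra hc
  · have e := h.fA_inner_notMem hM hc
    rw [hd.coeff h u, if_neg hd.hu.symm, if_pos rfl, if_neg hd.ne.symm] at e
    norm_num at e
  · have e := h.fA_inner_notMem hM hc
    rw [hd.coeff h v, if_neg hd.hv.symm, if_neg hd.ne, if_pos rfl] at e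
    norm_num at e

/-- The four characters are distinct. -/
theorem Dec.disjoint (hd : h.Dec u v d) {u' v' : IrrCharacter G} {d' : ℕ} (hd' : h.swap.Dec u' v' d') :
    u ≠ u' ∧ u ≠ v' ∧ v ≠ u' ∧ v ≠ v' := by
  have e := h.fA_inner_swap
  rw [hd'.eq, show (fun g : G => 1 + (u' : G → ℂ) g - (v' : G → ℂ) g) =
      ((trivChar G : IrrCharacter G) : G → ℂ) + ((u' : G → ℂ) - (v' : G → ℂ)) by funext g; simp [add_sub],
    classInner_add_right, classInner_sub_right, hd.coeff, hd.coeff, hd.coeff] at e
  simp only [if_pos, if_neg hd.hu, if_neg hd.hv, if_neg hd'.hu.symm, if_neg hd'.hv.symm, zero_add,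
    sub_zero, add_zero] at e
  have e1 : u = u' → d = d' := fun e' => by rw [← hd.du, e', hd'.du]
  have e2 : u = v' → d = d' + 1 := fun e' => by rw [← hd.du, e', hd'.dv]
  have e3 : v = u' → d + 1 = d' := fun e' => by rw [← hd.dv, e', hd'.du]
  have e4 : v = v' → d + 1 = d' + 1 := fun e' => by rw [← hd.dv, e', hd'.dv]
  have e5 : ¬ (u = v' ∧ v = u') := fun e' => by have := e2 e'.1; have := e3 e'.2; omega
  by_cases a1 : u = u' <;> by_cases a2 : u = v' <;> by_cases a3 : v = u' <;> by_cases a4 : v = v' <;>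
    simp only [a1, a2, a3, a4, if_true, if_false] at e <;>
    first
      | exact ⟨a1, a2, a3, a4⟩
      | (exfalso; first
          | exact hd.ne (a1.trans a3.symm)
          | exact hd.ne (a2.trans a4.symm)
          | exact hd'.ne (a1.symm.trans a2)
          | exact hd'.ne (a3.symm.trans a4)
          | exact e5 ⟨a2, a3⟩
          | exact hd'.ne e
          | exact hd'.ne e.symm
          | (simp [hd'.ne, Ne.symm hd'.ne] at e; done)
          | (norm_num [hd'.ne, Ne.symm hd'.ne] at e; done)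
          | (norm_num at e; done))

/-- One of the two pairs has both degrees prime to three. -/
theorem good_pair {M : Ideal AlgInt} (hM : IsPModular 3 M) {u' v' : IrrCharacter G} {d' : ℕ}
    (hd : h.Dec u v d) (hd' : h.swap.Dec u' v' d') :
    (¬ 3 ∣ d ∧ ¬ 3 ∣ d + 1) ∨ (¬ 3 ∣ d' ∧ ¬ 3 ∣ d' + 1) := by
  have hgc : IsGeneralizedCharacter G ((9 : ℂ) • secInd (a * b)) :=
    h.fA_mul_fA_swap ▸ gc_mul h.fA_gc h.swap.fA_gc
  set Φ : G → ℂ := (9 : ℂ) • secInd (a * b) with hΦ
  set z : IrrCharacter G → ℤ := BrauerSuzuki.coeff Φ with hzdef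
  have hinner : ∀ {Ψ : G → ℂ}, IsClassFunction G Ψ → classInner Φ Ψ =
      9 * ((Nat.card (Subgroup.centralizer ({a * b} : Set G)) : ℂ)⁻¹ *
        ∑ s : Subgroup.centralizer ({a * b} : Set G) with IsPRegular 3 s, conj (Ψ (a * b * (s : G)))) := by
    intro Ψ hΨ
    rw [hΦ, classInner_smul_left, classInner_secInd (pow_three_order h.hc) hΨ]
  have hconst : ∀ {Ψ : G → ℂ} {w : ℂ}, IsClassFunction G Ψ →
      (∀ s : Subgroup.centralizer ({a * b} : Set G), IsPRegular 3 s → Ψ (a * b * (s : G)) = w) →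
      classInner Φ Ψ = conj w := by
    intro Ψ w hΨ hw
    rw [hinner hΨ, Finset.sum_congr rfl (g := fun _ => conj w) fun s hs => by rw [hw s (Finset.mem_filter.1 hs).2],
      Finset.sum_const, nsmul_eq_mul]
    have h1 := h.ratio_diag
    rw [regCard] at h1
    linear_combination 9 * conj w * h1
  have hnorm : ∑ χ, z χ * z χ = 9 := by
    have e : classInner Φ Φ = conj (9 : ℂ) := hconst (IsGeneralizedCharacter.isClassFunction hgc) fun s hs => by
      rw [hΦ, Pi.smul_apply, secInd_section (pow_three_order h.hc) s hs, if_pos (IsConj.refl _), smul_eq_mul,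
        mul_one]
    rw [classInner_eq_sum_coeff hgc hgc, map_ofNat] at e
    exact_mod_cast e
  have hcong : ∀ χ ∈ principalBlock M G, (3 : ℤ) ∣ z χ - charDegree (χ : G → ℂ) := by
    intro χ hχ
    have e := hconst (IsIrrCharacter.isClassFunction χ.2) (w := (χ : G → ℂ) (a * b)) fun s hs =>
      SectionSums.apply_section hM hχ (pow_three_order h.hc) h.npc_diag
        (Subgroup.mem_centralizer_singleton_iff.1 s.2) (by rw [Subgroup.orderOf_coe]; exact hs)
    rw [← cast_coeff hgc] at e
    have hval : (χ : G → ℂ) (a * b) = (z χ : ℂ) := by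
      have := congrArg conj e
      rw [Complex.conj_conj, map_intCast] at this
      exact this.symm
    have hoc : orderOf (a * b) = 3 := orderOf_eq_prime (h.exp _ h.hc) h.ne_one.2.2
    have hinv : (χ : G → ℂ) ((a * b) ^ 2) = (z χ : ℂ) := by
      obtain ⟨nA, -, eA1, eA2⟩ := h.flipA
      obtain ⟨nB, -, eB1, eB2⟩ := h.flipB
      have e2 : nA * nB * (a * b) * (nA * nB)⁻¹ = (a * b) ^ 2 := by
        rw [show nA * nB * (a * b) * (nA * nB)⁻¹ = nA * ((nB * a * nB⁻¹) * (nB * b * nB⁻¹)) * nA⁻¹ by group,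
          eB1, eB2, ← conj_mul, ← conj_inv, eA1, eA2,
          eq_inv_of_mul_eq_one_left (show (a * b) ^ 2 * (a * b) = 1 by rw [← pow_succ]; exact h.exp _ h.hc),
          mul_inv_rev, h.comm _ (inv_mem h.hb) _ (inv_mem h.ha)]
      rw [← e2, irr_conj_apply, hval]
    obtain ⟨m, hm⟩ := ValueTools.exists_mult χ (Subgroup.zpowers (a * b))
    rw [Nat.card_zpowers, hoc] at hm
    have hs : ∑ x : ↥(Subgroup.zpowers (a * b)), (χ : G → ℂ) x =
        ((charDegree (χ : G → ℂ) : ℤ) + 2 * z χ : ℤ) := by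
      let f : Fin 3 → ↥(Subgroup.zpowers (a * b)) := fun i => ⟨(a * b) ^ (i : ℕ), Subgroup.npow_mem_zpowers _ _⟩
      have hf : Function.Bijective f := by
        refine (Fintype.bijective_iff_injective_and_card f).mpr ⟨fun i j e => ?_, ?_⟩
        · exact Fin.ext (pow_injOn_Iio_orderOf (by rw [hoc]; exact i.2) (by rw [hoc]; exact j.2) (congrArg Subtype.val e))
        · rw [Fintype.card_fin, ← Nat.card_eq_fintype_card, Nat.card_zpowers, hoc]
      rw [← (Equiv.ofBijective f hf).sum_comp, Fin.sum_univ_three]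
      simp only [Equiv.ofBijective_apply, f, Fin.val_zero, Fin.val_one, Fin.val_two, pow_zero, pow_one,
        irr_one_eq, hval, hinv]
      push_cast; ring
    rw [hs] at hm
    have h3 : (charDegree (χ : G → ℂ) : ℤ) + 2 * z χ = 3 * m := by exact_mod_cast hm
    exact ⟨z χ - m, by linarith⟩
  have hz1 : z (trivChar G) = 1 := by
    have e := hconst (IsIrrCharacter.isClassFunction (trivChar G).2) (w := 1) fun s _ => trivChar_apply _
    rw [← cast_coeff hgc, map_one] at e
    exact_mod_cast e
  have hmix : ∀ (a' b' : G) (k : Klein P a' b') (u v : IrrCharacter G) (d : ℕ), k.Dec u v d →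
      classInner k.fA Φ = 3 → z u - z v = 2 := by
    intro a' b' k u v d hk hin
    rw [hk.eq, show (fun g : G => 1 + (u : G → ℂ) g - (v : G → ℂ) g) =
        ((trivChar G : IrrCharacter G) : G → ℂ) + ((u : G → ℂ) - (v : G → ℂ)) by funext g; simp [add_sub],
      classInner_add_left, classInner_sub_left] at hin
    have hc : ∀ χ : IrrCharacter G, classInner (χ : G → ℂ) Φ = (z χ : ℂ) := fun χ => by
      rw [← classInner_conj_symm Φ (χ : G → ℂ), ← cast_coeff hgc, map_intCast]
    rw [hc, hc, hc, hz1] at hin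
    push_cast at hin
    have : ((z u - z v : ℤ) : ℂ) = ((2 : ℤ) : ℂ) := by push_cast; linear_combination hin
    exact_mod_cast this
  have hΦcl := IsGeneralizedCharacter.isClassFunction hgc
  have huv : z u - z v = 2 := hmix a b h u v d hd (by
    rw [← classInner_conj_symm Φ h.fA, hconst (IsGeneralizedCharacter.isClassFunction h.fA_gc) (w := 3)
      fun s hs => h.fA_section_diag s hs, Complex.conj_conj])
  have huv' : z u' - z v' = 2 := hmix b a h.swap u' v' d' hd' (by
    rw [← classInner_conj_symm Φ h.swap.fA, hconst (IsGeneralizedCharacter.isClassFunction h.swap.fA_gc) (w := 3)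
      fun s hs => ?_, Complex.conj_conj]
    simp only [Klein.fA, Pi.smul_apply, Pi.add_apply, secInd_section (pow_three_order h.hc) s hs,
      if_neg (fun e : IsConj b (a * b) => h.not_conj_bc e)]
    rw [h.comm b h.hb a h.ha, if_pos (IsConj.refl (a * b))]
    simp)
  obtain ⟨n1, n2, n3, n4⟩ := hd.disjoint h hd'
  have hsum : 1 + (z u * z u + z v * z v + (z u' * z u' + z v' * z v')) +
      ∑ χ ∈ ((((Finset.univ.erase (trivChar G)).erase u).erase v).erase u').erase v', z χ * z χ = 9 := by
    rw [← hnorm, ← Finset.add_sum_erase _ _ (Finset.mem_univ (trivChar G)),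
      ← Finset.add_sum_erase _ _ (show u ∈ Finset.univ.erase (trivChar G) by simp [hd.hu]),
      ← Finset.add_sum_erase _ _ (show v ∈ (Finset.univ.erase (trivChar G)).erase u by simp [hd.hv, hd.ne.symm]),
      ← Finset.add_sum_erase _ _ (show u' ∈ ((Finset.univ.erase (trivChar G)).erase u).erase v by
        simp [hd'.hu, Ne.symm n1, Ne.symm n3]),
      ← Finset.add_sum_erase _ _ (show v' ∈ (((Finset.univ.erase (trivChar G)).erase u).erase v).erase u' by
        simp [hd'.hv, Ne.symm n2, Ne.symm n4, hd'.ne.symm]),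
      hz1]
    ring
  set R := ((((Finset.univ.erase (trivChar G)).erase u).erase v).erase u').erase v' with hR
  have hR0 : 0 ≤ ∑ χ ∈ R, z χ * z χ := Finset.sum_nonneg fun χ _ => mul_self_nonneg _
  by_contra hcon
  rw [not_or, not_and_or, not_and_or, not_not, not_not, not_not, not_not] at hcon
  obtain ⟨hu3, hv3⟩ := hd.mem h hM
  obtain ⟨hu3', hv3'⟩ := hd'.mem h.swap hM
  have key : ∀ (x y : ℤ) (m : ℕ), x - y = 2 → (3 : ℤ) ∣ x - m → (3 : ℤ) ∣ y - (m + 1 : ℕ) →
      (3 ∣ m ∨ 3 ∣ m + 1) → 4 ≤ x * x + y * y ∧ (x * x + y * y ≤ 4 → 2 ∣ x ∧ 2 ∣ y) := by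
    intro x y m h2 hx hy h3
    push_cast at hy
    obtain rfl : x = y + 2 := by linarith
    have hy0 : (3 : ℤ) ∣ y + 2 ∨ (3 : ℤ) ∣ y := by
      rcases h3 with e | e
      · left
        obtain ⟨k, hk⟩ := Int.natCast_dvd_natCast.2 e
        obtain ⟨l, hl⟩ := hx
        exact ⟨l + k, by push_cast at hk ⊢; linarith⟩
      · right
        obtain ⟨k, hk⟩ := Int.natCast_dvd_natCast.2 e
        obtain ⟨l, hl⟩ := hy
        exact ⟨l + k, by push_cast at hk ⊢; linarith⟩
    rcases le_or_gt y (-3) with hlo | hlo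
    · exact ⟨by nlinarith, fun hle => by nlinarith⟩
    rcases le_or_gt 1 y with hhi | hhi
    · exact ⟨by nlinarith, fun hle => by nlinarith⟩
    have hne : y ≠ -1 := by rintro rfl; rcases hy0 with e | e <;> norm_num at e
    rcases (show y = -2 ∨ y = 0 by omega) with rfl | rfl <;> norm_num
  obtain ⟨k1, k2⟩ := key (z u) (z v) d huv (by simpa [hd.du] using hcong u hu3)
    (by simpa [hd.dv] using hcong v hv3) hcon.1
  obtain ⟨k3, k4⟩ := key (z u') (z v') d' huv' (by simpa [hd'.du] using hcong u' hu3')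
    (by simpa [hd'.dv] using hcong v' hv3') hcon.2
  have hRz : ∑ χ ∈ R, z χ * z χ = 0 := by omega
  have hzero : ∀ χ ∈ R, z χ = 0 := fun χ hχ => mul_self_eq_zero.1
    ((Finset.sum_eq_zero_iff_of_nonneg fun χ _ => mul_self_nonneg (z χ)).1 hRz χ hχ)
  have hev : ∀ χ, χ ≠ trivChar G → 2 ∣ z χ := by
    intro χ hχ
    by_cases a1 : χ = u; · exact a1 ▸ (k2 (by omega)).1
    by_cases a2 : χ = v; · exact a2 ▸ (k2 (by omega)).2
    by_cases a3 : χ = u'; · exact a3 ▸ (k4 (by omega)).1
    by_cases a4 : χ = v'; · exact a4 ▸ (k4 (by omega)).2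
    rw [hzero χ (by simp [hR, hχ, a1, a2, a3, a4])]; exact dvd_zero _
  have hdeg : ∑ χ : IrrCharacter G, z χ * (charDegree (χ : G → ℂ) : ℤ) = 0 := by
    have e := eq_sum_coeff hgc (1 : G)
    have h0 : Φ 1 = 0 := by
      have e1 : pEl 3 (1 : G) = 1 := pEl_self ⟨0, by simp⟩
      simp [hΦ, secInd, e1, h.ne_one.2.2]
    rw [h0] at e
    simp only [irr_one_eq] at e
    exact_mod_cast e.symm
  rw [← Finset.add_sum_erase _ _ (Finset.mem_univ (trivChar G)), hz1] at hdeg
  have h2 : (2 : ℤ) ∣ ∑ χ ∈ Finset.univ.erase (trivChar G), z χ * (charDegree (χ : G → ℂ) : ℤ) :=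
    Finset.dvd_sum fun χ hχ => (hev χ (Finset.mem_erase.1 hχ).1).mul_right _
  have h1 : charDegree ((trivChar G : IrrCharacter G) : G → ℂ) = 1 := by simp [charDegree]
  rw [h1] at hdeg
  omega

end Klein

end CfsgLib.SmallGroups.NineTwoPrimes
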