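import Cfsg.Agent.Lib.SmallGroups.NineTwoPrimes.Fusion
import Cfsg.Agent.Lib.Blocks.SectionSums
import Cfsg.Agent.Lib.Characterizations.BSWChars

/-!
# Generalized characters of the 3-part for the diagonal Klein pattern

For `Klein P a b` the classes of nontrivial 3-elements are those of `a`, `b` and `a * b`, and the
function three times the indicator of the sections of `a` and `a * b` decomposes as `1 + u - v`.
-/

set_option autoImplicit false

namespace CfsgLib.SmallGroups.NineTwoPrimes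

open Cfsg CfsgLib.Blocks CfsgLib.BrauerSuzuki CfsgLib.Blocks.TIAbelian
open scoped Classical ComplexConjugate

variable {G : Type*} [Group G] [Fintype G] {P : Sylow 3 G} {a b : G}

instance : Fact (Nat.Prime 3) := ⟨Nat.prime_three⟩

/-- The indicator of the union of the sections of the conjugates of `x`. -/
noncomputable def secInd (x : G) : G → ℂ := fun g => if IsConj x (pEl 3 g) then 1 else 0

theorem secInd_class (x : G) : IsClassFunction G (secInd x) := fun g u => by
  unfold secInd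
  rw [pEl_conj]
  refine if_congr ⟨fun h => h.trans (isConj_iff.2 ⟨u, rfl⟩).symm, fun h => h.trans (isConj_iff.2 ⟨u, rfl⟩)⟩ rfl rfl

theorem pEl_self {x : G} (hx : ∃ k, orderOf x = 3 ^ k) : pEl 3 x = x := by
  obtain ⟨k, hk⟩ := hx
  have := pEl_mul (p := 3) (Commute.one_right x) hk (by rw [orderOf_one]; decide)
  rwa [mul_one] at this

theorem pow_three_order {y : G} (hy : y ∈ (P : Subgroup G)) : ∃ k, orderOf y = 3 ^ k := by
  obtain ⟨k, hk⟩ := IsPGroup.iff_orderOf.mp P.2 ⟨y, hy⟩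
  exact ⟨k, by rwa [Subgroup.orderOf_mk] at hk⟩

/-- The inner product with the indicator of a section class. -/
theorem classInner_secInd {x : G} (hx : ∃ k, orderOf x = 3 ^ k) {Ψ : G → ℂ} (hΨ : IsClassFunction G Ψ) :
    classInner (secInd x) Ψ = (Nat.card (Subgroup.centralizer ({x} : Set G)) : ℂ)⁻¹ *
      ∑ s : Subgroup.centralizer ({x} : Set G) with IsPRegular 3 s, conj (Ψ (x * (s : G))) := by
  set Φ : G → ℂ := fun g => conj (Ψ g) with hΦ
  have hfib : ∀ z : G, IsConj x z → ∑ u : G with pEl 3 u = z, Φ u = ∑ u : G with pEl 3 u = x, Φ u := by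
    intro z hz
    obtain ⟨c, hc⟩ := isConj_iff.1 hz
    refine Finset.sum_equiv (MulAut.conj c⁻¹).toEquiv (fun u => ?_) fun u _ => ?_
    · simp only [Finset.mem_filter, Finset.mem_univ, true_and]
      show pEl 3 u = z ↔ pEl 3 (c⁻¹ * u * c⁻¹⁻¹) = x
      rw [pEl_conj, ← hc]
      constructor
      · intro e; rw [e]; group
      · intro e; rw [← e]; group
    · show conj (Ψ u) = conj (Ψ (c⁻¹ * u * c⁻¹⁻¹))
      rw [hΨ u c⁻¹]
  have hsum : ∑ g : G, secInd x g * conj (Ψ g) =
      ((Finset.univ.filter fun z : G => IsConj x z).card : ℂ) * ∑ u : G with pEl 3 u = x, Φ u := by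
    rw [show ∑ g : G, secInd x g * conj (Ψ g) = ∑ g : G with IsConj x (pEl 3 g), Φ g by
      rw [Finset.sum_filter]; exact Finset.sum_congr rfl fun g _ => by unfold secInd; split_ifs <;> simp [Φ],
      ← Finset.sum_fiberwise_of_maps_to (g := pEl 3) (t := Finset.univ.filter fun z : G => IsConj x z)
        (fun g hg => Finset.mem_filter.2 ⟨Finset.mem_univ _, (Finset.mem_filter.1 hg).2⟩),
      Finset.sum_congr rfl (g := fun _ => ∑ u : G with pEl 3 u = x, Φ u) fun z hz => by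
        rw [← hfib z (Finset.mem_filter.1 hz).2, Finset.filter_filter]
        refine Finset.sum_congr (Finset.filter_congr fun u _ => ⟨And.right, fun e => ⟨?_, e⟩⟩) fun _ _ => rfl
        rw [e]; exact (Finset.mem_filter.1 hz).2,
      Finset.sum_const, nsmul_eq_mul]
  obtain ⟨k, hk⟩ := hx
  have hcls : ((Finset.univ.filter fun z : G => IsConj x z).card : ℂ) *
      (Nat.card (Subgroup.centralizer ({x} : Set G)) : ℂ) = Nat.card G := by
    rw [← Nat.cast_mul, Nat.cast_inj, ← CfsgLib.Char.card_conjugates_mul x]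
    congr 1
    rw [Nat.card_eq_fintype_card, Fintype.card_subtype]
    exact congrArg Finset.card (Finset.filter_congr fun z _ => isConj_comm)
  rw [Cfsg.classInner, hsum, sum_fiber (p := 3) Φ hk]
  have hC : (Nat.card (Subgroup.centralizer ({x} : Set G)) : ℂ) ≠ 0 := Nat.cast_ne_zero.2 Nat.card_pos.ne'
  have hG : (Nat.card G : ℂ) ≠ 0 := Nat.cast_ne_zero.2 Nat.card_pos.ne'
  field_simp
  linear_combination (∑ s : Subgroup.centralizer ({x} : Set G) with IsPRegular 3 s, Φ (x * (s : G))) * hcls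

namespace Klein

variable (h : Klein P a b)
include h

theorem hc : a * b ∈ (P : Subgroup G) := mul_mem h.ha h.hb

theorem ne_one : a ≠ 1 ∧ b ≠ 1 ∧ a * b ≠ 1 := by
  refine ⟨fun e => ?_, fun e => ?_, fun e => ?_⟩
  · have := h.oa; rw [e, orderOf_one] at this; omega
  · have := h.ob; rw [e, orderOf_one] at this; omega
  · exact h.indep (eq_inv_of_mul_eq_one_right e ▸ inv_mem (Subgroup.mem_zpowers a))

theorem zpowers_inf : Subgroup.zpowers a ⊓ Subgroup.zpowers b = ⊥ := by
  have hd : Nat.card ↥(Subgroup.zpowers a ⊓ Subgroup.zpowers b) ∣ 3 :=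
    h.ob ▸ Nat.card_zpowers b ▸ Subgroup.card_dvd_of_le inf_le_right
  rcases (Nat.dvd_prime Nat.prime_three).1 hd with e1 | e1
  · exact Subgroup.card_eq_one.1 e1
  · exfalso
    refine h.indep ((inf_le_left : Subgroup.zpowers a ⊓ Subgroup.zpowers b ≤ _) ?_)
    rw [Subgroup.eq_of_le_of_card_ge inf_le_right (by rw [e1, Nat.card_zpowers, h.ob])]
    exact Subgroup.mem_zpowers b

theorem coord_bij : Function.Bijective (fun ij : Fin 3 × Fin 3 =>
    (⟨a ^ (ij.1 : ℕ) * b ^ (ij.2 : ℕ), mul_mem (pow_mem h.ha _) (pow_mem h.hb _)⟩ : (P : Subgroup G))) := by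
  refine ⟨?_, fun y => ?_⟩
  · rintro ⟨i, j⟩ ⟨i', j'⟩ he
    have h1 : a ^ (i : ℕ) * b ^ (j : ℕ) = a ^ (i' : ℕ) * b ^ (j' : ℕ) := congrArg Subtype.val he
    have h2 : (a ^ (i' : ℕ))⁻¹ * a ^ (i : ℕ) = b ^ (j' : ℕ) * (b ^ (j : ℕ))⁻¹ := by
      rw [eq_mul_inv_iff_mul_eq, mul_assoc, h1, inv_mul_cancel_left]
    have h3 : (a ^ (i' : ℕ))⁻¹ * a ^ (i : ℕ) = 1 := by
      refine Subgroup.mem_bot.1 (h.zpowers_inf ▸ Subgroup.mem_inf.2 ⟨?_, ?_⟩)
      · exact mul_mem (inv_mem (Subgroup.npow_mem_zpowers a _)) (Subgroup.npow_mem_zpowers a _)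
      · exact h2 ▸ mul_mem (Subgroup.npow_mem_zpowers b _) (inv_mem (Subgroup.npow_mem_zpowers b _))
    have hi : i = i' := by
      rw [inv_mul_eq_one, pow_inj_mod, h.oa, Nat.mod_eq_of_lt i.2, Nat.mod_eq_of_lt i'.2] at h3
      exact Fin.ext h3.symm
    subst hi
    have h4 := mul_left_cancel h1
    rw [pow_inj_mod, h.ob, Nat.mod_eq_of_lt j.2, Nat.mod_eq_of_lt j'.2] at h4
    exact Prod.ext rfl (Fin.ext h4)
  · obtain ⟨i, j, hi, hj, e⟩ := h.gen y y.2
    exact ⟨(⟨i, hi⟩, ⟨j, hj⟩), Subtype.ext e.symm⟩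

theorem card_nine : Nat.card (P : Subgroup G) = 9 := by
  rw [← Nat.card_congr (Equiv.ofBijective _ h.coord_bij), Nat.card_prod, Nat.card_fin]

theorem npc_diag : Cfsg.HasNormalPComplement 3 ↥(Subgroup.centralizer ({a * b} : Set G)) := by
  have hPC : (P : Subgroup G) ≤ Subgroup.centralizer ({a * b} : Set G) := fun y hy =>
    Subgroup.mem_centralizer_singleton_iff.2 (h.comm y hy _ h.hc)
  refine CfsgLib.Fusion.Abelian.npc_of_normalizer_le_centralizer (P.subtype hPC)
    fun g hg => Subgroup.mem_centralizer_iff.mpr fun y hy => Subtype.ext ?_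
  have hgN : (g : G) ∈ Subgroup.normalizer ((P : Subgroup G) : Set G) := by
    refine Subgroup.mem_normalizer_iff.mpr fun u => ⟨fun hu => ?_, fun hu => ?_⟩
    · exact Subgroup.mem_subgroupOf.mp ((Subgroup.mem_normalizer_iff.mp hg ⟨u, hPC hu⟩).mp
        (Subgroup.mem_subgroupOf.mpr hu))
    · have huC : u ∈ Subgroup.centralizer ({a * b} : Set G) := by
        have h2 := mul_mem (mul_mem (inv_mem g.2) (hPC hu)) g.2
        rwa [show (g : G)⁻¹ * ((g : G) * u * (g : G)⁻¹) * g = u by group] at h2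
      exact Subgroup.mem_subgroupOf.mp
        ((Subgroup.mem_normalizer_iff.mp hg ⟨u, huC⟩).mpr (Subgroup.mem_subgroupOf.mpr hu))
  have hfix : (g : G) * (a * b) * (g : G)⁻¹ = a * b := by
    rw [Subgroup.mem_centralizer_singleton_iff.1 g.2, mul_inv_cancel_right]
  have hodd : Odd (Nat.card (P : Subgroup G)) := by
    obtain ⟨k, hk⟩ := P.2.exists_card_eq
    rw [hk]; exact Odd.pow (by decide)
  rw [← conj_mul] at hfix
  have hga : (g : G) * a * (g : G)⁻¹ = a := (h.actA _ hgN).resolve_right fun e => by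
    rcases h.actB _ hgN with e' | e'
    · rw [e, e', mul_left_inj] at hfix
      exact h.ne_one.1 (eq_one_of_eq_inv hodd h.ha hfix.symm)
    · refine h.ne_one.2.2 (eq_one_of_eq_inv hodd h.hc ?_)
      rw [mul_inv_rev, h.comm _ (inv_mem h.hb) _ (inv_mem h.ha)]
      conv_lhs => rw [← hfix, e, e']
  have hgb : (g : G) * b * (g : G)⁻¹ = b := by rw [hga, mul_right_inj] at hfix; exact hfix
  obtain ⟨i, j, -, -, e⟩ := h.gen (y : G) (Subgroup.mem_subgroupOf.mp hy)
  show (y : G) * (g : G) = (g : G) * (y : G)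
  have e2 : (g : G) * (y : G) * (g : G)⁻¹ = y := by
    rw [e, ← conj_mul, conj_pow_eq _ hga, conj_pow_eq _ hgb]
  exact (mul_inv_eq_iff_eq_mul.1 e2).symm

theorem controls {x y : G} (hx : x ∈ (P : Subgroup G)) (hy : y ∈ (P : Subgroup G)) (e : IsConj x y) :
    ∃ n ∈ Subgroup.normalizer ((P : Subgroup G) : Set G), n * x * n⁻¹ = y := by
  obtain ⟨g, hg⟩ := isConj_iff.1 e
  obtain ⟨n, hn, e'⟩ := CfsgLib.Fusion.Transfer.controls_normalizer_of_comm P
    ⟨⟨fun u v => Subtype.ext (h.comm u u.2 v v.2)⟩⟩ x hx g (by rw [hg]; exact hy)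
  exact ⟨n, hn, e'.trans hg⟩

theorem not_conj_ab : ¬ IsConj a b := fun e => by
  obtain ⟨n, hn, e'⟩ := h.controls h.ha h.hb e
  rcases h.actA n hn with e2 | e2 <;> rw [e'] at e2
  · exact h.indep (e2 ▸ Subgroup.mem_zpowers a)
  · exact h.indep (e2 ▸ inv_mem (Subgroup.mem_zpowers a))

theorem not_conj_ac : ¬ IsConj a (a * b) := fun e => by
  obtain ⟨n, hn, e'⟩ := h.controls h.ha h.hc e
  refine h.indep ?_
  have hm : a * b ∈ Subgroup.zpowers a := by
    rcases h.actA n hn with e2 | e2 <;> rw [e'] at e2 <;> rw [e2]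
    · exact Subgroup.mem_zpowers a
    · exact inv_mem (Subgroup.mem_zpowers a)
  have := mul_mem (inv_mem (Subgroup.mem_zpowers a)) hm
  rwa [inv_mul_cancel_left] at this

theorem not_conj_bc : ¬ IsConj b (a * b) := by
  rw [h.comm a h.ha b h.hb]
  exact h.swap.not_conj_ac

/-- The three classes. -/
theorem class_cases {y : G} (hy : y ∈ (P : Subgroup G)) (hy1 : y ≠ 1) :
    (IsConj a y ∧ y ∈ Subgroup.zpowers a) ∨ (IsConj b y ∧ y ∈ Subgroup.zpowers b) ∨
      (IsConj (a * b) y ∧ y ∉ Subgroup.zpowers a ∧ y ∉ Subgroup.zpowers b) := by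
  obtain ⟨i, j, hi, hj, e⟩ := h.gen y hy
  obtain ⟨nA, -, eA1, eA2⟩ := h.flipA
  obtain ⟨nB, -, eB1, eB2⟩ := h.flipB
  have hiv : ∀ {x : G}, x ∈ (P : Subgroup G) → x ^ 2 = x⁻¹ := fun {x} hx =>
    eq_inv_of_mul_eq_one_left (by rw [← pow_succ]; exact h.exp x hx)
  have hnot : ∀ k : ℕ, k < 3 → k ≠ 0 → a ^ k ∉ Subgroup.zpowers b ∧ b ^ k ∉ Subgroup.zpowers a := by
    intro k hk hk0
    rcases (show k = 1 ∨ k = 2 by omega) with rfl | rfl
    · rw [pow_one, pow_one]; exact ⟨h.swap.indep, h.indep⟩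
    · rw [hiv h.ha, hiv h.hb, inv_mem_iff, inv_mem_iff]; exact ⟨h.swap.indep, h.indep⟩
  rcases Nat.eq_zero_or_pos i with rfl | hi0
  · rw [pow_zero, one_mul] at e
    refine Or.inr (Or.inl ⟨?_, e ▸ Subgroup.npow_mem_zpowers b j⟩)
    rcases (show j = 0 ∨ j = 1 ∨ j = 2 by omega) with rfl | rfl | rfl
    · exact absurd (by simpa using e) hy1
    · rw [e, pow_one]
    · rw [e, hiv h.hb]; exact isConj_iff.2 ⟨nB, eB2⟩
  rcases Nat.eq_zero_or_pos j with rfl | hj0
  · rw [pow_zero, mul_one] at e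
    refine Or.inl ⟨?_, e ▸ Subgroup.npow_mem_zpowers a i⟩
    rcases (show i = 1 ∨ i = 2 by omega) with rfl | rfl
    · rw [e, pow_one]
    · rw [e, hiv h.ha]; exact isConj_iff.2 ⟨nA, eA1⟩
  refine Or.inr (Or.inr ⟨?_, fun hm => ?_, fun hm => ?_⟩)
  · rcases (show i = 1 ∨ i = 2 by omega) with rfl | rfl <;>
      rcases (show j = 1 ∨ j = 2 by omega) with rfl | rfl
    · rw [e, pow_one, pow_one]
    · exact isConj_iff.2 ⟨nB, by rw [← conj_mul, eB1, eB2, e, pow_one, hiv h.hb]⟩
    · exact isConj_iff.2 ⟨nA, by rw [← conj_mul, eA1, eA2, e, pow_one, hiv h.ha]⟩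
    · refine isConj_iff.2 ⟨nA * nB, ?_⟩
      rw [show nA * nB * (a * b) * (nA * nB)⁻¹ = nA * ((nB * a * nB⁻¹) * (nB * b * nB⁻¹)) * nA⁻¹ by group,
        eB1, eB2, ← conj_mul, ← conj_inv, eA1, eA2, e, hiv h.ha, hiv h.hb]
  · refine (hnot j hj hj0.ne').2 ?_
    have := mul_mem (inv_mem (Subgroup.npow_mem_zpowers a i)) hm
    rwa [e, inv_mul_cancel_left] at this
  · refine (hnot i hi hi0.ne').1 ?_
    have := mul_mem hm (inv_mem (Subgroup.npow_mem_zpowers b j))
    rwa [e, mul_inv_cancel_right] at this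

/-- Three times the indicator of the sections of `a` and `a * b`. -/
noncomputable def fA (_h : Klein P a b) : G → ℂ := (3 : ℂ) • (secInd a + secInd (a * b))

theorem fA_one : h.fA 1 = 0 := by
  have e : pEl 3 (1 : G) = 1 := pEl_self ⟨0, by simp⟩
  have h1 : ∀ {x : G}, x ≠ 1 → ¬ IsConj x 1 := fun {x} hx hc => hx (isConj_one_right.1 hc.symm)
  unfold Klein.fA secInd
  simp [e, h.ne_one.1, h.ne_one.2.2]

theorem fA_gc : IsGeneralizedCharacter G h.fA := by
  set f : G → ℂ := fun z => if IsConj a z ∨ IsConj (a * b) z then 3 else 0 with hf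
  have hinv : FInv P f := fun g x _ _ => by
    simp only [f]
    refine if_congr ?_ rfl rfl
    have hc : IsConj x (g * x * g⁻¹) := isConj_iff.2 ⟨g, rfl⟩
    exact ⟨fun e => e.imp (fun e => e.trans hc.symm) (fun e => e.trans hc.symm),
      fun e => e.imp (fun e => e.trans hc) (fun e => e.trans hc)⟩
  have heq : h.fA = sFun P f := by
    funext g
    obtain ⟨u, hu⟩ := exists_conj_pEl P g
    have hc : IsConj (pEl 3 g) (u * pEl 3 g * u⁻¹) := isConj_iff.2 ⟨u, rfl⟩
    rw [sFun_eq hinv hu]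
    simp only [Klein.fA, secInd, f, Pi.smul_apply, Pi.add_apply, smul_eq_mul]
    by_cases e1 : IsConj a (pEl 3 g)
    · have e2 : ¬ IsConj (a * b) (pEl 3 g) := fun e2 => h.not_conj_ac (e1.trans e2.symm)
      rw [if_pos e1, if_neg e2, if_pos (Or.inl (e1.trans hc))]; ring
    · by_cases e2 : IsConj (a * b) (pEl 3 g)
      · rw [if_neg e1, if_pos e2, if_pos (Or.inr (e2.trans hc))]; ring
      · rw [if_neg e1, if_neg e2, if_neg fun e => e.elim (fun e => e1 (e.trans hc.symm)) (fun e => e2 (e.trans hc.symm))]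
        ring
  rw [heq]
  refine gc_sFun hinv ?_
  set B : Subgroup ↥(P : Subgroup G) := (Subgroup.zpowers b).subgroupOf (P : Subgroup G)
  have hBcard : Nat.card B = 3 := by
    rw [Nat.card_congr (Subgroup.subgroupOfEquivOfLe (Subgroup.zpowers_le.2 h.hb)).toEquiv,
      Nat.card_zpowers, h.ob]
  have hone : IsGeneralizedCharacter ↥B (fun _ => (1 : ℂ)) := gc_one
  have e : (fun x : ↥(P : Subgroup G) => f x) =
      3 • (fun _ : ↥(P : Subgroup G) => (1 : ℂ)) - Cfsg.indFun B fun _ => 1 := by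
    have hcard : (Fintype.card ↥(P : Subgroup G) : ℂ) = 9 := by
      rw [← Nat.card_eq_fintype_card, h.card_nine]; norm_num
    funext y
    have hind : Cfsg.indFun B (fun _ => (1 : ℂ)) y = if (y : G) ∈ Subgroup.zpowers b then 3 else 0 := by
      have ht : ∀ x : ↥(P : Subgroup G), Cfsg.extendByZero B (fun _ => (1 : ℂ)) (x⁻¹ * y * x) =
          if (y : G) ∈ Subgroup.zpowers b then 1 else 0 := fun x => by
        have hxy : x⁻¹ * y * x = y := Subtype.ext (by
          simp only [Subgroup.coe_mul, InvMemClass.coe_inv]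
          rw [mul_assoc, h.comm (y : G) y.2 x x.2, inv_mul_cancel_left])
        rw [hxy]
        by_cases hy : y ∈ B
        · rw [if_pos (Subgroup.mem_subgroupOf.1 hy)]
          exact CfsgLib.Char.extendByZero_coe B _ ⟨y, hy⟩
        · rw [if_neg fun e => hy (Subgroup.mem_subgroupOf.2 e)]
          exact CfsgLib.Char.extendByZero_apply_notMem B _ hy
      rw [CfsgLib.Char.indFun_def, Finset.sum_congr rfl fun x _ => ht x, Finset.sum_const, Finset.card_univ,
        nsmul_eq_mul, hBcard, hcard]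
      split_ifs <;> norm_num
    rw [Pi.sub_apply, Pi.smul_apply, hind]
    simp only [f, nsmul_eq_mul, mul_one, Nat.cast_ofNat]
    by_cases hy1 : (y : G) = 1
    · rw [hy1, if_pos (one_mem _), if_neg fun e => e.elim (fun e => h.ne_one.1 (isConj_one_right.1 e.symm))
        (fun e => h.ne_one.2.2 (isConj_one_right.1 e.symm))]
      norm_num
    rcases h.class_cases y.2 hy1 with ⟨e1, e2⟩ | ⟨e1, e2⟩ | ⟨e1, e2, e3⟩
    · rw [if_pos (Or.inl e1), if_neg fun e => hy1 (Subgroup.mem_bot.1 (h.zpowers_inf ▸ Subgroup.mem_inf.2 ⟨e2, e⟩)),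
        sub_zero]
    · rw [if_pos e2, if_neg fun e => e.elim (fun e => h.not_conj_ab (e.trans e1.symm))
        (fun e => h.not_conj_bc (e1.trans e.symm))]
      norm_num
    · rw [if_pos (Or.inr e1), if_neg e3, sub_zero]
  rw [e]
  exact gc_sub (gc_nsmul gc_one 3) (CfsgLib.Char.IsGeneralizedCharacter.indFun B hone)

theorem classInner_fA {Ψ : G → ℂ} (hΨ : IsClassFunction G Ψ) :
    classInner h.fA Ψ = 3 * ((Nat.card (Subgroup.centralizer ({a} : Set G)) : ℂ)⁻¹ *
        ∑ s : Subgroup.centralizer ({a} : Set G) with IsPRegular 3 s, conj (Ψ (a * (s : G))) +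
      (Nat.card (Subgroup.centralizer ({a * b} : Set G)) : ℂ)⁻¹ *
        ∑ s : Subgroup.centralizer ({a * b} : Set G) with IsPRegular 3 s, conj (Ψ (a * b * (s : G)))) := by
  rw [Klein.fA, CfsgLib.Char.classInner_smul_left, CfsgLib.Char.classInner_add_left,
    classInner_secInd (pow_three_order h.ha) hΨ, classInner_secInd (pow_three_order h.hc) hΨ]

theorem ratio_diag : (regCard 3 (a * b) : ℂ) / Nat.card (Subgroup.centralizer ({a * b} : Set G)) = 1 / 9 := by
  have h1 := SectionSums.regCard_mul P (x := a * b)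
    (fun y hy => Subgroup.mem_centralizer_singleton_iff.2 (h.comm y hy _ h.hc)) h.npc_diag
  have hP := h.card_nine
  rw [hP] at h1
  rw [div_eq_div_iff (Nat.cast_ne_zero.2 Nat.card_pos.ne') (by norm_num)]
  push_cast at h1
  linear_combination h1

end Klein

end CfsgLib.SmallGroups.NineTwoPrimes
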