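import Cfsg.Agent.Lib.SmallGroups.NineTwoPrimes.Fusion
import Cfsg.Agent.Lib.SmallGroups.ValueTools
import Cfsg.Agent.Lib.BrouePuig.Star

/-!
# Involutions and a character of degree nine vanishing off the 3-regular elements

An involution does not centralize a Sylow 3-subgroup of order nine, takes the value `±3` if it
centralizes an element of order three, and an element of order three it inverts is inverted by a
conjugate in the normalizer of the Sylow subgroup which is trivial modulo that element.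
-/

set_option autoImplicit false

namespace CfsgLib.SmallGroups.NineTwoPrimes

open Cfsg CfsgLib.Char CfsgLib.Blocks
open scoped Classical Pointwise

variable {G : Type*} [Group G] [Fintype G] [IsSimpleGroup G]

/-- A character of degree nine vanishing on the elements of order divisible by three. -/
structure NineChar (θ : IrrCharacter G) : Prop where
  ne : θ ≠ trivChar G
  deg : charDegree (θ : G → ℂ) = 9
  vanish : ∀ g : G, 3 ∣ orderOf g → (θ : G → ℂ) g = 0

variable {θ : IrrCharacter G}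

omit [IsSimpleGroup G] in
theorem three_dvd_mul {x s : G} (hc : Commute x s) (hs : (orderOf s).Coprime (orderOf x))
    (h3 : 3 ∣ orderOf x) : 3 ∣ orderOf (x * s) := by
  rw [hc.orderOf_mul_eq_mul_orderOf_of_coprime hs.symm]
  exact dvd_mul_of_dvd_left h3 _

theorem NineChar.exists_int (h : NineChar θ) {s : G} (hs : orderOf s = 2) :
    ∃ c : ℤ, (θ : G → ℂ) s = c := by
  obtain ⟨m, hm⟩ := ValueTools.exists_mult θ (Subgroup.zpowers s)
  rw [Nat.card_zpowers, hs] at hm
  let f : Fin 2 → ↥(Subgroup.zpowers s) := fun i => ⟨s ^ (i : ℕ), Subgroup.npow_mem_zpowers _ _⟩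
  have hf : Function.Bijective f := by
    refine (Fintype.bijective_iff_injective_and_card f).mpr ⟨fun i j e => ?_, ?_⟩
    · exact Fin.ext (pow_injOn_Iio_orderOf (by rw [hs]; exact i.2) (by rw [hs]; exact j.2) (congrArg Subtype.val e))
    · rw [Fintype.card_fin, ← Nat.card_eq_fintype_card, Nat.card_zpowers, hs]
  rw [← (Equiv.ofBijective f hf).sum_comp, Fin.sum_univ_two] at hm
  simp only [Equiv.ofBijective_apply, f, Fin.val_zero, Fin.val_one, pow_zero, pow_one, irr_one_eq, h.deg] at hm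
  exact ⟨2 * m - 9, by push_cast at hm ⊢; linear_combination hm⟩

/-- An involution centralizing an element of order three. -/
theorem NineChar.val_three (hG : ¬ IsMulCommutative G) (h : NineChar θ) {s x : G} (hs : orderOf s = 2)
    (hx : orderOf x = 3) (hc : Commute x s) : ∃ c : ℤ, (θ : G → ℂ) s = c ∧ (c = 3 ∨ c = -3) := by
  obtain ⟨c, hcv⟩ := h.exists_int hs
  refine ⟨c, hcv, ?_⟩
  obtain ⟨m, hm⟩ := ValueTools.sum_product Nat.prime_three Nat.prime_two (by norm_num) θ hx hs hc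
    (c := c) (ε := 0) (fun j h0 h2 => by rw [show j = 1 by omega, pow_one, hcv]) fun i j h0 h3 _ => by
      rw [h.vanish _ (three_dvd_mul (hc.pow_pow i j) ?_ ?_), Int.cast_zero]
      · refine Nat.Coprime.coprime_dvd_left (orderOf_pow_dvd j) (Nat.Coprime.coprime_dvd_right (orderOf_pow_dvd i) ?_)
        rw [hs, hx]; norm_num
      · have hcp : Nat.Coprime (orderOf x) i := by
          rw [hx, Nat.Prime.coprime_iff_not_dvd Nat.prime_three]
          exact Nat.not_dvd_of_pos_of_lt h0 h3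
        rw [hcp.orderOf_pow, hx]
  have hs1 : s ≠ 1 := fun e => by rw [e, orderOf_one] at hs; omega
  have hlt := ValueTools.lt_degree hG h.ne hs1 hcv
  rw [h.deg] at hlt hm
  push_cast at hm
  omega

/-- No involution centralizes a Sylow 3-subgroup. -/
theorem NineChar.no_centralizer (hG : ¬ IsMulCommutative G) (h : NineChar θ) {P : Sylow 3 G}
    (h9 : Nat.card (P : Subgroup G) = 9) {s : G} (hs : orderOf s = 2)
    (hc : ∀ y ∈ (P : Subgroup G), Commute y s) : False := by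
  set A : Subgroup G := (P : Subgroup G) ⊔ Subgroup.zpowers s with hA
  have hcz : Subgroup.zpowers s ≤ Subgroup.centralizer ((P : Subgroup G) : Set G) :=
    Subgroup.zpowers_le.2 (Subgroup.mem_centralizer_iff.2 fun y hy => (hc y hy).eq)
  have hmemA : ∀ (y : (P : Subgroup G)) (i : Fin 2), (y : G) * s ^ (i : ℕ) ∈ A := fun y i =>
    mul_mem (Subgroup.mem_sup_left y.2) (Subgroup.mem_sup_right (Subgroup.npow_mem_zpowers s i))
  let f : ↥(P : Subgroup G) × Fin 2 → ↥A := fun yi => ⟨(yi.1 : G) * s ^ (yi.2 : ℕ), hmemA yi.1 yi.2⟩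
  have hsP : s ∉ (P : Subgroup G) := fun hm => by
    have := Subgroup.orderOf_dvd_natCard (P : Subgroup G) hm
    rw [hs, h9] at this
    omega
  have hf : Function.Bijective f := by
    refine ⟨?_, fun g => ?_⟩
    · rintro ⟨y, i⟩ ⟨y', i'⟩ e
      have e1 : (y : G) * s ^ (i : ℕ) = y' * s ^ (i' : ℕ) := congrArg Subtype.val e
      fin_cases i <;> fin_cases i' <;> simp at e1
      · exact Prod.ext e1 rfl
      · exfalso; refine hsP ?_
        have := mul_mem (inv_mem y'.2) y.2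
        rwa [e1, inv_mul_cancel_left] at this
      · exfalso; refine hsP ?_
        have := mul_mem (inv_mem y.2) y'.2
        rwa [← e1, inv_mul_cancel_left] at this
      · exact Prod.ext e1 rfl
    · obtain ⟨y, hy, z, hz, e⟩ := CfsgLib.BrouePuig.exists_eq_mul hcz g.2
      rw [mem_zpowers_iff_mem_range_orderOf, hs, Finset.mem_image] at hz
      obtain ⟨i, hi, rfl⟩ := hz
      exact ⟨(⟨y, hy⟩, ⟨i, Finset.mem_range.1 hi⟩), Subtype.ext e.symm⟩
  obtain ⟨c, hcv⟩ := h.exists_int hs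
  obtain ⟨m, hm⟩ := ValueTools.exists_mult θ A
  rw [← (Equiv.ofBijective f hf).sum_comp, ← Nat.card_congr (Equiv.ofBijective f hf), Nat.card_prod, h9,
    Nat.card_fin, Fintype.sum_prod_type,
    ← Finset.add_sum_erase _ _ (Finset.mem_univ (1 : (P : Subgroup G))),
    Finset.sum_eq_zero (s := Finset.univ.erase (1 : (P : Subgroup G))) fun y hy => ?_] at hm
  · simp only [Equiv.ofBijective_apply, f, Fin.sum_univ_two, Fin.val_zero, Fin.val_one, pow_zero, pow_one,
      OneMemClass.coe_one, one_mul, irr_one_eq, h.deg, hcv, add_zero] at hm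
    push_cast at hm
    have hm' : (9 : ℤ) + c = 18 * m := by exact_mod_cast (show ((9 + c : ℤ) : ℂ) = ((18 * m : ℤ) : ℂ) by push_cast; linear_combination hm)
    have hs1 : s ≠ 1 := fun e => by rw [e, orderOf_one] at hs; omega
    have hlt := ValueTools.lt_degree hG h.ne hs1 hcv
    rw [h.deg] at hlt
    omega
  · refine Finset.sum_eq_zero fun i _ => h.vanish _ ?_
    have h3 : 3 ∣ orderOf (y : G) := by
      obtain ⟨k, hk⟩ := IsPGroup.iff_orderOf.mp P.2 y
      rw [Subgroup.orderOf_coe, hk]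
      refine dvd_pow_self 3 fun h0 => (Finset.mem_erase.1 hy).1 (orderOf_eq_one_iff.1 ?_)
      rw [hk, h0, pow_zero]
    refine three_dvd_mul ((hc y y.2).pow_right i) ?_ h3
    refine Nat.Coprime.coprime_dvd_left (orderOf_pow_dvd _) ?_
    rw [hs]
    refine Nat.Coprime.coprime_dvd_right (Subgroup.orderOf_dvd_natCard _ y.2) ?_
    rw [h9]; norm_num

/-- An involution of value `±3` inverting an element `y` of order three of the Sylow subgroup has a
conjugate in the normalizer which inverts `y` and is trivial modulo `y`. -/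
theorem NineChar.lift_inverter (hG : ¬ IsMulCommutative G) (h : NineChar θ) {P : Sylow 3 G}
    (h9 : Nat.card (P : Subgroup G) = 9) {y : G} (hyP : y ∈ (P : Subgroup G)) (hy : orderOf y = 3)
    {s : G} (hs : orderOf s = 2) (hinv : s * y * s⁻¹ = y⁻¹)
    {c : ℤ} (hcv : (θ : G → ℂ) s = c) (hc : c = 3 ∨ c = -3) :
    ∃ n ∈ Subgroup.normalizer ((P : Subgroup G) : Set G), IsConj s n ∧ n * y * n⁻¹ = y⁻¹ ∧
      ∀ r ∈ (P : Subgroup G), n * r * n⁻¹ * r⁻¹ ∈ Subgroup.zpowers y := by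
  obtain ⟨k, ρ, -, hρ⟩ := θ.2
  have hcomm := comm_of_card_nine h9
  have htr : ∀ g : G, LinearMap.trace ℂ (Fin k → ℂ) (ρ g) = (θ : G → ℂ) g := fun g => by rw [← hρ]; rfl
  have hs2 : s * s = 1 := by rw [← sq, ← hs, pow_orderOf_eq_one]
  have hy3 : y * y * y = 1 := by rw [← pow_three', ← hy, pow_orderOf_eq_one]
  have hyi : y⁻¹ = y * y := (eq_inv_of_mul_eq_one_left hy3).symm
  -- the projection to the fixed space of `y`
  obtain ⟨E, hE⟩ : ∃ E : Module.End ℂ (Fin k → ℂ), E = (3 : ℂ)⁻¹ • (1 + ρ y + ρ (y * y)) := ⟨_, rfl⟩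
  have hEy : E * ρ y = E := by
    rw [hE, smul_mul_assoc, add_mul, add_mul, one_mul, ← map_mul, ← map_mul, hy3, map_one]
    congr 1
    abel
  have hEE : E * E = E := by
    nth_rewrite 2 [hE]
    rw [mul_smul_comm, mul_add, mul_add, mul_one, hEy, map_mul, ← mul_assoc, hEy, hEy,
      show E + E + E = (3 : ℂ) • E by module, smul_smul, inv_mul_cancel₀ (by norm_num : (3 : ℂ) ≠ 0), one_smul]
  have htrE : ∀ g : G, LinearMap.trace ℂ (Fin k → ℂ) (ρ g * E) =
      (3 : ℂ)⁻¹ * ((θ : G → ℂ) g + (θ : G → ℂ) (g * y) + (θ : G → ℂ) (g * (y * y))) := fun g => by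
    rw [hE, mul_smul_comm, map_smul, smul_eq_mul, mul_add, mul_add, mul_one, ← map_mul, ← map_mul, map_add,
      map_add, htr, htr, htr]
  have hvy : (θ : G → ℂ) y = 0 ∧ (θ : G → ℂ) (y * y) = 0 := by
    refine ⟨h.vanish y (by rw [hy]), h.vanish _ ?_⟩
    rw [← hyi, orderOf_inv, hy]
  have hcomE : ∀ g : G, g * y * g⁻¹ = y ∨ g * y * g⁻¹ = y⁻¹ → ρ g * E = E * ρ g := by
    intro g hg
    rw [hE, mul_smul_comm, smul_mul_assoc, mul_add, mul_add, add_mul, add_mul, mul_one, one_mul]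
    congr 1
    rcases hg with e | e
    · have e1 : g * y = y * g := mul_inv_eq_iff_eq_mul.1 e
      rw [← map_mul, ← map_mul, ← map_mul, ← map_mul, e1, ← mul_assoc g y y, e1, mul_assoc y g y, e1, ← mul_assoc]
    · have e1 : g * y = y * y * g := by rw [← hyi]; exact mul_inv_eq_iff_eq_mul.1 e
      have e2 : g * (y * y) = y * g := by
        rw [← mul_assoc, e1, mul_assoc, e1, ← mul_assoc]
        congr 1
        rw [show y * y * (y * y) = y * y * y * y by simp [mul_assoc], hy3, one_mul]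
      rw [← map_mul, ← map_mul, ← map_mul, ← map_mul, e1, e2]
      abel
  -- the involution is a scalar on the fixed space
  have hsE := hcomE s (Or.inr hinv)
  have htrs : LinearMap.trace ℂ (Fin k → ℂ) (ρ s * E) = c := by
    have hsy : s * y = y⁻¹ * s := mul_inv_eq_iff_eq_mul.1 hinv
    have hsyi : s * y⁻¹ = y * s := by
      rw [mul_inv_eq_iff_eq_mul, mul_assoc, hsy, mul_inv_cancel_left]
    have e1 : s * y = y * s * y⁻¹ := by
      rw [mul_assoc, hsyi, hsy, hyi, mul_assoc]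
    have e2 : s * (y * y) = (y * y) * s * (y * y)⁻¹ := by
      have e3 : y * y * s * (y * y)⁻¹ = y * (y * s * y⁻¹) * y⁻¹ := by group
      rw [e3, ← e1, mul_assoc y, mul_inv_cancel_right, ← hsyi, hyi]
    rw [htrE, e1, irr_conj_apply, e2, irr_conj_apply, hcv]
    ring
  have hEtr : LinearMap.trace ℂ (Fin k → ℂ) E = 3 := by
    have := htrE 1
    rw [map_one, one_mul, one_mul, one_mul, irr_one_eq, h.deg, hvy.1, hvy.2] at this
    rw [this]; norm_num
  have hscal : ∃ δ : ℂ, δ * δ = 1 ∧ ρ s * E = δ • E := by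
    set S := ρ s * E with hS
    have hSS : S * S = E := by
      rw [hS, mul_assoc, ← mul_assoc E, ← hsE, mul_assoc (ρ s) E E, hEE, ← mul_assoc, ← map_mul, hs2, map_one, one_mul]
    have hSE : S * E = S := by rw [hS, mul_assoc, hEE]
    have hES : E * S = S := by rw [hS, ← mul_assoc, ← hsE, mul_assoc, hEE]
    obtain ⟨δ, hδ, hδt⟩ : ∃ δ : ℂ, δ * δ = 1 ∧ LinearMap.trace ℂ (Fin k → ℂ) S = δ * 3 := by
      rcases hc with e | e <;> rw [e] at htrs
      · exact ⟨1, by norm_num, by rw [htrs]; norm_num⟩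
      · exact ⟨-1, by norm_num, by rw [htrs]; norm_num⟩
    refine ⟨δ, hδ, ?_⟩
    obtain ⟨T, hT⟩ : ∃ T : Module.End ℂ (Fin k → ℂ), T = (2 : ℂ)⁻¹ • (E - δ • S) := ⟨_, rfl⟩
    have hU : (E - δ • S) * (E - δ • S) = (2 : ℂ) • (E - δ • S) := by
      rcases mul_self_eq_one_iff.1 hδ with rfl | rfl
      · simp only [one_smul, sub_mul, mul_sub, hEE, hES, hSE, hSS]
        module
      · simp only [sub_mul, mul_sub, smul_mul_assoc, mul_smul_comm, hEE, hES, hSE, hSS]
        module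
    have hTT : IsIdempotentElem T := by
      show T * T = T
      rw [hT, smul_mul_assoc, mul_smul_comm, hU, smul_smul, smul_smul]
      norm_num
    have hT0 : LinearMap.trace ℂ (Fin k → ℂ) T = 0 := by
      rw [hT, map_smul, map_sub, map_smul, hEtr, hδt, smul_eq_mul, smul_eq_mul, ← mul_assoc δ, hδ]
      norm_num
    have hz := LinearMap.IsIdempotentElem.eq_zero_of_trace_eq_zero hTT hT0
    rw [hT, smul_eq_zero_iff_right (by norm_num : (2 : ℂ)⁻¹ ≠ 0), sub_eq_zero] at hz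
    rw [hz, smul_smul, hδ, one_smul]
  obtain ⟨δ, hδ, hsδ⟩ := hscal
  -- the elements centralizing `y` and trivial on the fixed space
  let L : Subgroup G :=
    { carrier := {g | g * y * g⁻¹ = y ∧ ρ g * E = E}
      one_mem' := ⟨by simp, by rw [map_one, one_mul]⟩
      mul_mem' := by
        rintro g g' ⟨e1, e2⟩ ⟨e1', e2'⟩
        refine ⟨?_, by rw [map_mul, mul_assoc, e2', e2]⟩
        rw [show g * g' * y * (g * g')⁻¹ = g * (g' * y * g'⁻¹) * g⁻¹ by group, e1', e1]
      inv_mem' := by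
        rintro g ⟨e1, e2⟩
        refine ⟨?_, ?_⟩
        · conv_lhs => rw [← e1]
          group
        · conv_lhs => rw [← e2]
          rw [← mul_assoc, ← map_mul, inv_mul_cancel, map_one, one_mul] }
  have hLmem : ∀ g, g ∈ L ↔ g * y * g⁻¹ = y ∧ ρ g * E = E := fun g => Iff.rfl
  have hLnorm : ∀ w : G, (w * y * w⁻¹ = y ∨ w * y * w⁻¹ = y⁻¹) → ∀ g ∈ L, w * g * w⁻¹ ∈ L := by
    intro w hw g hg
    obtain ⟨e1, e2⟩ := hg
    have hwi : w⁻¹ * y * w = y ∨ w⁻¹ * y * w = y⁻¹ := by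
      rcases hw with e | e
      · left; conv_lhs => rw [← e]
        group
      · right
        have := congrArg (·⁻¹) e
        rw [conj_inv, inv_inv] at this
        conv_lhs => rw [← this]
        group
    refine ⟨?_, ?_⟩
    · rw [show w * g * w⁻¹ * y * (w * g * w⁻¹)⁻¹ = w * (g * (w⁻¹ * y * w) * g⁻¹) * w⁻¹ by group]
      have : g * (w⁻¹ * y * w) * g⁻¹ = w⁻¹ * y * w := by
        rcases hwi with e | e <;> rw [e]
        · exact e1
        · rw [← conj_inv, e1]
      rw [this]; group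
    · have hwE : ρ w⁻¹ * E = E * ρ w⁻¹ := hcomE w⁻¹ (by rwa [inv_inv])
      rw [map_mul, map_mul, mul_assoc, hwE, mul_assoc (ρ w), ← mul_assoc (ρ g), e2, ← hwE, ← mul_assoc,
        ← map_mul, mul_inv_cancel, map_one, one_mul]
  have hLodd : ¬ 2 ∣ Nat.card L := by
    intro h2
    haveI : Fact (Nat.Prime 2) := ⟨Nat.prime_two⟩
    obtain ⟨⟨g, hgL⟩, hg⟩ := exists_prime_orderOf_dvd_card' 2 h2
    rw [Subgroup.orderOf_mk] at hg
    obtain ⟨e1, e2⟩ := hgL
    have hgy : Commute y g := (mul_inv_eq_iff_eq_mul.1 e1).symm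
    obtain ⟨cg, hcg, hcg3⟩ := h.val_three hG hg hy hgy
    have := htrE g
    have hv : ∀ z, z = y ∨ z = y * y → (θ : G → ℂ) (g * z) = 0 := by
      intro z hz
      have hz3 : orderOf z = 3 := by
        rcases hz with rfl | rfl
        · exact hy
        · rw [← hyi, orderOf_inv, hy]
      have hcz : Commute z g := by
        rcases hz with rfl | rfl
        · exact hgy
        · exact hgy.mul_left hgy
      rw [← hcz.eq]
      exact h.vanish _ (three_dvd_mul hcz (by rw [hg, hz3]; norm_num) (by rw [hz3]))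
    rw [e2, hEtr, hv y (Or.inl rfl), hv _ (Or.inr rfl), hcg] at this
    have h9c : ((9 : ℤ) : ℂ) = (cg : ℂ) := by push_cast; linear_combination 3 * this
    have : (9 : ℤ) = cg := by exact_mod_cast h9c
    omega
  have hPy : ∀ r ∈ (P : Subgroup G), r * y * r⁻¹ = y := fun r hr => by
    rw [hcomm r hr y hyP, mul_inv_cancel_right]
  have hPnorm : ∀ r ∈ (P : Subgroup G), ∀ g ∈ L, r * g * r⁻¹ ∈ L := fun r hr g hg =>
    hLnorm r (Or.inl (hPy r hr)) g hg
  have hsL : ∀ g ∈ L, s * g * s⁻¹ ∈ L := hLnorm s (Or.inr hinv)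
  have hsr : ∀ r ∈ (P : Subgroup G), s * r * s⁻¹ * r⁻¹ ∈ L := by
    intro r hr
    have hr1 : s * r * s⁻¹ * y * (s * r * s⁻¹)⁻¹ = y := by
      have e1 : s⁻¹ * y * s = y⁻¹ := by
        rw [inv_eq_of_mul_eq_one_right hs2] at hinv ⊢
        exact hinv
      rw [show s * r * s⁻¹ * y * (s * r * s⁻¹)⁻¹ = s * (r * (s⁻¹ * y * s) * r⁻¹) * s⁻¹ by group, e1,
        ← conj_inv, hPy r hr, ← conj_inv, hinv, inv_inv]
    refine ⟨?_, ?_⟩
    · rw [show s * r * s⁻¹ * r⁻¹ * y * (s * r * s⁻¹ * r⁻¹)⁻¹ = s * r * s⁻¹ * (r⁻¹ * y * r) * (s * r * s⁻¹)⁻¹ by group]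
      have : r⁻¹ * y * r = y := by have := hPy r⁻¹ (inv_mem hr); rwa [inv_inv] at this
      rw [this, hr1]
    · have hrE : ∀ r ∈ (P : Subgroup G), ρ r * E = E * ρ r := fun r hr => hcomE r (Or.inl (hPy r hr))
      have hsi : ρ s⁻¹ * E = δ • E := by rw [inv_eq_of_mul_eq_one_right hs2, hsδ]
      rw [map_mul, map_mul, map_mul, mul_assoc, hrE _ (inv_mem hr), ← mul_assoc, mul_assoc (ρ s * ρ r) (ρ s⁻¹) E,
        hsi, mul_smul_comm, mul_assoc (ρ s) (ρ r) E, hrE r hr, ← mul_assoc (ρ s), hsδ]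
      simp only [smul_mul_assoc, smul_smul, hδ, one_smul]
      rw [ mul_assoc, ← map_mul, mul_inv_cancel, map_one, mul_one]
  -- the group generated by `L` and `P`
  let H : Subgroup G :=
    { carrier := {g | ∃ l ∈ L, ∃ r ∈ (P : Subgroup G), g = l * r}
      one_mem' := ⟨1, L.one_mem, 1, one_mem _, (one_mul 1).symm⟩
      mul_mem' := by
        rintro _ _ ⟨l, hl, r, hr, rfl⟩ ⟨l', hl', r', hr', rfl⟩
        exact ⟨l * (r * l' * r⁻¹), L.mul_mem hl (hPnorm r hr l' hl'), r * r', mul_mem hr hr', by group⟩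
      inv_mem' := by
        rintro _ ⟨l, hl, r, hr, rfl⟩
        refine ⟨r⁻¹ * l⁻¹ * r⁻¹⁻¹, hPnorm r⁻¹ (inv_mem hr) _ (L.inv_mem hl), r⁻¹, inv_mem hr, by group⟩ }
  have hHmem : ∀ g, g ∈ H ↔ ∃ l ∈ L, ∃ r ∈ (P : Subgroup G), g = l * r := fun g => Iff.rfl
  have hPH : (P : Subgroup G) ≤ H := fun r hr => ⟨1, L.one_mem, r, hr, (one_mul r).symm⟩
  have hHy : ∀ g ∈ H, g * y * g⁻¹ = y := by
    rintro _ ⟨l, hl, r, hr, rfl⟩
    rw [show l * r * y * (l * r)⁻¹ = l * (r * y * r⁻¹) * l⁻¹ by group, hPy r hr, hl.1]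
  have hHodd : ¬ 2 ∣ Nat.card H := by
    intro h2
    haveI : Fact (Nat.Prime 2) := ⟨Nat.prime_two⟩
    obtain ⟨⟨g, hgH⟩, hg⟩ := exists_prime_orderOf_dvd_card' 2 h2
    rw [Subgroup.orderOf_mk] at hg
    obtain ⟨l, hl, r, hr, rfl⟩ := hgH
    have hr2 : r * r ∈ L := by
      have e : l * r * (l * r) = 1 := by rw [← sq, ← hg, pow_orderOf_eq_one]
      have e1 : l * (r * l * r⁻¹) * (r * r) = 1 := by rw [← e]; group
      rw [eq_inv_of_mul_eq_one_right e1]
      exact L.inv_mem (L.mul_mem hl (hPnorm r hr l hl))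
    have hr9 : r ^ 9 = 1 := orderOf_dvd_iff_pow_eq_one.1 (h9 ▸ Subgroup.orderOf_dvd_natCard _ hr)
    have hrL : r ∈ L := by
      have := L.pow_mem hr2 5
      rwa [← pow_two, ← pow_mul, show 2 * 5 = 9 + 1 from rfl, pow_succ, hr9, one_mul] at this
    exact hLodd (hg ▸ Subgroup.orderOf_dvd_natCard L (L.mul_mem hl hrL))
  have hsH : ∀ g ∈ H, s * g * s⁻¹ ∈ H := by
    rintro _ ⟨l, hl, r, hr, rfl⟩
    exact ⟨(s * l * s⁻¹) * (s * r * s⁻¹ * r⁻¹), L.mul_mem (hsL l hl) (hsr r hr), r, hr, by group⟩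
  -- a Sylow subgroup of `H` fixed by `s`
  set O : Set (Sylow 3 G) := MulAction.orbit ↥H P with hO
  have hOsub : ∀ Q ∈ O, (Q : Subgroup G) ≤ H := by
    rintro _ ⟨w, rfl⟩ g hg
    change g ∈ (((w : G) • P : Sylow 3 G) : Subgroup G) at hg
    rw [Sylow.coe_subgroup_smul] at hg
    obtain ⟨r, hr, rfl⟩ := Subgroup.mem_map.1 hg
    exact H.mul_mem (H.mul_mem w.2 (hPH hr)) (H.inv_mem w.2)
  have hOmap : ∀ Q ∈ O, s • Q ∈ O := by
    intro Q hQ
    have hle : ((s • Q : Sylow 3 G) : Subgroup G) ≤ H := by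
      rintro g hg
      rw [Sylow.coe_subgroup_smul] at hg
      obtain ⟨r, hr, rfl⟩ := Subgroup.mem_map.1 hg
      exact hsH r (hOsub Q hQ hr)
    obtain ⟨w, hw⟩ := MulAction.exists_smul_eq ↥H (P.subtype hPH) ((s • Q).subtype hle)
    refine ⟨w, ?_⟩
    simp_rw [Sylow.smul_subtype] at hw
    exact Sylow.subtype_injective hw
  let σ : Equiv.Perm O :=
    { toFun := fun Q => ⟨s • (Q : Sylow 3 G), hOmap Q Q.2⟩
      invFun := fun Q => ⟨s • (Q : Sylow 3 G), hOmap Q Q.2⟩
      left_inv := fun Q => Subtype.ext (by simp only [smul_smul, hs2, one_smul])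
      right_inv := fun Q => Subtype.ext (by simp only [smul_smul, hs2, one_smul]) }
  haveI : Fact (Nat.Prime 2) := ⟨Nat.prime_two⟩
  obtain ⟨⟨Q, w, hwQ⟩, hfix⟩ := Equiv.Perm.exists_fixed_point_of_prime (p := 2) (n := 1) (α := O)
    (by
      intro h2
      refine hHodd (h2.trans ?_)
      rw [← Nat.card_eq_fintype_card]
      exact Dvd.intro _ ((Nat.card_prod _ _).symm.trans
        (Nat.card_congr (MulAction.orbitProdStabilizerEquivGroup ↥H P))))
    (σ := σ) (by
      refine Equiv.ext fun Q => Subtype.ext ?_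
      show s • s • (Q : Sylow 3 G) = Q
      rw [smul_smul, hs2, one_smul])
  change (w : G) • P = Q at hwQ
  have hfix' : s • Q = Q := congrArg Subtype.val hfix
  refine ⟨(w : G)⁻¹ * s * (w : G), ?_, isConj_iff.2 ⟨(w : G)⁻¹, by rw [inv_inv]⟩, ?_, fun r hr => ?_⟩
  · refine Sylow.smul_eq_iff_mem_normalizer.mp ?_
    rw [mul_smul, mul_smul, hwQ, hfix', ← hwQ, inv_smul_smul]
  · have e1 := hHy (w : G) w.2
    have e2 := hHy (w : G)⁻¹ (inv_mem w.2)
    rw [show (w : G)⁻¹ * s * w * y * ((w : G)⁻¹ * s * w)⁻¹ = (w : G)⁻¹ * (s * ((w : G) * y * (w : G)⁻¹) * s⁻¹) * (w : G)⁻¹⁻¹ by group,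
      e1, hinv, ← conj_inv, e2]
  · -- trivial modulo `L`
    have hwH := (hHmem _).1 w.2
    obtain ⟨l, hl, r₀, hr₀, hw0⟩ := hwH
    set n := (w : G)⁻¹ * s * (w : G) with hn
    have hnN : n ∈ Subgroup.normalizer ((P : Subgroup G) : Set G) := by
      refine Sylow.smul_eq_iff_mem_normalizer.mp ?_
      rw [hn, mul_smul, mul_smul, hwQ, hfix', ← hwQ, inv_smul_smul]
    have hnr : n * r * n⁻¹ * r⁻¹ ∈ (P : Subgroup G) :=
      mul_mem ((Subgroup.mem_normalizer_iff.1 hnN r).1 hr) (inv_mem hr)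
    -- conjugation by an element of `H` is trivial on `H` modulo `L`
    have hmod : ∀ g ∈ H, ∀ r ∈ (P : Subgroup G), g * r * g⁻¹ * r⁻¹ ∈ L := by
      rintro _ ⟨l', hl', r', hr', rfl⟩ r hr
      rw [show l' * r' * r * (l' * r')⁻¹ * r⁻¹ = l' * ((r' * r * r'⁻¹) * l'⁻¹ * r⁻¹) by group,
        hcomm r' hr' r hr, mul_inv_cancel_right]
      exact L.mul_mem hl' (hPnorm r hr _ (L.inv_mem hl'))
    have hH2 : ∀ g ∈ H, ∀ g' ∈ L, g * g' * g⁻¹ ∈ L := by
      rintro _ ⟨l', hl', r', hr', rfl⟩ g' hg'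
      rw [show l' * r' * g' * (l' * r')⁻¹ = l' * (r' * g' * r'⁻¹) * l'⁻¹ by group]
      exact L.mul_mem (L.mul_mem hl' (hPnorm r' hr' g' hg')) (L.inv_mem hl')
    have hnrL : n * r * n⁻¹ * r⁻¹ ∈ L := by
      set wi := (w : G)⁻¹ with hwi
      have e1 := hmod (w : G) w.2 r hr
      have e2 := hsr r hr
      have e3 := hmod wi (inv_mem w.2) r hr
      rw [show n * r * n⁻¹ * r⁻¹ =
          (wi * ((s * ((w : G) * r * (w : G)⁻¹ * r⁻¹) * s⁻¹) * (s * r * s⁻¹ * r⁻¹)) * wi⁻¹) *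
            (wi * r * wi⁻¹ * r⁻¹) by rw [hn]; group]
      exact L.mul_mem (hH2 wi (inv_mem w.2) _ (L.mul_mem (hsL _ e1) e2)) e3
    -- `L` meets `P` in `⟨y⟩`
    by_contra hnot
    set z := n * r * n⁻¹ * r⁻¹ with hz
    have hzv : ∀ i : ℕ, i < 3 → (θ : G → ℂ) (z * y ^ i) = 0 := by
      intro i hi
      refine h.vanish _ ?_
      obtain ⟨j, hj⟩ := IsPGroup.iff_orderOf.mp P.2 ⟨z * y ^ i, mul_mem hnr (pow_mem hyP i)⟩
      rw [Subgroup.orderOf_mk] at hj
      rw [hj]
      refine dvd_pow_self 3 fun h0 => hnot ?_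
      rw [h0, pow_zero, orderOf_eq_one_iff] at hj
      rw [eq_inv_of_mul_eq_one_left hj]
      exact inv_mem (Subgroup.npow_mem_zpowers y i)
    have hzt := htrE z
    have e0 := hzv 0 (by norm_num)
    have e1 := hzv 1 (by norm_num)
    have e2 := hzv 2 (by norm_num)
    rw [pow_zero, mul_one] at e0
    rw [pow_one] at e1
    rw [pow_two] at e2
    rw [hnrL.2, hEtr, e0, e1, e2] at hzt
    norm_num at hzt

end CfsgLib.SmallGroups.NineTwoPrimes
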