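import Cfsg.Agent.Lib.SmallGroups.NineTwoPrimes.PlainFacts
import Cfsg.Agent.Lib.SmallGroups.NineTwoPrimes.Nine
import Cfsg.Agent.Lib.SmallGroups.LocalTools

/-!
# An inverted Sylow 3-subgroup of order nine is self-centralizing
-/

set_option autoImplicit false

namespace CfsgLib.SmallGroups.NineTwoPrimes

open Cfsg CfsgLib.Char CfsgLib.Blocks
open scoped Classical

variable {G : Type*} [Group G] [Fintype G] [IsSimpleGroup G]

/-- An elementary Sylow subgroup of order nine allows no faithful character of degree three. -/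
theorem degree_ne_three (hG : ¬ IsMulCommutative G) {P : Subgroup G} (h9 : Nat.card P = 9)
    (hexp : ∀ y ∈ P, y ^ 3 = 1) {θ : IrrCharacter G} (hne : θ ≠ trivChar G) :
    charDegree (θ : G → ℂ) ≠ 3 := by
  intro hdeg
  have hperf : commutator G = ⊤ := by
    rcases (inferInstance : (commutator G).Normal).eq_bot_or_eq_top with hb | hb
    · exact absurd ⟨⟨fun a b => commutatorElement_eq_one_iff_mul_comm.mp (Subgroup.mem_bot.mp
        (hb ▸ Subgroup.commutator_mem_commutator (Subgroup.mem_top a) (Subgroup.mem_top b)))⟩⟩ hG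
    · exact hb
  have hzero : ∀ r ∈ P, r ≠ 1 → (θ : G → ℂ) r = 0 := by
    intro r hr hr1
    obtain ⟨n, ρ, -, hρ⟩ := θ.2
    have hfin : Module.finrank ℂ (Fin n → ℂ) = 3 := hdeg ▸
      Nat.cast_injective (R := ℂ) (by rw [← Representation.char_one ρ, hρ, irr_one_eq])
    obtain ⟨b, μ, hμ, hb⟩ := exists_eigenbasis ρ r
    have hb1 : ∀ i, ρ r (b i) = μ i • b i := fun i => by simpa using hb 1 i
    have hor : orderOf r = 3 := orderOf_eq_prime (hexp r hr) hr1
    rw [hor] at hμ
    have hdet : CfsgLib.CharDeep.DetExt.detHom ρ r = 1 :=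
      MonoidHom.mem_ker.mp (Abelianization.commutator_subset_ker (CfsgLib.CharDeep.DetExt.detHom ρ)
        (hperf ▸ Subgroup.mem_top r))
    have hprod : ∏ i, μ i = 1 := by
      have h1 : LinearMap.det (ρ r) = 1 := by
        have := congrArg Units.val hdet
        rwa [CfsgLib.CharDeep.DetExt.coe_detHom] at this
      rw [← h1, ← LinearMap.det_toMatrix b, show LinearMap.toMatrix b b (ρ r) = Matrix.diagonal μ by
        ext i j
        by_cases hij : i = j
        · subst hij
          simp [LinearMap.toMatrix_apply, hb1]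
        · simp [LinearMap.toMatrix_apply, hb1, Finsupp.single_eq_of_ne, hij],
        Matrix.det_diagonal]
    have htr : (θ : G → ℂ) r = ∑ i, μ i := by
      rw [← hρ]; exact trace_eq_sum_of_eigen (ρ r) b μ hb1
    revert μ b
    rw [hfin]
    intro b μ hμ _ _ hprod htr
    rw [Fin.prod_univ_three] at hprod
    rw [Fin.sum_univ_three] at htr
    by_cases h01 : μ 0 = μ 1
    · exfalso
      have h2 : μ 2 = μ 0 := by
        linear_combination -(μ 2) * hμ 0 + μ 0 * hprod + μ 0 * μ 0 * μ 2 * h01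
      have hn1 : ‖μ 0‖ = 1 := norm_eq_one_of_pow_orderOf (g := r) (by rw [hor]; exact hμ 0)
      refine value_lt hG hne hr1 ?_
      rw [htr, h2, ← h01, show μ 0 + μ 0 + μ 0 = 3 * μ 0 by ring, norm_mul, hn1, hdeg]
      norm_num
    · have h3 : μ 0 ^ 2 + μ 0 * μ 1 + μ 1 ^ 2 = 0 := by
        have : (μ 0 - μ 1) * (μ 0 ^ 2 + μ 0 * μ 1 + μ 1 ^ 2) = 0 := by linear_combination hμ 0 - hμ 1
        exact (mul_eq_zero.1 this).resolve_left (sub_ne_zero.2 h01)
      have hne0 : μ 0 * μ 1 ≠ 0 := fun e => by rw [e, zero_mul] at hprod; exact zero_ne_one hprod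
      have h4 : μ 0 * μ 1 * (μ 0 + μ 1 + μ 2) = 0 := by
        linear_combination hprod - hμ 1 + μ 1 * h3
      rw [htr]
      exact (mul_eq_zero.1 h4).resolve_left hne0
  obtain ⟨m, hm⟩ := sum_rest P (χ := θ) (ε := 0) fun y hy hy1 => by rw [hzero y hy hy1, Int.cast_zero]
  rw [hdeg, h9] at hm
  omega

theorem three_two_pow_ne {i m q : ℕ} (hi : 2 ≤ i) (hq : q + 1 = 2 ^ i) : ¬ 3 * 2 ^ m ≡ 1 [MOD q] := by
  intro h
  have h1 : 2 ^ i ≡ 1 [MOD q] := by rw [← hq]; exact Nat.add_modEq_left
  have h2 : 2 ^ m ≡ 2 ^ (m % i) [MOD q] := by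
    have := ((h1.pow (m / i)).mul_right (2 ^ (m % i)))
    rwa [← pow_mul, ← pow_add, Nat.div_add_mod, one_pow, one_mul] at this
  set r := m % i with hr
  have hri : r < i := Nat.mod_lt _ (by omega)
  have h3 : 3 * 2 ^ r ≡ 1 [MOD q] := ((h2.mul_left 3).symm.trans h)
  have hd : q ∣ 3 * 2 ^ r - 1 := (Nat.modEq_iff_dvd' (by have := Nat.two_pow_pos r; omega)).1 h3.symm
  have hpow : 2 ^ i = 2 ^ r * 2 ^ (i - r) := by rw [← pow_add, Nat.add_sub_cancel' hri.le]
  have hH := Nat.two_pow_pos r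
  rcases Nat.lt_or_ge (i - r) 2 with hlt | hge
  · have : i - r = 1 := by omega
    rw [this, pow_one] at hpow
    have h2H : 2 ≤ 2 ^ r := by
      calc 2 = 2 ^ 1 := (pow_one 2).symm
        _ ≤ 2 ^ r := Nat.pow_le_pow_right (by norm_num) (by omega)
    obtain ⟨k, hk⟩ := hd
    rcases (show k = 0 ∨ k = 1 ∨ 2 ≤ k by omega) with rfl | rfl | hk2
    · omega
    · omega
    · have : q * 2 ≤ q * k := Nat.mul_le_mul_left q hk2
      omega
  · have h4 : 2 ^ r * 4 ≤ 2 ^ r * 2 ^ (i - r) :=
      Nat.mul_le_mul_left _ (by calc 4 = 2 ^ 2 := by norm_num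
                                      _ ≤ 2 ^ (i - r) := Nat.pow_le_pow_right (by norm_num) hge)
    have := Nat.le_of_dvd (by omega) hd
    omega

/-- An inverted Sylow 3-subgroup of order nine contains the centralizer of each of its nontrivial
elements. -/
theorem plain_cent (hG : ¬ IsMulCommutative G) {q a b : ℕ} (hq : q.Prime) (hq2 : q ≠ 2) (hq3 : q ≠ 3)
    (hcard : Nat.card G = 9 * 2 ^ a * q ^ b) {P : Sylow 3 G} (h9 : Nat.card (P : Subgroup G) = 9)
    (hP : Plain P) :
    7 ≤ q ∧ ∀ x ∈ (P : Subgroup G), x ≠ 1 → ∀ g, g * x = x * g → g ∈ (P : Subgroup G) := by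
  haveI : Fact q.Prime := ⟨hq⟩
  obtain ⟨⟨B, i, hB, hBdeg, hqi, hBsec⟩, hq7, hinvert⟩ := plain_block hG hq hq2 hq3 hcard h9 hP
  refine ⟨hq7, ?_⟩
  obtain rfl : b = 1 := exponent_one hG hq hq2 hq3 hcard hB hBdeg
  rw [pow_one] at hcard
  have hcomm := comm_of_card_nine h9
  have hodd : Odd (Nat.card (P : Subgroup G)) := by rw [h9]; decide
  have hnoq : ∀ x ∈ (P : Subgroup G), x ≠ 1 → ∀ y : G, orderOf y = q → ¬ Commute x y := by
    intro x hx hx1 y hy hxy
    refine no_commute hG hq hq2 hq3 hcard hB hBdeg hy hxy fun k _ => hBsec x hx hx1 _ (hxy.symm.pow_left k) ?_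
    intro h3
    have := h3.trans (hy ▸ orderOf_pow_dvd k)
    exact hq3 ((Nat.prime_dvd_prime_iff_eq Nat.prime_three hq).1 this).symm
  have htoP : ∀ z : G, orderOf z = 3 → ∃ c : G, c * z * c⁻¹ ∈ (P : Subgroup G) := by
    intro z hz
    obtain ⟨c, hc⟩ := TIAbelian.exists_conj_mem_sylow_p P (R := Subgroup.zpowers z)
      (IsPGroup.of_card (n := 1) (by rw [Nat.card_zpowers, hz, pow_one]))
    exact ⟨c, hc z (Subgroup.mem_zpowers z)⟩
  -- a character of degree nine
  obtain ⟨θ, hθ, hdeg⟩ := exists_small hG hq hq2 hq3 hcard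
  have hθ9 : charDegree (θ : G → ℂ) = 9 := by
    rcases hdeg with ⟨h3, hq5⟩ | h9'
    · exfalso
      obtain ⟨Q, hQ⟩ := hq5.resolve_left (by omega)
      have hQc : Nat.card (Q : Subgroup G) = q := by
        have := SimpleTools.card_sylow_subgroup (k := 1) (m := 9 * 2 ^ a) (by rw [hcard]; ring) (fun e => by
          rcases hq.dvd_mul.1 e with e | e
          · exact hq3 ((Nat.prime_dvd_prime_iff_eq hq Nat.prime_three).1 (hq.dvd_of_dvd_pow (m := 3) (n := 2) e))
          · exact hq2 ((Nat.prime_dvd_prime_iff_eq hq Nat.prime_two).1 (hq.dvd_of_dvd_pow e))) Q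
        rwa [pow_one] at this
      obtain ⟨e, k, he, hed, hN, hC⟩ := LocalTools.exists_e hG Q hQc
      have haut : TIAbelian.autCard Q = e := by
        rw [TIAbelian.autCard_eq, Subgroup.relIndex]
        have hle := Subgroup.centralizer_le_normalizer ((Q : Subgroup G) : Set G)
        have h := ((Subgroup.centralizer ((Q : Subgroup G) : Set G)).subgroupOf
          (Subgroup.normalizer ((Q : Subgroup G) : Set G))).index_mul_card
        rw [Nat.card_congr (Subgroup.subgroupOfEquivOfLe hle).toEquiv, hN, hC] at h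
        exact Nat.eq_of_mul_eq_mul_right (hC ▸ Nat.card_pos) h
      rw [haut] at hQ
      have hlt : e < q := by
        have := Nat.le_of_dvd (by omega) hed
        omega
      have he0 : 0 < e := Nat.pos_of_ne_zero fun h0 => by
        rw [h0, zero_mul] at hN
        exact Nat.card_pos.ne' hN
      have he3 : e = 3 := by
        rcases hQ with hQ | hQ <;> rw [Int.modEq_iff_dvd] at hQ
        · have := Int.eq_zero_of_dvd_of_natAbs_lt_natAbs hQ (by omega)
          omega
        · exfalso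
          have h1 : q ∣ e + 3 := by
            have := Int.dvd_neg.2 hQ
            rw [show -(-(e : ℤ) - 3) = (e : ℤ) + 3 by ring] at this
            exact_mod_cast this
          have h2 := Nat.le_of_dvd (by omega) h1
          have heq : e + 3 = q := by
            obtain ⟨c, hc⟩ := h1
            rcases (show c = 0 ∨ c = 1 ∨ 2 ≤ c by omega) with rfl | rfl | hc2
            · omega
            · omega
            · have : q * 2 ≤ q * c := Nat.mul_le_mul_left q hc2
              omega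
          obtain ⟨c, hc⟩ := hed
          rcases (show c = 0 ∨ c = 1 ∨ 2 ≤ c by omega) with rfl | rfl | hc2
          · omega
          · omega
          · have : e * 2 ≤ e * c := Nat.mul_le_mul_left e hc2
            omega
      subst he3
      have h3C : ¬ 3 ∣ Nat.card (Subgroup.centralizer ((Q : Subgroup G) : Set G)) := by
        intro hd
        obtain ⟨⟨z, hzC⟩, hz⟩ := exists_prime_orderOf_dvd_card' (hp := ⟨Nat.prime_three⟩) 3 hd
        rw [Subgroup.orderOf_mk] at hz
        obtain ⟨c, hc⟩ := htoP z hz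
        obtain ⟨⟨y, hyQ⟩, hy⟩ := exists_prime_orderOf_dvd_card' (G := (Q : Subgroup G)) q (dvd_of_eq hQc.symm)
        rw [Subgroup.orderOf_mk] at hy
        refine hnoq _ hc (fun e => ?_) (c * y * c⁻¹) (by rw [← MulAut.conj_apply, MulEquiv.orderOf_eq, hy]) ?_
        · rw [conj_eq_one_iff] at e
          rw [e, orderOf_one] at hz; omega
        · show c * z * c⁻¹ * (c * y * c⁻¹) = c * y * c⁻¹ * (c * z * c⁻¹)
          rw [show c * z * c⁻¹ * (c * y * c⁻¹) = c * (z * y) * c⁻¹ by group,
            ← Subgroup.mem_centralizer_iff.1 hzC y hyQ]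
          group
      have h3q : 3 ∣ q - 1 := hed
      have hq1 : q + 1 = 2 ^ i := by
        refine hqi.resolve_left fun e => ?_
        rw [e, Nat.add_sub_cancel] at h3q
        exact absurd (Nat.prime_three.dvd_of_dvd_pow h3q) (by norm_num)
      have hi2 : 2 ≤ i := by
        by_contra hi
        interval_cases i <;> omega
      have h1 := SimpleTools.card_normalizer_mul Q
      rw [hN] at h1
      have hCQ : Nat.card (Subgroup.centralizer ((Q : Subgroup G) : Set G)) = q * k := hC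
      rw [hCQ] at h3C
      have hk3 : ¬ 3 ∣ k := fun e => h3C (dvd_mul_of_dvd_right e q)
      rw [hcard] at h1
      have hn : Nat.card (Sylow q G) * k = 3 * 2 ^ a := by
        refine Nat.eq_of_mul_eq_mul_left (show 0 < 3 * q by omega) ?_
        linarith
      have hk2 : ∃ j, k = 2 ^ j := by
        obtain ⟨j, -, hj⟩ := (Nat.dvd_prime_pow Nat.prime_two).1
          (((Nat.Prime.coprime_iff_not_dvd Nat.prime_three).2 hk3).symm.dvd_of_dvd_mul_left
            (Dvd.intro_left _ hn : k ∣ 3 * 2 ^ a))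
        exact ⟨j, hj⟩
      obtain ⟨j, rfl⟩ := hk2
      have hja : j ≤ a := by
        have : 2 ^ j ∣ 3 * 2 ^ a := Dvd.intro_left _ hn
        exact (Nat.pow_dvd_pow_iff_le_right (by norm_num)).1
          (Nat.Coprime.dvd_of_dvd_mul_left ((show Nat.Coprime 2 3 by norm_num).pow_left j) this)
      have hn' : Nat.card (Sylow q G) = 3 * 2 ^ (a - j) := by
        refine Nat.eq_of_mul_eq_mul_right (Nat.two_pow_pos j) ?_
        rw [hn, mul_assoc, ← pow_add, Nat.sub_add_cancel hja]
      exact three_two_pow_ne hi2 hq1 (hn' ▸ card_sylow_modEq_one q G)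
    · exact h9'
  have hΓ : NineChar θ := ⟨hθ, hθ9, fun g hg => nine_vanish hq hq3 hcard hθ9 hg⟩
  have hnoinv : ∀ x ∈ (P : Subgroup G), orderOf x = 3 → ∀ s : G, orderOf s = 2 → ¬ Commute x s := by
    intro x hx hox s hs hxs
    obtain ⟨c, hcv, hc⟩ := hΓ.val_three hG hs hox hxs
    obtain ⟨y, hy, hy1, t, hst, ht⟩ := hinvert s hs
    obtain ⟨y₀, hy₀, hy₀o, hy₀i⟩ : ∃ y₀ ∈ (P : Subgroup G), orderOf y₀ = 3 ∧ t * y₀ * t⁻¹ = y₀⁻¹ := by
      by_cases h3 : y ^ 3 = 1
      · exact ⟨y, hy, orderOf_eq_prime h3 hy1, ht⟩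
      · refine ⟨y ^ 3, pow_mem hy 3, orderOf_eq_prime ?_ h3, by rw [← conj_pow, ht, inv_pow]⟩
        rw [← pow_mul]
        exact orderOf_dvd_iff_pow_eq_one.1 ((Subgroup.orderOf_dvd_natCard _ hy).trans (by rw [h9]))
    have hto : orderOf t = 2 := by
      obtain ⟨g, rfl⟩ := isConj_iff.1 hst
      rw [← MulAut.conj_apply, MulEquiv.orderOf_eq, hs]
    have htv : (θ : G → ℂ) t = (c : ℂ) := by
      obtain ⟨g, rfl⟩ := isConj_iff.1 hst
      rw [irr_conj_apply, hcv]
    obtain ⟨n, hn, -, hny, hmod⟩ := hΓ.lift_inverter hG h9 hy₀ hy₀o hto hy₀i htv hc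
    have hinv : ∀ r ∈ (P : Subgroup G), n * r * n⁻¹ = r⁻¹ := by
      refine (hP.act n hn).resolve_left fun e => ?_
      have h1 := e y₀ hy₀
      rw [hny] at h1
      have := eq_one_of_eq_inv hodd hy₀ h1.symm
      rw [this, orderOf_one] at hy₀o
      omega
    have hle : (P : Subgroup G) ≤ Subgroup.zpowers y₀ := fun r hr => by
      have h1 := hmod r hr
      rw [hinv r hr, ← mul_inv_rev, inv_mem_iff] at h1
      have h2 := Subgroup.pow_mem _ h1 5
      rwa [← pow_two, ← pow_mul, show 2 * 5 = 9 + 1 from rfl, pow_succ,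
        orderOf_dvd_iff_pow_eq_one.1 (h9 ▸ Subgroup.orderOf_dvd_natCard _ hr), one_mul] at h2
    have := Nat.le_of_dvd Nat.card_pos (Subgroup.card_dvd_of_le hle)
    rw [h9, Nat.card_zpowers, hy₀o] at this
    omega
  have h3case : ∀ x ∈ (P : Subgroup G), orderOf x = 3 → ∀ g, g * x = x * g → g ∈ (P : Subgroup G) := by
    intro x hx hox g hg
    set C := Subgroup.centralizer ({x} : Set G) with hC
    have hx1 : x ≠ 1 := fun e => by rw [e, orderOf_one] at hox; omega
    have hPC : (P : Subgroup G) ≤ C := fun y hy => Subgroup.mem_centralizer_singleton_iff.2 (hcomm y hy x hx)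
    have hno : ∀ r : ℕ, r.Prime → r = 2 ∨ r = q → ¬ r ∣ Nat.card C := by
      intro r hr hrr hd
      obtain ⟨⟨w, hwC⟩, hw⟩ := exists_prime_orderOf_dvd_card' (hp := ⟨hr⟩) r hd
      rw [Subgroup.orderOf_mk] at hw
      have hxw : Commute x w := (Subgroup.mem_centralizer_singleton_iff.1 hwC).symm
      rcases hrr with rfl | rfl
      · exact hnoinv x hx hox w hw hxw
      · exact hnoq x hx hx1 w hw hxw
    have h1 : Nat.card C ∣ 9 := by
      have h2 : Nat.card C ∣ 9 * 2 ^ a * q := hcard ▸ Subgroup.card_subgroup_dvd_card C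
      refine Nat.Coprime.dvd_of_dvd_mul_right ?_ (Nat.Coprime.dvd_of_dvd_mul_right ?_ h2)
      · exact (((Nat.Prime.coprime_iff_not_dvd Nat.prime_two).2 (hno 2 Nat.prime_two (Or.inl rfl))).symm).pow_right a
      · exact ((Nat.Prime.coprime_iff_not_dvd hq).2 (hno q hq (Or.inr rfl))).symm
    have h2 : (P : Subgroup G) = C :=
      Subgroup.eq_of_le_of_card_ge hPC (by rw [h9]; exact Nat.le_of_dvd (by norm_num) h1)
    rw [h2]
    exact Subgroup.mem_centralizer_singleton_iff.2 hg
  intro x hx hx1 g hg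
  by_cases h3 : x ^ 3 = 1
  · exact h3case x hx (orderOf_eq_prime h3 hx1) g hg
  · refine h3case (x ^ 3) (pow_mem hx 3) (orderOf_eq_prime ?_ h3) g ((Commute.pow_right hg 3).eq)
    rw [← pow_mul]
    exact orderOf_dvd_iff_pow_eq_one.1 ((Subgroup.orderOf_dvd_natCard _ hx).trans (by rw [h9]))

end CfsgLib.SmallGroups.NineTwoPrimes
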