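import Cfsg.Agent.Lib.SmallGroups.NineTwoPrimes.KleinDec
import Cfsg.Agent.Lib.SmallGroups.NineTwoPrimes.PlainMain
import Cfsg.Agent.Lib.Blocks.InvolutionColumns

/-!
# The diagonal Klein pattern does not occur

Every involution has a conjugate inverting `a` or `a * b`; with the character of degree nine this
makes an involution centralizing `a` centralize a conjugate of `b`, against Sylow's theorem in its
centralizer.
-/

set_option autoImplicit false

namespace CfsgLib.SmallGroups.NineTwoPrimes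

open Cfsg CfsgLib.Char CfsgLib.Blocks CfsgLib.Blocks.TIAbelian
open scoped Classical ComplexConjugate

variable {G : Type*} [Group G] [Fintype G] [IsSimpleGroup G] {P : Sylow 3 G} {a b : G}

omit [IsSimpleGroup G] in
theorem pEl_inv (g : G) : pEl 3 g⁻¹ = (pEl 3 g)⁻¹ := by
  obtain ⟨y, he, hc, ⟨k, hk⟩, hy⟩ := pEl_spec (p := 3) g
  conv_lhs => rw [← he, mul_inv_rev, ← hc.inv_inv.eq]
  exact pEl_mul hc.inv_inv (by rw [orderOf_inv]; exact hk) (by rw [orderOf_inv]; exact hy)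

theorem Klein.inverted (h : Klein P a b) {t : G} (ht : orderOf t = 2) :
    ∃ t' : G, IsConj t t' ∧ (t' * a * t'⁻¹ = a⁻¹ ∨ t' * (a * b) * t'⁻¹ = (a * b)⁻¹) := by
  by_contra hcon
  have ht2 : t * t = 1 := by rw [← sq, ← ht, pow_orderOf_eq_one]
  obtain ⟨u, v, d, hd⟩ := h.exists_dec
  have hzero : ∀ g : G, h.fA g ≠ 0 →
      ∑ χ : IrrCharacter G, (χ : G → ℂ) t ^ 2 * (χ : G → ℂ) g⁻¹ / (χ : G → ℂ) 1 = 0 := by
    intro g hg
    refine sum_sq_mul_div_eq_zero t g⁻¹ fun x hx hw => ?_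
    rw [inv_inv] at hw
    obtain ⟨c₁, hc₁⟩ := isConj_iff.1 hx
    obtain ⟨c₂, hc₂⟩ := isConj_iff.1 hw
    have hxx : x * x = 1 := by
      rw [← hc₁, show c₁ * t * c₁⁻¹ * (c₁ * t * c₁⁻¹) = c₁ * (t * t) * c₁⁻¹ by group, ht2, mul_one, mul_inv_cancel]
    have hww : x⁻¹ * g * (x⁻¹ * g) = 1 := by
      rw [← hc₂, show c₂ * t * c₂⁻¹ * (c₂ * t * c₂⁻¹) = c₂ * (t * t) * c₂⁻¹ by group, ht2, mul_one, mul_inv_cancel]
    have hinvg : x * g * x⁻¹ = g⁻¹ := by
      rw [inv_eq_of_mul_eq_one_right hxx] at hww ⊢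
      refine eq_inv_of_mul_eq_one_left ?_
      rw [show x * g * x * g = x * g * (x * g) by simp [mul_assoc]]
      exact hww
    have hp : x * pEl 3 g * x⁻¹ = (pEl 3 g)⁻¹ := by rw [← pEl_conj, hinvg, pEl_inv]
    have key : ∀ y : G, IsConj y (pEl 3 g) → ∃ t' : G, IsConj t t' ∧ t' * y * t'⁻¹ = y⁻¹ := by
      intro y hy
      obtain ⟨c, hc⟩ := isConj_iff.1 hy
      refine ⟨c⁻¹ * x * c, hx.trans (isConj_iff.2 ⟨c⁻¹, by rw [inv_inv]⟩), ?_⟩
      rw [show c⁻¹ * x * c * y * (c⁻¹ * x * c)⁻¹ = c⁻¹ * (x * (c * y * c⁻¹) * x⁻¹) * c by group, hc, hp, ← hc]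
      group
    refine hg ?_
    unfold Klein.fA secInd
    simp only [Pi.smul_apply, Pi.add_apply]
    rw [if_neg fun e => hcon (by obtain ⟨t', h1, h2⟩ := key a e; exact ⟨t', h1, Or.inl h2⟩),
      if_neg fun e => hcon (by obtain ⟨t', h1, h2⟩ := key (a * b) e; exact ⟨t', h1, Or.inr h2⟩)]
    simp
  have hS : ∑ χ : IrrCharacter G, (χ : G → ℂ) t ^ 2 * classInner h.fA (χ : G → ℂ) / (χ : G → ℂ) 1 = 0 := by
    have e : ∑ g : G, h.fA g * ∑ χ : IrrCharacter G, (χ : G → ℂ) t ^ 2 * (χ : G → ℂ) g⁻¹ / (χ : G → ℂ) 1 = 0 := by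
      refine Finset.sum_eq_zero fun g _ => ?_
      by_cases hg : h.fA g = 0
      · rw [hg, zero_mul]
      · rw [hzero g hg, mul_zero]
    simp only [Finset.mul_sum] at e
    rw [Finset.sum_comm] at e
    refine mul_left_cancel₀ (card_ne_zero (G := G)) ?_
    rw [mul_zero, ← e, Finset.mul_sum]
    refine Finset.sum_congr rfl fun χ _ => ?_
    have hinn : (Nat.card G : ℂ) * classInner h.fA (χ : G → ℂ) = ∑ g : G, h.fA g * (χ : G → ℂ) g⁻¹ := by
      rw [Cfsg.classInner, mul_inv_cancel_left₀ (card_ne_zero (G := G))]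
      exact Finset.sum_congr rfl fun g _ => by rw [conj_irr]
    calc (Nat.card G : ℂ) * ((χ : G → ℂ) t ^ 2 * classInner h.fA (χ : G → ℂ) / (χ : G → ℂ) 1)
        = (χ : G → ℂ) t ^ 2 * ((Nat.card G : ℂ) * classInner h.fA (χ : G → ℂ)) / (χ : G → ℂ) 1 := by ring
      _ = ∑ g : G, h.fA g * ((χ : G → ℂ) t ^ 2 * (χ : G → ℂ) g⁻¹ / (χ : G → ℂ) 1) := by
          rw [hinn, Finset.mul_sum, Finset.sum_div]
          exact Finset.sum_congr rfl fun g _ => by ring
  have hne : u ≠ v := hd.ne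
  simp only [hd.coeff h, mul_add, mul_sub, add_div, sub_div, Finset.sum_add_distrib, Finset.sum_sub_distrib,
    mul_ite, mul_one, mul_zero, ite_div, zero_div, Finset.sum_ite_eq, Finset.mem_univ, if_true,
    trivChar_apply, one_pow, div_one, irr_one_eq, hd.du, hd.dv] at hS
  have hft : h.fA t = 0 := by
    have e1 : pEl 3 t = 1 := by
      have := pEl_mul (p := 3) (Commute.one_left t) (k := 0) (by rw [orderOf_one, pow_zero]) (by rw [ht]; decide)
      rwa [one_mul] at this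
    unfold Klein.fA secInd
    simp [e1, h.ne_one.1, h.ne_one.2.2]
  have hvt : (v : G → ℂ) t = 1 + (u : G → ℂ) t := by
    have := congrFun hd.eq t
    rw [hft] at this
    linear_combination this
  rw [hvt] at hS
  have hd1' : charDegree ((trivChar G : IrrCharacter G) : G → ℂ) = 1 := by simp [charDegree]
  simp only [hd1', Nat.cast_one] at hS
  have hd0 : (d : ℂ) ≠ 0 := Nat.cast_ne_zero.2 hd.pos.ne'
  have hd1 : ((d + 1 : ℕ) : ℂ) ≠ 0 := Nat.cast_ne_zero.2 (by omega)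
  field_simp at hS
  push_cast at hS
  have hxe : (u : G → ℂ) t = (d : ℂ) := by
    refine sub_eq_zero.1 (mul_self_eq_zero.1 ?_)
    linear_combination hS
  have ht1 : t ≠ 1 := fun e => by rw [e, orderOf_one] at ht; omega
  exact ht1 (Cofactor.faithful hd.hu t (by rw [irr_one_eq, hd.du]; exact hxe))

/-- The diagonal Klein pattern is impossible. -/
theorem klein_false (hG : ¬ IsMulCommutative G) {q e₂ e : ℕ} (hq : q.Prime) (hq2 : q ≠ 2) (hq3 : q ≠ 3)
    (hcard : Nat.card G = 9 * 2 ^ e₂ * q ^ e) (h : Klein P a b) : False := by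
  haveI : Fact q.Prime := ⟨hq⟩
  obtain ⟨M, hM⟩ := DegreeTools.TISum.exists_pmodular Nat.prime_three
  obtain ⟨u, v, d, hd⟩ := h.exists_dec
  obtain ⟨u', v', d', hd'⟩ := h.swap.exists_dec
  obtain ⟨B, hB, hBdeg, hBmem⟩ : ∃ B : IrrCharacter G, B ≠ trivChar G ∧ charDegree (B : G → ℂ) = q ∧
      B ∈ principalBlock M G := by
    rcases h.good_pair hM hd hd' with ⟨g1, g2⟩ | ⟨g1, g2⟩
    · obtain ⟨i, hi⟩ := exists_degree_eq hG hq hq2 hq3 hcard hd.hu hd.du hd.dv g1 g2
      rcases hi with ⟨h1, -⟩ | ⟨h1, -⟩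
      · exact ⟨v, hd.hv, h1, (hd.mem h hM).2⟩
      · exact ⟨u, hd.hu, h1, (hd.mem h hM).1⟩
    · obtain ⟨i, hi⟩ := exists_degree_eq hG hq hq2 hq3 hcard hd'.hu hd'.du hd'.dv g1 g2
      rcases hi with ⟨h1, -⟩ | ⟨h1, -⟩
      · exact ⟨v', hd'.hv, h1, (hd'.mem h.swap hM).2⟩
      · exact ⟨u', hd'.hu, h1, (hd'.mem h.swap hM).1⟩
  obtain rfl : e = 1 := exponent_one hG hq hq2 hq3 hcard hB hBdeg
  rw [pow_one] at hcard
  have h9 := h.card_nine
  have hodd : Odd (Nat.card (P : Subgroup G)) := by rw [h9]; decide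
  obtain ⟨θ, hθ, hdeg⟩ := exists_small hG hq hq2 hq3 hcard
  have hθ9 : charDegree (θ : G → ℂ) = 9 := by
    rcases hdeg with ⟨h3, -⟩ | h9'
    · exact absurd h3 (degree_ne_three hG h9 h.exp hθ)
    · exact h9'
  have hΓ : NineChar θ := ⟨hθ, hθ9, fun g hg => nine_vanish hq hq3 hcard hθ9 hg⟩
  -- the Sylow subgroup is its own centralizer
  have hCP : ∀ g : G, (∀ y ∈ (P : Subgroup G), Commute y g) → g ∈ (P : Subgroup G) := by
    intro g hg
    set C := Subgroup.centralizer ((P : Subgroup G) : Set G) with hC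
    have hPC : (P : Subgroup G) ≤ C := fun x hx => Subgroup.mem_centralizer_iff.2 fun y hy => h.comm y hy x hx
    have hno : ∀ r : ℕ, r.Prime → r = 2 ∨ r = q → ¬ r ∣ Nat.card C := by
      intro r hr hrr hdv
      obtain ⟨⟨w, hwC⟩, hw⟩ := exists_prime_orderOf_dvd_card' (hp := ⟨hr⟩) r hdv
      rw [Subgroup.orderOf_mk] at hw
      rcases hrr with rfl | rfl
      · exact hΓ.no_centralizer hG h9 hw fun y hy => Subgroup.mem_centralizer_iff.1 hwC y hy
      · have hxw : Commute (a * b) w := Subgroup.mem_centralizer_iff.1 hwC _ h.hc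
        refine no_commute hG hq hq2 hq3 hcard hB hBdeg hw hxw fun k _ => ?_
        refine SectionSums.apply_section hM hBmem (pow_three_order h.hc) h.npc_diag (hxw.symm.pow_left k) ?_
        intro h3
        have := h3.trans (hw ▸ orderOf_pow_dvd k)
        exact hq3 ((Nat.prime_dvd_prime_iff_eq Nat.prime_three hq).1 this).symm
    have h1 : Nat.card C ∣ 9 := by
      have h2 : Nat.card C ∣ 9 * 2 ^ e₂ * q := hcard ▸ Subgroup.card_subgroup_dvd_card C
      refine Nat.Coprime.dvd_of_dvd_mul_right ?_ (Nat.Coprime.dvd_of_dvd_mul_right ?_ h2)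
      · exact (((Nat.Prime.coprime_iff_not_dvd Nat.prime_two).2 (hno 2 Nat.prime_two (Or.inl rfl))).symm).pow_right e₂
      · exact ((Nat.Prime.coprime_iff_not_dvd hq).2 (hno q hq (Or.inr rfl))).symm
    have h2 : (P : Subgroup G) = C :=
      Subgroup.eq_of_le_of_card_ge hPC (by rw [h9]; exact Nat.le_of_dvd (by norm_num) h1)
    rw [h2]
    exact Subgroup.mem_centralizer_iff.2 fun y hy => (hg y hy).eq
  -- an involution centralizing `a`
  obtain ⟨n, hn, hna, hnb⟩ := h.flipB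
  have hn2 : n ^ 2 ∈ (P : Subgroup G) := hCP _ fun y hy => by
    obtain ⟨i, j, -, -, e⟩ := h.gen y hy
    have ea : n ^ 2 * a * (n ^ 2)⁻¹ = a := by rw [conj_sq_eq, hna, hna]
    have eb : n ^ 2 * b * (n ^ 2)⁻¹ = b := by rw [conj_sq_eq, hnb, ← conj_inv, hnb, inv_inv]
    have e2 : n ^ 2 * y * (n ^ 2)⁻¹ = y := by rw [e, ← conj_mul, conj_pow_eq _ ea, conj_pow_eq _ eb]
    exact (mul_inv_eq_iff_eq_mul.1 e2).symm
  set s := n ^ 3 with hs
  have hs2 : s ^ 2 = 1 := by rw [hs, ← pow_mul, show 3 * 2 = 2 * 3 from rfl, pow_mul]; exact h.exp _ hn2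
  have hsa : s * a * s⁻¹ = a := by
    rw [hs, pow_succ', pow_two, show n * (n * n) * a * (n * (n * n))⁻¹ = n * (n * (n * a * n⁻¹) * n⁻¹) * n⁻¹ by group,
      hna, hna, hna]
  have hso : orderOf s = 2 := orderOf_eq_prime hs2 fun e => by
    have h1 : s * b * s⁻¹ = b⁻¹ := by
      rw [hs, pow_succ', pow_two, show n * (n * n) * b * (n * (n * n))⁻¹ = n * (n * (n * b * n⁻¹) * n⁻¹) * n⁻¹ by group,
        hnb, ← conj_inv, hnb, inv_inv, hnb]
    rw [e, one_mul, inv_one, mul_one] at h1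
    exact h.ne_one.2.1 (eq_one_of_eq_inv hodd h.hb h1)
  have hsac : Commute a s := (mul_inv_eq_iff_eq_mul.1 hsa).symm
  obtain ⟨c, hcv, hc⟩ := hΓ.val_three hG hso h.oa hsac
  obtain ⟨t, hst, hty⟩ := h.inverted hso
  have hto : orderOf t = 2 := by
    obtain ⟨g, rfl⟩ := isConj_iff.1 hst
    rw [← MulAut.conj_apply, MulEquiv.orderOf_eq, hso]
  have htv : (θ : G → ℂ) t = (c : ℂ) := by
    obtain ⟨g, rfl⟩ := isConj_iff.1 hst
    rw [irr_conj_apply, hcv]
  -- a conjugate of `s` commutes with `b`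
  have haa : a⁻¹ * a⁻¹ = a :=
    mul_right_cancel (b := a * a) (by
      rw [show a⁻¹ * a⁻¹ * (a * a) = 1 by group, ← mul_assoc, ← pow_three']; exact (h.exp a h.ha).symm)
  have hbb : b⁻¹ * b⁻¹ = b :=
    mul_right_cancel (b := b * b) (by
      rw [show b⁻¹ * b⁻¹ * (b * b) = 1 by group, ← mul_assoc, ← pow_three']; exact (h.exp b h.hb).symm)
  obtain ⟨w, hsw, hwb⟩ : ∃ w : G, IsConj s w ∧ Commute b w := by
    rcases hty with hty | hty
    · obtain ⟨m, hm, htm, hma, hmod⟩ := hΓ.lift_inverter hG h9 h.ha h.oa hto hty htv hc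
      refine ⟨m, hst.trans htm, ?_⟩
      have hmb : m * b * m⁻¹ = b := (h.actB m hm).resolve_right fun e => by
        have h1 := hmod b h.hb
        rw [e, hbb] at h1
        exact h.indep h1
      exact (mul_inv_eq_iff_eq_mul.1 hmb).symm
    · exfalso
      have hoc : orderOf (a * b) = 3 := orderOf_eq_prime (h.exp _ h.hc) h.ne_one.2.2
      obtain ⟨m, hm, -, hmc, hmod⟩ := hΓ.lift_inverter hG h9 h.hc hoc hto hty htv hc
      have hma : m * a * m⁻¹ = a⁻¹ := by
        refine (h.actA m hm).resolve_left fun ea => ?_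
        rcases h.actB m hm with eb | eb <;> rw [← conj_mul, ea, eb, mul_inv_rev] at hmc
        · refine h.ne_one.2.2 (eq_one_of_eq_inv hodd h.hc ?_)
          rw [mul_inv_rev]; exact hmc
        · rw [h.comm _ (inv_mem h.hb) _ (inv_mem h.ha), mul_left_inj] at hmc
          exact h.ne_one.1 (eq_one_of_eq_inv hodd h.ha hmc)
      have h1 := hmod a h.ha
      rw [hma, haa] at h1
      have hle : (P : Subgroup G) ≤ Subgroup.zpowers (a * b) := fun y hy => by
        obtain ⟨i, j, -, -, e⟩ := h.gen y hy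
        have hb1 : b ∈ Subgroup.zpowers (a * b) := by
          have := mul_mem (inv_mem h1) (Subgroup.mem_zpowers (a * b))
          rwa [inv_mul_cancel_left] at this
        exact e ▸ mul_mem (pow_mem h1 i) (pow_mem hb1 j)
      have := Nat.le_of_dvd Nat.card_pos (Subgroup.card_dvd_of_le hle)
      rw [h9, Nat.card_zpowers, hoc] at this
      omega
  obtain ⟨g, hg⟩ := isConj_iff.1 hsw
  set b' := g⁻¹ * b * g with hb'
  have hbs : Commute b' s := by
    show g⁻¹ * b * g * s = s * (g⁻¹ * b * g)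
    calc g⁻¹ * b * g * s = g⁻¹ * (b * (g * s * g⁻¹)) * g := by group
      _ = g⁻¹ * (g * s * g⁻¹ * b) * g := by rw [hg, hwb.eq]
      _ = s * (g⁻¹ * b * g) := by group
  -- Sylow's theorem in the centralizer of `s`
  set C := Subgroup.centralizer ({s} : Set G) with hC
  have haC : a ∈ C := Subgroup.mem_centralizer_singleton_iff.2 hsac.eq
  have hbC : b' ∈ C := Subgroup.mem_centralizer_singleton_iff.2 hbs.eq
  obtain ⟨T⟩ : Nonempty (Sylow 3 C) := inferInstance
  set T' : Subgroup G := (T : Subgroup C).map C.subtype with hT'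
  have hT'card : Nat.card T' = Nat.card (T : Subgroup C) := Subgroup.card_map_of_injective C.subtype_injective
  obtain ⟨Q, hQ⟩ := (T.2.map C.subtype).exists_le_sylow
  have hQ9 : Nat.card (Q : Subgroup G) = 9 := (Nat.card_congr (Q.equiv P).toEquiv).trans h9
  have hdvd : Nat.card (T : Subgroup C) ∣ 3 := by
    have h1 : Nat.card (T : Subgroup C) ∣ 3 ^ 2 := by
      rw [← hT'card]
      exact (Subgroup.card_dvd_of_le hQ).trans (by rw [hQ9]; norm_num)
    obtain ⟨k, hk, e⟩ := (Nat.dvd_prime_pow Nat.prime_three).1 h1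
    rcases (show k = 2 ∨ k ≤ 1 by omega) with rfl | hk1
    · exfalso
      have hTQ : T' = (Q : Subgroup G) :=
        Subgroup.eq_of_le_of_card_ge hQ (by rw [hQ9, hT'card, e]; norm_num)
      refine hΓ.no_centralizer hG hQ9 hso fun y hy => ?_
      rw [← hTQ] at hy
      obtain ⟨z, -, rfl⟩ := Subgroup.mem_map.1 hy
      exact Subgroup.mem_centralizer_singleton_iff.1 z.2
    · rw [e]; exact (Nat.pow_dvd_pow 3 hk1).trans (by norm_num)
  have hto3 : ∀ (x : G) (hx : x ∈ C), orderOf x = 3 → ∃ k : C, ((k : C) : G) * x * ((k : C) : G)⁻¹ ∈ T' ∧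
      T' = Subgroup.zpowers ((k : G) * x * (k : G)⁻¹) := by
    intro x hx hox
    obtain ⟨k, hk⟩ := TIAbelian.exists_conj_mem_sylow_p T (R := Subgroup.zpowers (⟨x, hx⟩ : C))
      (IsPGroup.of_card (n := 1) (by rw [Nat.card_zpowers, Subgroup.orderOf_mk, hox, pow_one]))
    have hmem : (k : G) * x * (k : G)⁻¹ ∈ T' :=
      ⟨k * ⟨x, hx⟩ * k⁻¹, hk _ (Subgroup.mem_zpowers _), rfl⟩
    refine ⟨k, hmem, (Subgroup.eq_of_le_of_card_ge (Subgroup.zpowers_le.2 hmem) ?_).symm⟩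
    rw [Nat.card_zpowers, ← MulAut.conj_apply, MulEquiv.orderOf_eq, hox, hT'card]
    exact Nat.le_of_dvd (by norm_num) hdvd
  obtain ⟨k₁, -, e1⟩ := hto3 a haC h.oa
  have hob : orderOf b' = 3 := by
    rw [hb', ← h.ob]
    have := MulEquiv.orderOf_eq (MulAut.conj g⁻¹) b
    rwa [MulAut.conj_apply, inv_inv] at this
  obtain ⟨k₂, hm2, -⟩ := hto3 b' hbC hob
  rw [e1] at hm2
  obtain ⟨z, hz⟩ := Subgroup.mem_zpowers_iff.1 hm2
  rw [conj_zpow] at hz
  have hzc : IsConj (a ^ z) b := by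
    refine (isConj_iff.2 ⟨(k₁ : G), hz⟩ : IsConj (a ^ z) ((k₂ : G) * b' * (k₂ : G)⁻¹)).trans ?_
    refine isConj_iff.2 ⟨g * (k₂ : G)⁻¹, ?_⟩
    rw [hb']; group
  have hza : a ^ z = 1 ∨ IsConj a (a ^ z) := by
    by_cases h1 : a ^ z = 1
    · exact Or.inl h1
    · refine Or.inr ?_
      rcases h.class_cases (Subgroup.zpow_mem _ h.ha z) h1 with ⟨h2, -⟩ | ⟨-, h2⟩ | ⟨-, h2, -⟩
      · exact h2
      · exact absurd (Subgroup.mem_bot.1 (h.zpowers_inf ▸ Subgroup.mem_inf.2 ⟨Subgroup.zpow_mem _ (Subgroup.mem_zpowers a) z, h2⟩)) h1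
      · exact absurd (Subgroup.zpow_mem _ (Subgroup.mem_zpowers a) z) h2
  rcases hza with h1 | h1
  · rw [h1] at hzc; exact h.ne_one.2.1 (isConj_one_right.1 hzc)
  · exact h.not_conj_ab (h1.trans hzc)

end CfsgLib.SmallGroups.NineTwoPrimes
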