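import Cfsg.Agent.Lib.SmallGroups.NineTwoPrimes.Arith
import Cfsg.Agent.Lib.SmallGroups.NineTwoPrimes.Facts
import Cfsg.Agent.Lib.SmallGroups.BlockDegrees
import Cfsg.Agent.Lib.SmallGroups.CofactorThree
import Cfsg.Agent.Lib.SmallGroups.ValueTools
import Cfsg.Agent.Lib.DegreeTools.TISum
import Cfsg.Agent.S0165

/-!
# The prime `q` in a simple group of order `9 * 2 ^ a * q ^ b` with a character of degree `q`

The exponent `b` is one, an element of order `q` moves every element whose section carries a constant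
value of that character, and the block of `q` gives a character of degree three or nine.
-/

set_option autoImplicit false

open scoped Classical

namespace CfsgLib.SmallGroups.NineTwoPrimes

open Cfsg CfsgLib.Char CfsgLib.Blocks

variable {G : Type*} [Group G] [Fintype G]

/-- Consecutive degrees prime to three: one of them is `q`. -/
theorem exists_degree_eq [IsSimpleGroup G] (hG : ¬ IsMulCommutative G) {q a b : ℕ} (hq : q.Prime)
    (hq2 : q ≠ 2) (hq3 : q ≠ 3) (hcard : Nat.card G = 9 * 2 ^ a * q ^ b) {u v : IrrCharacter G}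
    (hu : u ≠ trivChar G) {d : ℕ}
    (hdu : charDegree (u : G → ℂ) = d) (hdv : charDegree (v : G → ℂ) = d + 1) (h3 : ¬ 3 ∣ d)
    (h3' : ¬ 3 ∣ d + 1) :
    ∃ i : ℕ, (charDegree (v : G → ℂ) = q ∧ d = 2 ^ i ∧ q = 2 ^ i + 1) ∨
      (charDegree (u : G → ℂ) = q ∧ d + 1 = 2 ^ i ∧ q + 1 = 2 ^ i) := by
  have hd1 : d ≠ 1 := fun e => hu (BlockDegrees.eq_trivChar hG u (hdu.trans e))
  have hd0 : d ≠ 0 := fun e => (charDegree_pos u).ne' (hdu.trans e)
  have hsplit : ∀ x : ℕ, x ∣ Nat.card G → ¬ 3 ∣ x → ∃ k l : ℕ, x = 2 ^ k * q ^ l := by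
    intro x hx hx3
    obtain ⟨k, l, -, -, he⟩ := Cofactor.exists_exponents (u := 9) Nat.prime_two hq (hcard ▸ hx)
      (((Nat.Prime.coprime_iff_not_dvd Nat.prime_three).2 hx3).symm.pow_right 2)
    exact ⟨k, l, he⟩
  obtain ⟨k, l, hkl⟩ := hsplit d (hdu ▸ charDegree_dvd u) h3
  obtain ⟨k', l', hkl'⟩ := hsplit (d + 1) (hdv ▸ charDegree_dvd v) h3'
  rcases Nat.even_or_odd d with hev | hod
  · have hk' : k' = 0 := by
      by_contra hne
      have : 2 ∣ d + 1 := hkl' ▸ (dvd_pow_self 2 hne).mul_right _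
      obtain ⟨r, rfl⟩ := hev
      omega
    have hl0 : l = 0 := by
      by_contra hne
      have h1 : q ∣ d := hkl ▸ (dvd_pow_self q hne).mul_left _
      have hl' : l' ≠ 0 := fun e => by rw [hk', e, pow_zero, pow_zero, mul_one] at hkl'; omega
      have h2 : q ∣ d + 1 := hkl' ▸ (dvd_pow_self q hl').mul_left _
      exact hq.not_dvd_one ((Nat.dvd_add_right h1).1 h2)
    rw [hl0, pow_zero, mul_one] at hkl
    rw [hk', pow_zero, one_mul] at hkl'
    have hl' : l' ≠ 0 := fun e => by rw [e, pow_zero] at hkl'; omega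
    rw [exponent_eq_one hq hq2 hq3 hl' (Or.inl (by rw [← hkl]; exact hkl')), pow_one] at hkl'
    exact ⟨k, Or.inl ⟨hdv.trans hkl', hkl, by omega⟩⟩
  · have hk : k = 0 := by
      by_contra hne
      have : 2 ∣ d := hkl ▸ (dvd_pow_self 2 hne).mul_right _
      obtain ⟨r, rfl⟩ := hod
      omega
    have hl0 : l ≠ 0 := fun e => hd1 (by rw [hkl, hk, e, pow_zero, pow_zero, mul_one])
    have hl' : l' = 0 := by
      by_contra hne
      have h1 : q ∣ d := hkl ▸ (dvd_pow_self q hl0).mul_left _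
      have h2 : q ∣ d + 1 := hkl' ▸ (dvd_pow_self q hne).mul_left _
      exact hq.not_dvd_one ((Nat.dvd_add_right h1).1 h2)
    rw [hl', pow_zero, mul_one] at hkl'
    rw [hk, pow_zero, one_mul] at hkl
    rw [exponent_eq_one hq hq2 hq3 hl0 (Or.inr (by rw [← hkl]; exact hkl')), pow_one] at hkl
    exact ⟨k', Or.inr ⟨hdu.trans hkl, hkl', by omega⟩⟩

variable [IsSimpleGroup G]

/-- A character of degree `q` leaves a Sylow subgroup of order `q`. -/
theorem exponent_one (hG : ¬ IsMulCommutative G) {q a b : ℕ} (hq : q.Prime) (hq2 : q ≠ 2) (hq3 : q ≠ 3)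
    (hcard : Nat.card G = 9 * 2 ^ a * q ^ b) {B : IrrCharacter G} (hB : B ≠ trivChar G)
    (hdeg : charDegree (B : G → ℂ) = q) : b = 1 := by
  haveI : Fact q.Prime := ⟨hq⟩
  have hb : b ≠ 0 := fun e => by
    have h1 := charDegree_dvd B
    rw [hdeg, hcard, e, pow_zero, mul_one] at h1
    rcases hq.dvd_mul.1 h1 with e | e
    · exact hq3 ((Nat.prime_dvd_prime_iff_eq hq Nat.prime_three).1 (hq.dvd_of_dvd_pow (m := 3) (n := 2) e))
    · exact hq2 ((Nat.prime_dvd_prime_iff_eq hq Nat.prime_two).1 (hq.dvd_of_dvd_pow e))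
  obtain ⟨Q⟩ : Nonempty (Sylow q G) := inferInstance
  haveI : Nontrivial (Q : Subgroup G) := (Subgroup.nontrivial_iff_ne_bot _).2
    (Q.ne_bot_of_dvd_card (hcard ▸ dvd_mul_of_dvd_right (dvd_pow_self q hb) _))
  haveI : Nontrivial (Subgroup.center (Q : Subgroup G)) := Q.isPGroup'.center_nontrivial
  obtain ⟨n, hn⟩ := IsPGroup.iff_card.1 (Q.isPGroup'.to_subgroup (Subgroup.center (Q : Subgroup G)))
  obtain ⟨r, hr⟩ := exists_prime_orderOf_dvd_card' (G := Subgroup.center (Q : Subgroup G)) q (by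
    rw [hn]
    exact dvd_pow_self q fun e => by
      have := Finite.one_lt_card (α := Subgroup.center (Q : Subgroup G))
      rw [hn, e, pow_zero] at this; omega)
  have hrq : orderOf ((r : (Q : Subgroup G)) : G) = q := by
    rw [Subgroup.orderOf_coe, Subgroup.orderOf_coe, hr]
  have hrc : ∀ w ∈ (Q : Subgroup G), Commute w ((r : (Q : Subgroup G)) : G) := fun w hw =>
    congrArg Subtype.val (Subgroup.mem_center_iff.1 r.2 ⟨w, hw⟩)
  have hzero : ∀ y : G, y ≠ 1 → (∀ w ∈ (Q : Subgroup G), Commute w y) → (B : G → ℂ) y = 0 := by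
    intro y hy1 hy
    refine value_eq_zero hG hB hy1 ?_
    rw [hdeg]
    exact ((Nat.Prime.coprime_iff_not_dvd hq).2 fun e => Q.not_dvd_index (e.trans
      (Subgroup.index_dvd_of_le fun w hw => Subgroup.mem_centralizer_singleton_iff.2 (hy w hw).eq))).symm
  have hab : ∀ v ∈ (Q : Subgroup G), ∀ w ∈ (Q : Subgroup G), Commute v w := by
    intro v hv w hw
    refine cent_comm hdeg (Cofactor.faithful hB) hrq (fun k hk hkq => ?_) (hrc v hv) (hrc w hw)
    refine hzero _ (fun e => ?_) fun w' hw' => (hrc w' hw').pow_right k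
    have := Nat.le_of_dvd hk (hrq ▸ orderOf_dvd_of_pow_eq_one e)
    omega
  obtain ⟨m, hm⟩ := ValueTools.exists_mult B (Q : Subgroup G)
  rw [← Finset.add_sum_erase _ _ (Finset.mem_univ (1 : (Q : Subgroup G))),
    Finset.sum_eq_zero fun y hy => hzero _ (fun e => (Finset.mem_erase.1 hy).1 (Subtype.ext e))
      (fun w hw => hab w hw y y.2), add_zero, OneMemClass.coe_one, irr_one_eq, hdeg,
    Sylow.card_eq_multiplicity, hcard] at hm
  have hm' : q = q ^ (9 * 2 ^ a * q ^ b).factorization q * m := by exact_mod_cast hm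
  have hfac : (9 * 2 ^ a * q ^ b).factorization q = b := by
    refine Cofactor.factorization_order (by norm_num) Nat.prime_two hq hq2.symm fun e => ?_
    exact hq3 ((Nat.prime_dvd_prime_iff_eq hq Nat.prime_three).1 (hq.dvd_of_dvd_pow (m := 3) (n := 2) e))
  rw [hfac] at hm'
  have h1 : q ^ b ∣ q ^ 1 := by rw [pow_one]; exact Dvd.intro m hm'.symm
  have := (Nat.pow_dvd_pow_iff_le_right hq.one_lt).1 h1
  omega

/-- An element of order `q` cannot fix a constant section value of the character of degree `q`. -/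
theorem no_commute (hG : ¬ IsMulCommutative G) {q a : ℕ} (hq : q.Prime) (hq2 : q ≠ 2) (hq3 : q ≠ 3)
    (hcard : Nat.card G = 9 * 2 ^ a * q) {B : IrrCharacter G} (hB : B ≠ trivChar G)
    (hdeg : charDegree (B : G → ℂ) = q) {x y : G} (hy : orderOf y = q) (hxy : Commute x y)
    (hconst : ∀ k : ℕ, k < q → (B : G → ℂ) (x * y ^ k) = (B : G → ℂ) x) : False := by
  haveI : Fact q.Prime := ⟨hq⟩
  obtain ⟨n, ρ, -, hρ⟩ := B.2
  obtain ⟨bz, μ, hμ, hb⟩ := exists_eigenbasis ρ y
  rw [hy] at hμ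
  have hq0 : q ≠ 0 := hq.ne_zero
  have hfin : Module.finrank ℂ (Fin n → ℂ) = q := hdeg ▸
    Nat.cast_injective (R := ℂ) (by rw [← Representation.char_one ρ, hρ, irr_one_eq])
  have hzero : ∀ k, 0 < k → k < q → (B : G → ℂ) (y ^ k) = 0 := by
    intro k hk hkq
    have hne : y ^ k ≠ 1 := fun e => by
      have := Nat.le_of_dvd hk (hy ▸ orderOf_dvd_of_pow_eq_one e)
      omega
    obtain ⟨Q, hQ⟩ := (IsPGroup.of_card (G := Subgroup.zpowers y) (n := 1)
      (by rw [Nat.card_zpowers, hy, pow_one])).exists_le_sylow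
    have hQc : Nat.card (Q : Subgroup G) = q := by
      have := SimpleTools.card_sylow_subgroup (k := 1) (m := 9 * 2 ^ a) (by rw [hcard]; ring) (fun e => by
        rcases hq.dvd_mul.1 e with e | e
        · exact hq3 ((Nat.prime_dvd_prime_iff_eq hq Nat.prime_three).1 (hq.dvd_of_dvd_pow (m := 3) (n := 2) e))
        · exact hq2 ((Nat.prime_dvd_prime_iff_eq hq Nat.prime_two).1 (hq.dvd_of_dvd_pow e))) Q
      rwa [pow_one] at this
    have hQy : Subgroup.zpowers y = (Q : Subgroup G) :=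
      Subgroup.eq_of_le_of_card_ge hQ (by rw [Nat.card_zpowers, hy, hQc])
    refine value_eq_zero hG hB hne ?_
    rw [hdeg]
    refine ((Nat.Prime.coprime_iff_not_dvd hq).2 fun e => Q.not_dvd_index (e.trans
      (Subgroup.index_dvd_of_le fun w hw => ?_))).symm
    rw [← hQy] at hw
    obtain ⟨i, rfl⟩ := Subgroup.mem_zpowers_iff.1 hw
    exact Subgroup.mem_centralizer_singleton_iff.2 (((Commute.refl y).zpow_left i).pow_right k).eq
  have hsum : ∀ k, k < q → ∑ i, μ i ^ k = if k = 0 then (q : ℂ) else 0 := by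
    intro k hk
    rw [← trace_eq_sum_of_eigen (ρ (y ^ k)) bz (fun i => μ i ^ k) (hb k)]
    show ρ.character (y ^ k) = _
    rw [hρ]
    split_ifs with h0
    · rw [h0, pow_zero, irr_one_eq, hdeg]
    · exact hzero k (Nat.pos_of_ne_zero h0) hk
  have hμ0 : ∀ i, μ i ≠ 0 := fun i e => by
    have := hμ i
    rw [e, zero_pow hq0] at this
    exact zero_ne_one this
  have hgeom : ∀ z : ℂ, z ^ q = 1 → ∑ k ∈ Finset.range q, z ^ k = if z = 1 then (q : ℂ) else 0 := by
    intro z hz
    split_ifs with e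
    · simp [e]
    · rw [geom_sum_eq e, hz, sub_self, zero_div]
  have hinj : Function.Injective μ := by
    intro i j hij
    by_contra hne
    have h1 : ∑ l, ∑ k ∈ Finset.range q, (μ l / μ i) ^ k = (q : ℂ) := by
      rw [Finset.sum_comm, Finset.sum_eq_single_of_mem 0 (Finset.mem_range.2 hq.pos) (fun k hk hk0 => by
        simp only [div_pow]
        rw [← Finset.sum_div, hsum k (Finset.mem_range.1 hk), if_neg hk0, zero_div])]
      simp only [pow_zero, Finset.sum_const, Finset.card_univ, Fintype.card_fin, nsmul_eq_mul, mul_one]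
      rw [hfin]
    rw [Finset.sum_congr rfl fun l _ => hgeom (μ l / μ i) (by rw [div_pow, hμ, hμ, div_one]),
      Finset.sum_ite, Finset.sum_const_zero, add_zero, Finset.sum_const, nsmul_eq_mul] at h1
    have h3 : (Finset.univ.filter fun l => μ l / μ i = 1).card = 1 := by
      exact_mod_cast (mul_eq_right₀ (Nat.cast_ne_zero.2 hq0 : (q : ℂ) ≠ 0)).1 h1
    obtain ⟨w, hw⟩ := Finset.card_eq_one.1 h3
    have e1 : i ∈ ({w} : Finset _) := hw ▸ Finset.mem_filter.2 ⟨Finset.mem_univ _, div_self (hμ0 i)⟩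
    have e2 : j ∈ ({w} : Finset _) := hw ▸ Finset.mem_filter.2 ⟨Finset.mem_univ _, by rw [← hij, div_self (hμ0 i)]⟩
    exact hne ((Finset.mem_singleton.1 e1).trans (Finset.mem_singleton.1 e2).symm)
  -- `x` is diagonal in the eigenbasis of `y`
  set α : Fin (Module.finrank ℂ (Fin n → ℂ)) → ℂ := fun i => bz.repr (ρ x (bz i)) i with hα
  have hb1 : ∀ i, ρ y (bz i) = μ i • bz i := fun i => by simpa using hb 1 i
  have hdiag : ∀ i, ρ x (bz i) = α i • bz i := by
    intro i
    set w := ρ x (bz i) with hwdef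
    have hw : ρ y w = μ i • w := by
      rw [hwdef, ← Module.End.mul_apply, ← map_mul, ← hxy.eq, map_mul, Module.End.mul_apply, hb1, map_smul]
    have hc : ∀ j, j ≠ i → bz.repr w j = 0 := by
      intro j hj
      have h1 : bz.repr (ρ y w) j = μ j * bz.repr w j := by
        conv_lhs => rw [← bz.sum_repr w]
        simp only [map_sum, map_smul, hb1, Finset.sum_apply', Finsupp.smul_apply, smul_eq_mul]
        rw [Finset.sum_eq_single j (fun l _ hl => by simp [hl.symm]) (by simp)]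
        simp
        ring
      rw [hw, map_smul, Finsupp.smul_apply, smul_eq_mul] at h1
      by_contra hne
      exact hj (hinj (mul_right_cancel₀ hne h1).symm)
    conv_lhs => rw [← bz.sum_repr w]
    exact Finset.sum_eq_single i (fun j _ hj => by rw [hc j hj, zero_smul]) (by simp)
  have hval : ∀ k : ℕ, (B : G → ℂ) (x * y ^ k) = ∑ i, α i * μ i ^ k := fun k => by
    rw [← hρ]
    refine trace_eq_sum_of_eigen _ bz (fun i => α i * μ i ^ k) fun i => ?_
    rw [map_mul, Module.End.mul_apply, hb k i, map_smul, hdiag i, smul_smul, mul_comm]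
  -- some eigenvalue of `y` differs from one
  obtain ⟨j, hj⟩ : ∃ j, μ j ≠ 1 := by
    by_contra hcon
    push Not at hcon
    have hc : 1 < Fintype.card (Fin (Module.finrank ℂ (Fin n → ℂ))) := by
      rw [Fintype.card_fin, hfin]; exact hq.one_lt
    obtain ⟨i, j, hne⟩ := Fintype.exists_pair_of_one_lt_card hc
    exact hne (hinj ((hcon i).trans (hcon j).symm))
  have h1 : ∑ k ∈ Finset.range q, (μ j ^ k)⁻¹ * ∑ i, α i * μ i ^ k = (q : ℂ) * α j := by
    simp only [Finset.mul_sum]
    rw [Finset.sum_comm, Finset.sum_congr rfl (g := fun i => if i = j then (q : ℂ) * α i else 0) fun i _ => by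
      rw [Finset.sum_congr rfl (g := fun k => α i * (μ i / μ j) ^ k) fun k _ => by
          rw [div_pow]; ring,
        ← Finset.mul_sum, hgeom _ (by rw [div_pow, hμ, hμ, div_one])]
      by_cases e : i = j
      · rw [if_pos e, e, div_self (hμ0 j), if_pos rfl, mul_comm]
      · rw [if_neg e, if_neg fun e' => e (hinj ((div_eq_one_iff_eq (hμ0 j)).1 e')), mul_zero],
      Finset.sum_ite_eq', if_pos (Finset.mem_univ _)]
  rw [Finset.sum_congr rfl (g := fun k => (B : G → ℂ) x * (μ j)⁻¹ ^ k) fun k hk => by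
      rw [← hval k, hconst k (Finset.mem_range.1 hk), inv_pow, mul_comm],
    ← Finset.mul_sum, hgeom _ (by rw [inv_pow, hμ, inv_one]),
    if_neg (fun e => hj (inv_eq_one.1 e)), mul_zero, eq_comm, mul_eq_zero] at h1
  have hα0 : α j = 0 := h1.resolve_left (Nat.cast_ne_zero.2 hq0)
  have h2 := hdiag j
  rw [hα0, zero_smul] at h2
  have h3 : bz j = 0 := by
    have := congrArg (ρ x⁻¹) h2
    rwa [← Module.End.mul_apply, ← map_mul, inv_mul_cancel, map_one, Module.End.one_apply, map_zero] at this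
  exact bz.ne_zero j h3

/-- The block of `q` has a character of degree three or nine. -/
theorem exists_small (hG : ¬ IsMulCommutative G) {q a : ℕ} (hq : q.Prime) (hq2 : q ≠ 2) (hq3 : q ≠ 3)
    (hcard : Nat.card G = 9 * 2 ^ a * q) :
    ∃ θ : IrrCharacter G, θ ≠ trivChar G ∧
      ((charDegree (θ : G → ℂ) = 3 ∧ (q = 5 ∨ ∃ Q : Sylow q G,
          (3 : ℤ) ≡ TIAbelian.autCard Q [ZMOD q] ∨ (3 : ℤ) ≡ -(TIAbelian.autCard Q : ℤ) [ZMOD q])) ∨
        charDegree (θ : G → ℂ) = 9) := by
  haveI : Fact q.Prime := ⟨hq⟩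
  have hq9 : ¬ q ∣ 9 * 2 ^ a := fun e => by
    rcases hq.dvd_mul.1 e with e | e
    · exact hq3 ((Nat.prime_dvd_prime_iff_eq hq Nat.prime_three).1 (hq.dvd_of_dvd_pow (m := 3) (n := 2) e))
    · exact hq2 ((Nat.prime_dvd_prime_iff_eq hq Nat.prime_two).1 (hq.dvd_of_dvd_pow e))
  obtain ⟨Q⟩ : Nonempty (Sylow q G) := inferInstance
  have hQc : Nat.card (Q : Subgroup G) = q := by
    have := SimpleTools.card_sylow_subgroup (k := 1) (m := 9 * 2 ^ a) (by rw [hcard]; ring) hq9 Q
    rwa [pow_one] at this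
  obtain ⟨M, hM⟩ := DegreeTools.TISum.exists_pmodular hq
  obtain ⟨X, Y, εX, ε, hB, hdisj, hX, hY, hXp, hε, hYd, -, hrel⟩ := PrimeOrder.principal_block hM hq2 Q hQc
  obtain ⟨he1, hed⟩ := Cofactor.exists_aut hG Q hQc
  set e := TIAbelian.autCard Q with hedef
  have he0 : 0 < e := by rw [hedef, TIAbelian.autCard]; exact Nat.card_pos
  have hlt : e < q := by
    have := Nat.le_of_dvd (by have := hq.two_le; omega) hed
    have := hq.two_le
    omega
  have hcop : ∀ χ : IrrCharacter G, χ ∈ X ∨ χ ∈ Y → ¬ q ∣ charDegree (χ : G → ℂ) := by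
    intro χ hχ hdvd
    have hd : (q : ℤ) ∣ (charDegree (χ : G → ℂ) : ℤ) := Int.natCast_dvd_natCast.2 hdvd
    rcases hχ with hχ | hχ
    · obtain ⟨hs, hmod, -⟩ := hXp χ hχ
      have h1 : (q : ℤ) ∣ εX χ := by
        have := dvd_add (Int.modEq_iff_dvd.1 hmod) hd
        simpa using this
      rcases hs with e' | e' <;> rw [e'] at h1
      · exact hq.not_dvd_one (by exact_mod_cast h1)
      · exact hq.not_dvd_one (by exact_mod_cast (Int.dvd_neg.1 h1))
    · have h1 : (q : ℤ) ∣ ε * (e : ℤ) := by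
        have := dvd_add (Int.modEq_iff_dvd.1 (hYd χ hχ)) hd
        simpa using this
      have h2 : (q : ℤ) ∣ (e : ℤ) := by
        rcases hε with e' | e' <;> rw [e'] at h1
        · simpa using h1
        · simpa using h1
      have := Nat.le_of_dvd he0 (by exact_mod_cast h2)
      omega
  obtain ⟨θ₀, hθ₀⟩ : Y.Nonempty := Finset.card_pos.1 (by rw [hY]; exact Nat.div_pos (by omega) he0)
  have hd1 : charDegree ((trivChar G : IrrCharacter G) : G → ℂ) = 1 := by simp [charDegree]
  have hodd : ∀ χ : IrrCharacter G, χ ≠ trivChar G → ¬ q ∣ charDegree (χ : G → ℂ) →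
      Odd (charDegree (χ : G → ℂ)) → charDegree (χ : G → ℂ) = 3 ∨ charDegree (χ : G → ℂ) = 9 := by
    intro χ hχ hnq ho
    have h1 := charDegree_dvd χ
    rw [hcard] at h1
    have h2 : charDegree (χ : G → ℂ) ∣ 9 :=
      Nat.Coprime.dvd_of_dvd_mul_right ((Nat.coprime_two_right.2 ho).pow_right a)
        (Nat.Coprime.dvd_of_dvd_mul_right ((Nat.Prime.coprime_iff_not_dvd hq).2 hnq).symm h1)
    obtain ⟨k, hk, e'⟩ := (Nat.dvd_prime_pow Nat.prime_three).1 (show charDegree (χ : G → ℂ) ∣ 3 ^ 2 by simpa using h2)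
    rcases (show k = 0 ∨ k = 1 ∨ k = 2 by omega) with rfl | rfl | rfl
    · exact absurd (BlockDegrees.eq_trivChar hG χ (by simpa using e')) hχ
    · left; simpa using e'
    · right; simpa using e'
  by_cases hth : ∃ θ ∈ Y, θ ≠ trivChar G ∧ Odd (charDegree (θ : G → ℂ))
  · obtain ⟨θ, hθ, hθt, ho⟩ := hth
    refine ⟨θ, hθt, ?_⟩
    rcases hodd θ hθt (hcop θ (Or.inr hθ)) ho with h3 | h9
    · refine Or.inl ⟨h3, Or.inr ⟨Q, ?_⟩⟩
      have := hYd θ hθ
      rw [h3, Nat.cast_ofNat] at this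
      rw [← hedef]
      rcases hε with e' | e' <;> rw [e'] at this
      · exact Or.inl (by simpa using this)
      · exact Or.inr (by simpa using this)
    · exact Or.inr h9
  · push Not at hth
    -- a member of `X` other than the trivial character has odd degree
    have h3 : ∃ χ ∈ X, χ ≠ trivChar G ∧ Odd (charDegree (χ : G → ℂ)) := by
      by_contra hcon
      push Not at hcon
      have hev : ∀ χ : IrrCharacter G, χ ≠ trivChar G → (χ ∈ X ∨ χ ∈ Y) → (2 : ℤ) ∣ (charDegree (χ : G → ℂ) : ℤ) := by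
        intro χ hχt hχ
        refine Int.natCast_dvd_natCast.2 (even_iff_two_dvd.1 (Nat.not_odd_iff_even.1 ?_))
        rcases hχ with hχ | hχ
        · exact hcon χ hχ hχt
        · exact hth χ hχ hχt
      rcases (hB _).1 (trivChar_mem_principalBlock hM) with htX | htY
      · have hθt : θ₀ ≠ trivChar G := fun e' => Finset.disjoint_left.1 hdisj htX (e' ▸ hθ₀)
        have h1 := hrel θ₀ hθ₀ 1 (by rw [orderOf_one]; exact hq.not_dvd_one)
        simp only [irr_one_eq] at h1
        have h2 : (ε * (charDegree (θ₀ : G → ℂ) : ℤ)) = ∑ χ ∈ X, εX χ * (charDegree (χ : G → ℂ) : ℤ) := by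
          exact_mod_cast h1
        have he2 : (2 : ℤ) ∣ ∑ χ ∈ X.erase (trivChar G), εX χ * (charDegree (χ : G → ℂ) : ℤ) :=
          Finset.dvd_sum fun χ hχ => (hev χ (Finset.mem_erase.1 hχ).1 (Or.inl (Finset.mem_erase.1 hχ).2)).mul_left _
        have hθe : (2 : ℤ) ∣ ε * (charDegree (θ₀ : G → ℂ) : ℤ) := (hev θ₀ hθt (Or.inr hθ₀)).mul_left _
        rw [h2, ← Finset.add_sum_erase _ _ htX] at hθe
        have h4 := (dvd_add_left he2).1 hθe
        rw [hd1] at h4
        rcases (hXp _ htX).1 with e' | e' <;> rw [e'] at h4 <;> norm_num at h4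
      · have h1 := hrel (trivChar G) htY 1 (by rw [orderOf_one]; exact hq.not_dvd_one)
        simp only [irr_one_eq] at h1
        have h2 : (ε * (charDegree ((trivChar G : IrrCharacter G) : G → ℂ) : ℤ)) =
            ∑ χ ∈ X, εX χ * (charDegree (χ : G → ℂ) : ℤ) := by exact_mod_cast h1
        have he2 : (2 : ℤ) ∣ ∑ χ ∈ X, εX χ * (charDegree (χ : G → ℂ) : ℤ) :=
          Finset.dvd_sum fun χ hχ => (hev χ (fun e' => Finset.disjoint_left.1 hdisj hχ (e' ▸ htY)) (Or.inl hχ)).mul_left _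
        rw [← h2, hd1] at he2
        rcases hε with e' | e' <;> rw [e'] at he2 <;> norm_num at he2
    obtain ⟨χ, hχX, hχt, hχo⟩ := h3
    refine ⟨χ, hχt, ?_⟩
    rcases hodd χ hχt (hcop χ (Or.inl hχX)) hχo with h3 | h9
    · refine Or.inl ⟨h3, Or.inl ?_⟩
      obtain ⟨hs, hmod, -⟩ := hXp χ hχX
      rw [h3, Nat.cast_ofNat, Int.modEq_iff_dvd] at hmod
      have h5 : q ∣ 2 ∨ q ∣ 4 := by
        rcases hs with e' | e' <;> rw [e'] at hmod
        · left; exact_mod_cast (show (q : ℤ) ∣ (2 : ℕ) by simpa using Int.dvd_neg.2 hmod)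
        · right; exact_mod_cast (show (q : ℤ) ∣ (4 : ℕ) by simpa using Int.dvd_neg.2 hmod)
      rcases h5 with h5 | h5
      · exact absurd ((Nat.prime_dvd_prime_iff_eq hq Nat.prime_two).1 h5) hq2
      · exact absurd ((Nat.prime_dvd_prime_iff_eq hq Nat.prime_two).1 (hq.dvd_of_dvd_pow (m := 2) (n := 2) h5)) hq2
    · exact Or.inr h9

/-- A character of degree nine vanishes on the elements of order divisible by three. -/
theorem nine_vanish {q a : ℕ} (hq : q.Prime) (hq3 : q ≠ 3) (hcard : Nat.card G = 9 * 2 ^ a * q)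
    {θ : IrrCharacter G} (hdeg : charDegree (θ : G → ℂ) = 9) {g : G} (hg : 3 ∣ orderOf g) :
    (θ : G → ℂ) g = 0 := by
  obtain ⟨n, ρ, hirr, hρ⟩ := θ.2
  haveI := hirr
  rw [← hρ]
  refine Cfsg.Agent.S0165.result ρ 3 2 Nat.prime_three ?_ ?_ ?_ g hg
  · rw [hcard, mul_assoc]; exact dvd_mul_right 9 _
  · rw [hcard, mul_assoc, show (3 : ℕ) ^ (2 + 1) = 9 * 3 by norm_num]
    intro h
    rcases Nat.prime_three.dvd_mul.1 (Nat.dvd_of_mul_dvd_mul_left (by norm_num) h) with e | e
    · exact absurd (Nat.prime_three.dvd_of_dvd_pow e) (by norm_num)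
    · exact hq3 ((Nat.prime_dvd_prime_iff_eq Nat.prime_three hq).1 e).symm
  · refine dvd_of_eq ?_
    refine Nat.cast_injective (R := ℂ) ?_
    rw [← Representation.char_one ρ, hρ, irr_one_eq, hdeg]
    norm_num

end CfsgLib.SmallGroups.NineTwoPrimes
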