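import Cfsg.Agent.Lib.SmallGroups.NineTwoPrimes.Fusion
import Cfsg.Agent.Lib.SmallGroups.NineTwoPrimes.QPart
import Cfsg.Agent.Lib.Blocks.IndexThree
import Cfsg.Agent.Lib.Blocks.SectionSums

/-!
# The principal 3-block for an inverted Sylow subgroup of order nine

It has one further unexceptional character and four exceptional ones, with degrees next to each other
and prime to three; so one of them has degree `q`, and every involution inverts a nontrivial 3-element.
-/

set_option autoImplicit false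

namespace CfsgLib.SmallGroups.NineTwoPrimes

open Cfsg CfsgLib.Char CfsgLib.Blocks CfsgLib.Blocks.TIAbelian
open scoped Classical ComplexConjugate

variable {G : Type*} [Group G] [Fintype G] [IsSimpleGroup G]

theorem sum_rest (P : Subgroup G) {χ : IrrCharacter G} {ε : ℤ}
    (hval : ∀ y ∈ P, y ≠ 1 → (χ : G → ℂ) y = ε) :
    ∃ m : ℕ, (charDegree (χ : G → ℂ) : ℤ) + ((Nat.card P : ℤ) - 1) * ε = Nat.card P * m := by
  obtain ⟨m, hm⟩ := ValueTools.exists_mult χ P
  refine ⟨m, ?_⟩
  rw [← Finset.add_sum_erase _ _ (Finset.mem_univ (1 : P)), OneMemClass.coe_one, irr_one_eq,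
    Finset.sum_congr rfl (g := fun _ => (ε : ℂ)) fun (y : P) hy =>
      hval y y.2 fun e => (Finset.mem_erase.1 hy).1 (Subtype.ext e),
    Finset.sum_const, Finset.card_erase_of_mem (Finset.mem_univ _), Finset.card_univ, nsmul_eq_mul,
    Nat.cast_sub Fintype.card_pos, Nat.cast_one, ← Nat.card_eq_fintype_card] at hm
  exact Int.cast_injective (α := ℂ) (by push_cast; exact hm)

/-- The consequences drawn from the block. -/
theorem plain_block (hG : ¬ IsMulCommutative G) {q a b : ℕ} (hq : q.Prime) (hq2 : q ≠ 2) (hq3 : q ≠ 3)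
    (hcard : Nat.card G = 9 * 2 ^ a * q ^ b) {P : Sylow 3 G} (h9 : Nat.card (P : Subgroup G) = 9)
    (hP : Plain P) :
    (∃ (B : IrrCharacter G) (i : ℕ), B ≠ trivChar G ∧ charDegree (B : G → ℂ) = q ∧
      (q = 2 ^ i + 1 ∨ q + 1 = 2 ^ i) ∧
      ∀ x ∈ (P : Subgroup G), x ≠ 1 → ∀ s : G, Commute s x → ¬ 3 ∣ orderOf s →
        (B : G → ℂ) (x * s) = (B : G → ℂ) x) ∧ 7 ≤ q ∧
    ∀ t : G, orderOf t = 2 → ∃ y ∈ (P : Subgroup G), y ≠ 1 ∧ ∃ t', IsConj t t' ∧ t' * y * t'⁻¹ = y⁻¹ := by
  have hF := hP.frob h9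
  have hm := hP.autCard h9
  obtain ⟨M, hM⟩ := DegreeTools.TISum.exists_pmodular Nat.prime_three
  obtain ⟨X, Y, c, d, δ, ζ, hB, hdisj, htX, hXm, hYm, hδ, hX, hζY, hsurj, hiff, hval, hnorm, -, hrel⟩ :=
    TIAbelian.exceptional hF (by rw [hm, h9]; norm_num) hM
  rw [hm] at hXm hYm hnorm
  rw [h9] at hYm
  norm_num only at hnorm
  have hY4 : Y.card = 4 := by omega
  rw [hY4] at hnorm hrel
  obtain ⟨y₀, hy₀P, hy₀⟩ : ∃ y ∈ (P : Subgroup G), y ≠ 1 := by
    refine ((Subgroup.ne_bot_iff_exists_ne_one (H := (P : Subgroup G))).1 fun e => ?_).elim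
      fun y hy => ⟨y, y.2, fun e => hy (Subtype.ext e)⟩
    rw [e, Subgroup.card_bot] at h9
    omega
  have hself : ∀ {y : G}, y ∈ (P : Subgroup G) → IsPPart 3 y y := fun hy => IndexThree.isPPart_self hy
  have hct : c (trivChar G) = 1 := by
    have e := (hX _ htX).2 _ _ (hself hy₀P) hy₀P hy₀
    rw [trivChar_apply] at e
    exact_mod_cast e.symm
  -- one further character in `X` and no constant
  have hrest : ∑ χ ∈ X, c χ ^ 2 = 1 + ∑ χ ∈ X.erase (trivChar G), c χ ^ 2 := by
    rw [← Finset.add_sum_erase _ _ htX, hct, one_pow]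
  have hge : (X.erase (trivChar G)).card ≤ ∑ χ ∈ X.erase (trivChar G), c χ ^ 2 := by
    rw [Finset.card_eq_sum_ones, Nat.cast_sum]
    refine Finset.sum_le_sum fun χ hχ => ?_
    have := (hX χ (Finset.mem_erase.1 hχ).2).1
    have h1 : 0 < c χ ^ 2 := by positivity
    push_cast
    omega
  have hd0 : d = 0 := by
    have : (Nat.cast 4 : ℤ) = 4 := rfl
    push_cast at hnorm
    rw [hrest] at hnorm
    by_contra hd
    have h1 : 1 ≤ d ^ 2 := by
      have : 0 < d ^ 2 := by positivity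
      omega
    have h2 : 0 ≤ (d - δ) ^ 2 := sq_nonneg _
    nlinarith [Int.natCast_nonneg (X.erase (trivChar G)).card]
  subst hd0
  have hsq : ∑ χ ∈ X.erase (trivChar G), c χ ^ 2 = 1 := by
    rw [hrest] at hnorm
    rcases hδ with e | e <;> rw [e] at hnorm <;> linarith
  have hX2 : (X.erase (trivChar G)).card = 1 := by
    have h1 : 1 ≤ (X.erase (trivChar G)).card := by
      by_contra h0
      rw [Finset.card_eq_zero.1 (by omega : (X.erase (trivChar G)).card = 0), Finset.sum_empty] at hsq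
      omega
    omega
  obtain ⟨χ, hχ⟩ := Finset.card_eq_one.1 hX2
  obtain ⟨hχt, hχX⟩ := Finset.mem_erase.1 (hχ ▸ Finset.mem_singleton_self χ : χ ∈ X.erase (trivChar G))
  rw [hχ, Finset.sum_singleton] at hsq
  set ε := c χ with hε
  have hε1 : ε = 1 ∨ ε = -1 := sq_eq_one_iff.1 hsq
  have hXeq : X = {trivChar G, χ} := by rw [← Finset.insert_erase htX, hχ]
  have hpos : ∀ z y : G, IsPPart 3 z y → y ∈ (P : Subgroup G) → y ≠ 1 → (χ : G → ℂ) z = (ε : ℂ) := (hX χ hχX).2
  obtain ⟨η, hη⟩ : Y.Nonempty := Finset.card_pos.1 (by omega)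
  have hηt : η ≠ trivChar G := fun e => Finset.disjoint_left.1 hdisj htX (e ▸ hη)
  -- degrees
  set e := charDegree (χ : G → ℂ) with he
  set f := charDegree (η : G → ℂ) with hf
  have hreg1 : ∀ g : G, ¬ 3 ∣ orderOf g → (δ : ℂ) * (η : G → ℂ) g = 1 + (ε : ℂ) * (χ : G → ℂ) g := by
    intro g hg
    have e1 := hrel η hη g hg
    rw [hXeq, Finset.sum_pair (Ne.symm hχt), hct, trivChar_apply, ← hε] at e1
    push_cast at e1
    linear_combination -e1
  have hfe : δ * (f : ℤ) = 1 + ε * (e : ℤ) := by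
    have e1 := hreg1 1 (by rw [orderOf_one]; decide)
    rw [irr_one_eq, irr_one_eq] at e1
    exact_mod_cast e1
  obtain ⟨m, hm9⟩ := sum_rest (P : Subgroup G) (χ := χ) (ε := ε) fun y hy hy1 => hpos y y (hself hy) hy hy1
  rw [h9, ← he] at hm9
  have he2 : 2 ≤ e := by
    have h0 := charDegree_pos χ
    have h1 : charDegree (χ : G → ℂ) ≠ 1 := fun h => hχt (BlockDegrees.eq_trivChar hG χ h)
    omega
  have hf0 := charDegree_pos η
  rw [← hf] at hf0
  -- the pair of consecutive degrees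
  obtain ⟨u, v, n, hu, hv, hun, hvn, hn3, hn3', hcase⟩ : ∃ (u v : IrrCharacter G) (n : ℕ), u ≠ trivChar G ∧
      v ≠ trivChar G ∧ charDegree (u : G → ℂ) = n ∧ charDegree (v : G → ℂ) = n + 1 ∧ ¬ 3 ∣ n ∧ ¬ 3 ∣ n + 1 ∧
      ((u = χ ∧ v = η ∧ ε = 1 ∧ δ = 1) ∨ (u = η ∧ v = χ ∧ ε = -1 ∧ δ = -1)) := by
    rcases hε1 with e1 | e1 <;> rcases hδ with e2 | e2 <;> rw [e1, e2] at hfe <;> rw [e1] at hm9 <;> push_cast at hm9
    · exact ⟨χ, η, e, hχt, hηt, he.symm, by omega, by omega, by omega, Or.inl ⟨rfl, rfl, e1, e2⟩⟩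
    · exfalso; omega
    · exfalso; omega
    · exact ⟨η, χ, f, hηt, hχt, hf.symm, by omega, by omega, by omega, Or.inr ⟨rfl, rfl, e1, e2⟩⟩
  obtain ⟨i, hi⟩ := exists_degree_eq hG hq hq2 hq3 hcard hu hun hvn hn3 hn3'
  have hmem : ∀ w : IrrCharacter G, w = χ ∨ w = η → w ∈ principalBlock M G := fun w hw => by
    rcases hw with rfl | rfl
    · exact (hB _).2 (Or.inl hχX)
    · exact (hB _).2 (Or.inr hη)
  have hconst : ∀ w : IrrCharacter G, w = χ ∨ w = η → ∀ x ∈ (P : Subgroup G), x ≠ 1 → ∀ s : G, Commute s x →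
      ¬ 3 ∣ orderOf s → (w : G → ℂ) (x * s) = (w : G → ℂ) x := by
    intro w hw x hx hx1 s hsx hs
    obtain ⟨k, hk⟩ := IsPGroup.iff_orderOf.mp P.2 ⟨x, hx⟩
    rw [Subgroup.orderOf_mk] at hk
    exact SectionSums.apply_section hM (hmem w hw) ⟨k, hk⟩ (hF.npc_centralizer hx hx1) hsx hs
  refine ⟨?_, ?_, ?_⟩
  · rcases hi with ⟨h1, -, h3⟩ | ⟨h1, -, h3⟩
    · exact ⟨v, i, hv, h1, Or.inl h3, hconst v (by
        rcases hcase with ⟨-, hh, -, -⟩ | ⟨-, hh, -, -⟩
        · exact Or.inr hh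
        · exact Or.inl hh)⟩
    · exact ⟨u, i, hu, h1, Or.inr h3, hconst u (by
        rcases hcase with ⟨hh, -, -, -⟩ | ⟨hh, -, -, -⟩
        · exact Or.inl hh
        · exact Or.inr hh)⟩
  · -- `q` is not five
    have h5 : q ≠ 5 := by
      rintro rfl
      have hn4 : n = 4 := by
        rcases hi with ⟨h1, -, -⟩ | ⟨h1, h2, h3⟩
        · omega
        · exfalso
          rcases Nat.lt_or_ge i 3 with hi3 | hi3
          · interval_cases i <;> omega
          · have : 2 ^ 3 ≤ 2 ^ i := Nat.pow_le_pow_right (by norm_num) hi3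
            omega
      subst hn4
      rcases hcase with ⟨rfl, -, e1, -⟩ | ⟨-, rfl, e1, -⟩ <;> rw [e1] at hm9 <;> push_cast at hm9 <;> omega
    have := hq.two_le
    have : q ≠ 4 := by rintro rfl; norm_num at hq
    have : q ≠ 6 := by rintro rfl; norm_num at hq
    omega
  · -- every involution inverts a nontrivial 3-element
    intro t ht
    by_contra hcon
    have ht2 : t * t = 1 := by rw [← sq, ← ht, pow_orderOf_eq_one]
    obtain ⟨k₀, hk₀⟩ := IsPGroup.iff_orderOf.mp P.2 ⟨y₀, hy₀P⟩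
    have hsec : ∀ y ∈ (P : Subgroup G), y ≠ 1 → ∑ w ∈ (principalBlock M G).toFinset,
        (w : G → ℂ) t ^ 2 * (w : G → ℂ) y / (w : G → ℂ) 1 = 0 := fun y hy hy1 =>
      IndexThree.section_sum hF hM t hy hy1 fun s hs x hx hw => by
        refine hcon ⟨y, hy, hy1, x, hx, ?_⟩
        obtain ⟨g, hg⟩ := isConj_iff.1 hx
        obtain ⟨g', hg'⟩ := isConj_iff.1 hw
        have hxx : x * x = 1 := by
          rw [← hg, show g * t * g⁻¹ * (g * t * g⁻¹) = g * (t * t) * g⁻¹ by group, ht2, mul_one, mul_inv_cancel]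
        have hww : x⁻¹ * (y * (s : G))⁻¹ * (x⁻¹ * (y * (s : G))⁻¹) = 1 := by
          rw [← hg', show g' * t * g'⁻¹ * (g' * t * g'⁻¹) = g' * (t * t) * g'⁻¹ by group, ht2, mul_one, mul_inv_cancel]
        exact IndexThree.inverts hy (Subgroup.mem_centralizer_singleton_iff.1 s.2).symm
          (by rw [Subgroup.orderOf_coe]; exact hs) hxx hww (mul_inv_cancel_left x _)
    have h0 := hsec y₀ hy₀P hy₀
    have hset : (principalBlock M G).toFinset = X ∪ Y := by
      ext w; simp [Set.mem_toFinset, hB]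
    rw [hset, Finset.sum_union hdisj, hXeq, Finset.sum_pair (Ne.symm hχt), trivChar_apply, trivChar_apply,
      trivChar_apply, hpos y₀ y₀ (hself hy₀P) hy₀P hy₀] at h0
    -- the exceptional characters agree at `t` and their values at `y₀` sum to `-δ`
    have hodd : ¬ 3 ∣ orderOf t := by rw [ht]; decide
    have hYval : ∀ w ∈ Y, (δ : ℂ) * (w : G → ℂ) t = 1 + (ε : ℂ) * (χ : G → ℂ) t ∧ charDegree (w : G → ℂ) = f := by
      intro w hw
      have e1 := hrel w hw t hodd
      have e2 := hrel w hw 1 (by rw [orderOf_one]; decide)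
      rw [hXeq, Finset.sum_pair (Ne.symm hχt), hct, trivChar_apply, ← hε] at e1 e2
      push_cast at e1 e2
      refine ⟨by linear_combination -e1, ?_⟩
      have e3 : (δ : ℂ) * (charDegree (w : G → ℂ) : ℂ) = (δ : ℂ) * (f : ℂ) := by
        rw [irr_one_eq, irr_one_eq] at e2
        have e4 := hreg1 1 (by rw [orderOf_one]; decide)
        rw [irr_one_eq, irr_one_eq] at e4
        linear_combination -e2 - e4
      have hδ0 : (δ : ℂ) ≠ 0 := by rcases hδ with e | e <;> rw [e] <;> norm_num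
      exact_mod_cast mul_left_cancel₀ hδ0 e3
    set x := (χ : G → ℂ) t with hx
    set z : ℂ := (δ : ℂ) * (1 + (ε : ℂ) * x) with hz
    have hδ2 : (δ : ℂ) * δ = 1 := by rcases hδ with e | e <;> rw [e] <;> norm_num
    have hwz : ∀ w ∈ Y, (w : G → ℂ) t = z := fun w hw => by
      rw [hz, ← (hYval w hw).1, ← mul_assoc, hδ2, one_mul]
    have hsumY : ∑ w ∈ Y, (w : G → ℂ) y₀ = -(δ : ℂ) := by
      -- column orthogonality of the exceptional characters against the identity, through the relation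
      have hs : ∑ w ∈ (principalBlock M G).toFinset, (w : G → ℂ) 1 * (w : G → ℂ) y₀ = 0 := by
        have := IndexThree.section_sum hF hM 1 hy₀P hy₀ fun s hs x hx hw => by
          obtain ⟨g, hg⟩ := isConj_iff.1 hx
          obtain ⟨g', hg'⟩ := isConj_iff.1 hw
          rw [mul_one, mul_inv_cancel] at hg hg'
          rw [← hg, inv_one, one_mul] at hg'
          have e1 : y₀ * (s : G) = 1 := inv_eq_one.1 hg'.symm
          have e2 := IndexThree.isPPart_self hy₀P (p := 3)
          have e3 := isPPart_mul (Subgroup.mem_centralizer_singleton_iff.1 s.2).symm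
            (k := k₀) (by rw [← hk₀, Subgroup.orderOf_mk]) (by rw [Subgroup.orderOf_coe]; exact hs)
          rw [e1] at e3
          exact hy₀ (isPPart_unique Nat.prime_three e3 (isPPart_one_of_regular (by rw [orderOf_one]; decide)))
        refine Eq.trans (Finset.sum_congr rfl fun w _ => ?_) this
        rw [sq, mul_assoc, mul_div_cancel_left₀ _ (irr_one_ne_zero w)]
      rw [hset, Finset.sum_union hdisj, hXeq, Finset.sum_pair (Ne.symm hχt), trivChar_apply, trivChar_apply,
        hpos y₀ y₀ (hself hy₀P) hy₀P hy₀, irr_one_eq, ← he] at hs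
      rw [Finset.sum_congr (s₁ := Y) rfl (g := fun w : IrrCharacter G => (f : ℂ) * (w : G → ℂ) y₀) fun w hw => by
        rw [irr_one_eq, (hYval w hw).2], ← Finset.mul_sum] at hs
      have hfe' : (δ : ℂ) * f = 1 + (ε : ℂ) * e := by exact_mod_cast hfe
      have hf' : (f : ℂ) ≠ 0 := Nat.cast_ne_zero.2 (by omega)
      refine mul_left_cancel₀ hf' ?_
      linear_combination hs + hfe'
    rw [Finset.sum_congr (s₁ := Y) rfl (g := fun w : IrrCharacter G => z ^ 2 / (f : ℂ) * (w : G → ℂ) y₀) fun w hw => by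
      rw [hwz w hw, irr_one_eq, (hYval w hw).2]; ring, ← Finset.mul_sum, hsumY, irr_one_eq, ← he] at h0
    have he' : (e : ℂ) ≠ 0 := Nat.cast_ne_zero.2 (by omega)
    have hf' : (f : ℂ) ≠ 0 := Nat.cast_ne_zero.2 (by omega)
    have hfe' : (δ : ℂ) * f = 1 + (ε : ℂ) * e := by exact_mod_cast hfe
    have hε2 : (ε : ℂ) * ε = 1 := by rcases hε1 with r | r <;> rw [r] <;> norm_num
    rw [hz] at h0
    field_simp at h0
    have hkey : (ε : ℂ) * ((x - e) * (x - e)) = 0 := by
      rcases hε1 with r | r <;> rcases hδ with r' | r' <;> rw [r'] at h0 hfe' <;> rw [r] at h0 hfe' ⊢ <;>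
        push_cast at h0 hfe' ⊢ <;>
        first
          | linear_combination h0 - (e + x ^ 2) * hfe'
          | linear_combination -h0 - (e + x ^ 2) * hfe'
          | linear_combination h0 - (e - x ^ 2) * hfe'
          | linear_combination -h0 - (e - x ^ 2) * hfe'
          | linear_combination -h0 + (e + x ^ 2) * hfe'
          | linear_combination h0 + (e + x ^ 2) * hfe'
          | linear_combination -h0 + (e - x ^ 2) * hfe'
          | linear_combination h0 + (e - x ^ 2) * hfe'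
    have hxe : x = (e : ℂ) := by
      have hε0 : (ε : ℂ) ≠ 0 := fun e' => by rw [e', zero_mul] at hε2; exact zero_ne_one hε2
      exact sub_eq_zero.1 (mul_self_eq_zero.1 ((mul_eq_zero.1 hkey).resolve_left hε0))
    have ht1 : t ≠ 1 := fun h => by rw [h, orderOf_one] at ht; omega
    exact ht1 (Cofactor.faithful hχt t (by rw [irr_one_eq]; exact hxe))

end CfsgLib.SmallGroups.NineTwoPrimes
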